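import Cfsg.Agent.H14.CBSpec

/-! Job Act of the tower CB (S1308): an element acting on a line acts as an element of `P`. -/

set_option autoImplicit false

namespace H38.CbAct

open Cfsg Subgroup MulAction H14 H98 H1.Gold H31.S2 H14.GC H14.FE H14.NF H14.CB
open scoped commutatorElement

universe u

theorem jobAct : JAct.{u} := by
  intro G _ _ Q E tg Q₁ T P ln x hx hc
  by_cases h0 : ∃ t ∈ T, t ≠ 1
  swap
  · refine ⟨1, one_mem _, fun t ht => ?_⟩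
    have : t = 1 := by_contra fun e => h0 ⟨t, ht, e⟩
    simp [this]
  obtain ⟨t0, ht0, t1⟩ := h0
  obtain ⟨g, hQ, hT⟩ := ln.col.p2
  have TQ : T ≤ Q₁ := by rw [hQ, hT]; exact cj_mono g tg.le
  have el0 : t0 * t0 = 1 := by
    have h := tg.el _ (mem_cj.1 (hT ▸ ht0))
    have h' : g⁻¹ * (t0 * t0) * g = 1 := by rw [← h]; group
    calc t0 * t0 = g * (g⁻¹ * (t0 * t0) * g) * g⁻¹ := by group
      _ = 1 := by rw [h']; group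
  obtain ⟨y, hy, e0⟩ := ln.fu t0 ht0 t1 _ (hc t0 ht0)
  have hw : y⁻¹ * x ∈ nor Q₁ := by
    rw [hQ]
    refine tg.cen_le g t0 (hQ ▸ TQ ht0) ⟨t1, el0⟩ (mem_cen1.2 ?_)
    rw [commutatorElement_def, commutatorElement_def] at e0
    calc y⁻¹ * x * t0 = y⁻¹ * (t0 * x * t0⁻¹ * x⁻¹)⁻¹ * t0 * x := by group
      _ = t0 * (y⁻¹ * x) := by rw [← e0]; group
  have ni : NI (Q ⊓ Q₁) := by
    have h := tg.ti 1 g (by rw [cj_one, ← hQ]; exact ln.col.ne)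
    rwa [cj_one, ← hQ] at h
  refine ⟨y, hy, fun t ht => ?_⟩
  have e1 : t⁻¹ * (y⁻¹ * x * t * (y⁻¹ * x)⁻¹) = ⁅t⁻¹, y⁻¹⁆ * ⁅t⁻¹, x⁆ := by
    have h := (ln.pg.le hy).2 _ (hc _ (inv_mem ht))
    calc t⁻¹ * (y⁻¹ * x * t * (y⁻¹ * x)⁻¹) = ⁅t⁻¹, y⁻¹⁆ * (y⁻¹ * (⁅t⁻¹, x⁆ * y)) := by
          simp only [commutatorElement_def]; group
      _ = ⁅t⁻¹, y⁻¹⁆ * ⁅t⁻¹, x⁆ := by rw [h]; group
  have m1 : t⁻¹ * (y⁻¹ * x * t * (y⁻¹ * x)⁻¹) ∈ Q₁ :=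
    mul_mem (inv_mem (TQ ht)) (conj_mem_of_mem_normalizer hw (TQ ht))
  have m2 : t⁻¹ * (y⁻¹ * x * t * (y⁻¹ * x)⁻¹) ∈ E :=
    e1 ▸ mul_mem (ln.pg.cm _ (inv_mem ht) _ (inv_mem hy)) (hc _ (inv_mem ht))
  have e2 : t⁻¹ * (y⁻¹ * x * t * (y⁻¹ * x)⁻¹) = 1 :=
    by_contra fun e => ni _ ⟨tg.le m2, m1⟩ ⟨e, tg.el _ m2⟩
  have e3 : x * t * x⁻¹ = y * t * y⁻¹ := by
    calc x * t * x⁻¹ = y * t * (t⁻¹ * (y⁻¹ * x * t * (y⁻¹ * x)⁻¹)) * y⁻¹ := by group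
      _ = y * t * y⁻¹ := by rw [e2, mul_one]
  calc ⁅t, x⁆ = t * (x * t * x⁻¹)⁻¹ := by rw [commutatorElement_def]; group
    _ = ⁅t, y⁆ := by rw [e3, commutatorElement_def]; group

end H38.CbAct
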