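import Cfsg.Agent.H38.Ito
import Cfsg.Agent.H38.PrinCov
import Cfsg.Agent.H41.LocDefect
import Cfsg.Agent.H39.Dict

/-! Heights and normal subgroups. -/

set_option autoImplicit false
open scoped MonoidAlgebra

namespace H38
open Cfsg H28 H35 H39
open H36 hiding pull coeff_pull
open H34 (eB lam omega redA fC IntC intC_fC Z ofFun)
open H37 (IsSylowIn)

variable {G : Type*} [Group G] [Finite G] {p : ℕ} {M : Ideal AlgInt} [M.IsMaximal]
  {N K : Subgroup G}

theorem charDegree_dvd_of_over_le [N.Normal] [Fintype N] (hNK : N ≤ K) {χ : K → ℂ}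
    (hχ : IsIrrCharacter K χ) {θ : N → ℂ} (hθ : IsIrrCharacter N θ)
    (h : Over (Subgroup.inclusion hNK) χ θ) :
    (H32.inertia θ).relIndex K * charDegree θ ∣ charDegree χ := by
  cases nonempty_fintype (N.subgroupOf K)
  have h1 := charDegree_dvd_of_over hχ (H32.isIrrCharacter_subgroupOf hNK hθ)
    ((H32.classInner_res_subgroupOf hNK χ θ).trans_ne h)
  rwa [H32.inertia_subgroupOf hNK] at h1

theorem factorization_card_eq (hp : p.Prime) {D : Subgroup G} (hK : K ≤ Nor N) (hNK : N ≤ K)
    (hD : D ≤ K) : (Nat.card K).factorization p + (Nat.card (D ⊓ N : Subgroup G)).factorization p =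
      ((D ⊔ N).relIndex K).factorization p + (Nat.card D).factorization p +
        (Nat.card N).factorization p := by
  have h1 := card_sup_mul_card_inf (hD.trans hK)
  have h2 : Nat.card (D ⊔ N : Subgroup G) * (D ⊔ N).relIndex K = Nat.card K := by
    rw [← Subgroup.relIndex_bot_left, ← Subgroup.relIndex_bot_left,
      Subgroup.relIndex_mul_relIndex _ _ _ bot_le (sup_le hD hNK)]
  have h3 := congrArg (fun n => n.factorization p) h1
  have h4 := congrArg (fun n => n.factorization p) h2
  rw [Nat.factorization_mul Nat.card_pos.ne' Nat.card_pos.ne',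
    Nat.factorization_mul Nat.card_pos.ne' Nat.card_pos.ne'] at h3
  rw [Nat.factorization_mul Nat.card_pos.ne' (show (D ⊔ N).relIndex K ≠ 0 from
    Subgroup.index_ne_zero_of_finite)] at h4
  simp only [Finsupp.add_apply] at h3 h4
  omega

/-- A height zero character of a covering block whose defect group `D` satisfies
`p ∤ |K : DN|` lies over height zero characters with inertia group of `p'`-index. -/
theorem height_zero_of_over [N.Normal] [Fintype N] (hM : IsPModular p M) (hNK : N ≤ K)
    {b : Set (IrrCharacter N)} (hb : IsPBlock M b) {B : Set (IrrCharacter K)} (hB : IsPBlock M B)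
    {D : Subgroup G} (hD : IsDef p K (eS M K B) D) (hDN : IsDef p N (eS M N b) (D ⊓ N))
    (hi : ¬ p ∣ (D ⊔ N).relIndex K) {χ : IrrCharacter K} (hχ : χ ∈ B)
    (h0 : blockHeight p B χ.1 = 0) {θ : IrrCharacter N} (hθ : θ ∈ b)
    (h : Over (Subgroup.inclusion hNK) χ.1 θ.1) :
    blockHeight p b θ.1 = 0 ∧ ¬ p ∣ (H32.inertia θ.1).relIndex K := by
  have h1 := factorization_card_eq hM.1 (nor_of_normal N K) hNK hD.le
  rw [H41.isDef_card_eq hM hB hD, H41.isDef_card_eq hM hb hDN,
    Nat.factorization_eq_zero_of_not_dvd hi, hM.1.factorization_pow,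
    hM.1.factorization_pow, Finsupp.single_eq_same, Finsupp.single_eq_same] at h1
  have h2 := nu_add_blockDefect p hχ
  have h3 := nu_add_blockDefect p hθ
  have h4 := (Nat.factorization_le_iff_dvd (mul_ne_zero Subgroup.index_ne_zero_of_finite
    (deg_ne_zero θ)) (deg_ne_zero χ)).2 (charDegree_dvd_of_over_le hNK χ.2 θ.2 h) p
  rw [Nat.factorization_mul Subgroup.index_ne_zero_of_finite (deg_ne_zero θ),
    Finsupp.add_apply] at h4
  refine ⟨by omega, fun hd => ?_⟩
  have := (hM.1.dvd_iff_one_le_factorization Subgroup.index_ne_zero_of_finite).1 hd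
  omega

/-- An invariant block of a normal subgroup has a height zero character whose inertia group has
index prime to `p`. -/
theorem exists_height_zero_inertia [N.Normal] (hM : IsPModular p M) (hNK : N ≤ K)
    {b : Set (IrrCharacter N)} (hb : IsPBlock M b) (hi : Inv K (eS M N b)) :
    ∃ θ ∈ b, blockHeight p b θ.1 = 0 ∧ ¬ p ∣ (H32.inertia θ.1).relIndex K := by
  cases nonempty_fintype N
  have := Fact.mk hM.1
  have := charP_F hM
  have hK := nor_of_normal N K
  obtain ⟨D, hD⟩ := fong_exists_isDef (p := p) hNK (blk_eS hb) hi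
  obtain ⟨E, hE, hEe, hDE⟩ := fong_exists_cover hNK (blk_eS hb) hi hD
  obtain ⟨B, hB, rfl⟩ := Blk.exists_eS hE
  obtain ⟨χ, hχ, h0⟩ := exists_height_zero p (H34.block_nonempty hB)
  obtain ⟨θ, hθ, h⟩ := Covers.exists_under (E := NEmb.ofLe hNK hK) hB (bcl_of_isPBlock hb)
    ((covers_le_iff_eS hNK hK hB hb).2 hEe) hχ
  exact ⟨θ, hθ, height_zero_of_over hM hNK hb hB hDE (fong_inf hK hNK (blk_eS hb) hD)
    (fong_not_dvd' hM hNK hK (blk_eS hb) hi hD) hχ h0 hθ h⟩

end H38
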