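import Cfsg.Agent.H78.TESpec
import Cfsg.Agent.H64.SGK89

/-! STD-2E6, field case: the centraliser of the lift of `W` lies in `N(G₁)` (`JobF2a`). -/

set_option autoImplicit false
set_option linter.unusedSectionVars false
set_option maxRecDepth 100000

namespace H38.TEF

open H98 Subgroup Cfsg Cfsg.Lie H63 H65 H64 H64.SG H78.TE
open scoped commutatorElement

universe u

theorem clU : Cl SU := by decide +kernel
theorem clW : Cl SW := by decide +kernel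
theorem clQ : Cl SQ := by decide +kernel
theorem ipW : ∀ r s : Rt E6, 2 ≤ a4 r → 2 ≤ a4 s → 0 ≤ ip r s := by decide +kernel
theorem WQ : ∀ r : Rt E6, 2 ≤ a4 r → 1 ≤ a2 r := by decide +kernel

/-- The three root sets. -/
def SS (j : Fin 3) : Set (Rt E6) := {r | if j = 0 then 36 ≤ r.1 else if j = 1 then 2 ≤ a4 r else 1 ≤ a2 r}

instance (j : Fin 3) : DecidablePred (· ∈ SS j) := fun r => by unfold SS; infer_instance

theorem clS : ∀ j, Cl (SS j) := by decide +kernel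
theorem WS : ∀ j, ∀ r : Rt E6, 2 ≤ a4 r → r ∈ SS j := by decide +kernel
theorem nrmS : ∀ j, ∀ r : Rt E6, 36 ≤ r.1 → ∀ s ∈ SS j, s ≠ ng r ∧ (ip r s = -1 → su r s ∈ SS j) := by
  decide +kernel
theorem nrmG : ∀ r : Rt E6, hN r = 1 ∨ hN r = -1 →
    ∃ j, ∀ s ∈ SS j, s ≠ ng r ∧ (ip r s = -1 → su r s ∈ SS j) := by decide +kernel
theorem short : ∀ ρ : Rt E6, gm ρ ≠ ρ → ∃ s r : Rt E6, gm r = r ∧ ip s r = -1 ∧ su s r = ρ ∧
    ip s (gm ρ) = -1 ∧ gm (su s (gm ρ)) = su s (gm ρ) := by decide +kernel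

section Gen

variable {K : Type} [Field K] [CharP K 2] {G : Type*} [Group G] {y : ℕ → K → G}

theorem comm_W (h : St E6 y) {a b : G} (ha : a ∈ gen (XR E6 y) SW) (hb : b ∈ gen (XR E6 y) SW) :
    a * b = b * a :=
  (H64.SG.gen_le_iff.2 (fun r hr c => mem_Cs_gen.2 fun s hs d =>
    e6.comm_of_nonneg h (ip_eq s r ▸ ipW s r hs hr) d c) hb : b ∈ Cs (gen (XR E6 y) SW)) a ha

theorem sq_W (h : St E6 y) {a : G} (ha : a ∈ gen (XR E6 y) SW) : a * a = 1 := by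
  let H : Subgroup G :=
    { carrier := {g | g ∈ gen (XR E6 y) SW ∧ g * g = 1}
      one_mem' := ⟨one_mem _, one_mul _⟩
      mul_mem' := fun {a b} ha hb => ⟨mul_mem ha.1 hb.1, by
        rw [mul_assoc, ← mul_assoc b, comm_W h hb.1 ha.1, mul_assoc, hb.2, mul_one, ha.2]⟩
      inv_mem' := fun {a} ha => ⟨inv_mem ha.1, by rw [← mul_inv_rev, ha.2, inv_one]⟩ }
  exact ((H64.SG.gen_le_iff (K := H)).2 (fun r hr c => ⟨H64.SG.x_mem_gen hr c, x_sq h r c⟩) ha).2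

end Gen

section Up

variable {X : Type} [Group X] {G : Type u} [Group G] [Finite G] {L : Subgroup G} (c : Cov X L)

theorem mem_Ns_up {A : Subgroup X} (hA : IsPGroup 2 A) {l : G} (hl : l ∈ L) (h : c.pi l ∈ Ns A) :
    l ∈ Ns (up c A) := mem_normalizer_fintype fun g hg => by
  obtain ⟨g1, g2, g3⟩ := (mem_up c hA).1 hg
  exact (mem_up c hA).2 ⟨mul_mem (mul_mem hl g1) (inv_mem hl), g2.conj l, by
    rw [c.pi_conj hl g1]; exact conj_mem_of_mem_normalizer h g3⟩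

theorem le_of_im (hp : L ≤ ⁅L, L⁆) {H : Subgroup G} (h : c.im H = ⊤) : L ≤ H := by
  have k : ∀ l ∈ L, ∃ a ∈ H, a ∈ L ∧ a⁻¹ * l ∈ Cs L := fun l hl => by
    obtain ⟨a, a1, a2, e⟩ := c.mem_im.1 (h ▸ mem_top (c.pi l))
    exact ⟨a, a1, a2, c.ker_cen _ (mul_mem (inv_mem a2) hl) (by
      rw [c.pi_mul _ (inv_mem a2) _ hl, c.pi_inv a2, e, inv_mul_cancel])⟩
  refine hp.trans (commutator_le.2 fun l hl m hm => ?_)
  obtain ⟨a, a1, a2, a3⟩ := k l hl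
  obtain ⟨b, b1, b2, b3⟩ := k m hm
  have e1 : Commute m (a⁻¹ * l) := a3 m hm
  have e2 : Commute a⁻¹ (b⁻¹ * m) := b3 _ (inv_mem a2)
  have : ⁅l, m⁆ = a * b * a⁻¹ * b⁻¹ := by
    calc _ = a * ((a⁻¹ * l) * m * (a⁻¹ * l)⁻¹) * a⁻¹ * m⁻¹ := by rw [commutatorElement_def]; group
      _ = a * b * ((b⁻¹ * m) * a⁻¹) * m⁻¹ := by rw [← e1.eq]; group
      _ = _ := by rw [← e2.eq]; group
  rw [this]
  exact mul_mem (mul_mem (mul_mem a1 b1) (inv_mem a1)) (inv_mem b1)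

end Up

variable {F K : Type} [Field F] [Finite F] [CharP F 2] [Field K] [Finite K] [CharP K 2] {T : Qd F K}
  {G : Type u} [Group G] [Finite G] {F₀ L : Subgroup G} {t : G} {c : Cov T.X L} {y : ℕ → K → G}
  {C : Comp E6 y}

theorem gt_p (X : T.XF) {S : Set (Rt E6)} (hS : Cl S) : IsPGroup 2 (T.gt S) :=
  X.kb.isP.to_le (T.gt_mono hS.1.1)

theorem gen_U {S : Set (Rt E6)} (hS : Cl S) : gen (XR E6 y) S ≤ UU E6 y :=
  gen_le_UU fun r hr => pos_iff.2 (hS.1.1 r hr)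

theorem up_le_gen (X : T.XF) (B : T.FF F₀ c t C) {S : Set (Rt E6)} (hS : Cl S) :
    up c (T.gt S) ≤ gen (XR E6 y) S := fun g hg => by
  obtain ⟨g1, g2, g3⟩ := (mem_up c (gt_p X hS)).1 hg
  exact C.mem_gen (C.isPGroup_UU.to_le (gen_U hS)) (B.le g1) g2
    (B.pp g g1 ▸ (X.kb.gtY S hS _).1 g3)

theorem lift_xs (c : Cov T.X L) (r : Rt E6) (a : K) : ∃ l ∈ L, l * l = 1 ∧ c.pi l = T.xs r a := by
  obtain ⟨l, l1, l2, e⟩ := c.exists_lift2 (is2_of_sq (T.xs_sq r a))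
  exact ⟨l, l1, c.sq_of_pi l1 l2 (by rw [e, T.xs_sq]), e⟩

theorem conj_tv (X : T.XF) (B : T.FF F₀ c t C) {v : G} (hv : v ∈ L) (v2 : v * v = 1) :
    IsConj t (t * v) := by
  have s : IsSyl 2 (up c T.U) L := c.isSyl_of_im le_rfl (up_spec c X.kb.isP).1 (up_le c _) (by
    have := c.finite_X
    rw [(up_spec c X.kb.isP).2.2.1, c.im_top]; exact syl_iff.1 X.tb.syl)
  obtain ⟨m, m1, m2⟩ := s.exists_cj_le (is2_of_sq v2).zpowers (zpowers_le.2 hv)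
  have h1 := m2 (conj_mem_cj (mem_zpowers v))
  have h2 := B.cfg.tL _ (up_le c _ h1)
  obtain ⟨w, -, e⟩ := B.cob _ (gen_U clU (up_le_gen X B clU h1)) (by
    rw [mul_assoc, ← mul_assoc t, ← h2, mul_assoc _ t t, B.cfg.inv.1, mul_one, conj_mul, v2]; group)
  refine isConj_iff.2 ⟨m⁻¹ * w, ?_⟩
  calc _ = m⁻¹ * (w * t * w⁻¹) * m := by group
    _ = v * (m⁻¹ * t) * m := by rw [← e]; group
    _ = _ := by rw [B.cfg.tL _ (inv_mem m1), ← B.cfg.tL v hv]; group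

/-- An element of `M` that centralises the lift of `W`. -/
theorem cen_W (X : T.XF) (B : T.FF F₀ c t C) (ho : Odd (Nat.card (Cs (GG E6 y))))
    (ht : t ∈ Ns (GG E6 y)) {m : G} (hm : m ∈ Ns (GG E6 y)) (h1 : m ∈ Cs (up c T.W)) :
    (Is2 (m * t * m⁻¹ * t⁻¹) → m * t * m⁻¹ * t⁻¹ ∈ up c T.W) ∧
      (Odd (orderOf m) → m ∈ Cs (GG E6 y)) := by
  have pW := gt_p X clW
  obtain ⟨ζ, z1, z2⟩ := X.cy (C.ac m) fun g hg => by
    obtain ⟨l, l1, l2, rfl⟩ := c.exists_lift2 (isPGroup_iff_is2.1 pW g hg)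
    rw [← B.pp l l1]
    exact C.ac_of_comm hm (B.le l1) (h1 l ((mem_up c pW).2 ⟨l1, l2, hg⟩)).symm
  obtain ⟨l, l1, rfl⟩ := C.exists_lift_gen z1
  have l2 := gen_le_GG _ l1
  obtain ⟨s, s1, s2, s3, h2⟩ : ∃ s, s ∈ Ns (GG E6 y) ∧ s ∈ zpowers t ∧ s * t = t * s ∧
      C.ac m = C.ac (l * s) := by
    rcases z2 with e | e
    · exact ⟨1, one_mem _, one_mem _, by simp, by rw [mul_one, C.ac_of_mem l2, e]⟩
    · exact ⟨t, ht, mem_zpowers t, rfl, by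
        rw [C.ac_mul _ (le_normalizer l2) _ ht, C.ac_of_mem l2, B.ac, e]⟩
  have h3 := mul_mem (le_normalizer l2) s1
  have h4 : (l * s)⁻¹ * m ∈ Cs (GG E6 y) := C.ac_ker _ (mul_mem (inv_mem h3) hm) (by
    rw [C.ac_mul _ (inv_mem h3) _ hm, C.ac_inv h3, h2, inv_mul_cancel])
  have tU : t ∈ Ns (UU E6 y) := B.tU _ fun r hr => pos_gm.2 hr
  refine ⟨fun h5 => ?_, fun h5 => C.ac_ker m hm (Is2.eq_one (h2 ▸ C.is2_ac h3 (isPGroup_iff_is2.1
    (isPGroup_sup_zpowers C.isPGroup_UU tU (is2_of_sq B.cfg.inv.1)) _ (mul_mem (mem_sup_left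
      (gen_U clW l1)) (mem_sup_right s2)))) (odd_orderOf_of_pow h5 (by
        rw [← C.ac_pow hm, pow_orderOf_eq_one, C.ac_one])))⟩
  generalize hk : (l * s)⁻¹ * m = k at h4
  obtain rfl : m = l * s * k := by rw [← hk]; group
  have hN := normalizer_le_normalizer_centralizer (GG E6 y)
  have k1 : s * (k * (t * k⁻¹ * t⁻¹)) * s⁻¹ ∈ Cs (GG E6 y) := conj_mem_of_mem_normalizer (hN s1)
    (mul_mem h4 (conj_mem_of_mem_normalizer (hN ht) (inv_mem h4)))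
  have w0 := conj_mem_of_mem_normalizer (B.tU _ clW.2) (inv_mem l1)
  have w1 : l * (t * l⁻¹ * t⁻¹) ∈ gen (XR E6 y) SW := mul_mem l1 w0
  have w2 := isPGroup_iff_is2.1 C.isPGroup_UU _ (gen_U clW w1)
  have e : l * s * k * t * (l * s * k)⁻¹ * t⁻¹ =
      l * (t * l⁻¹ * t⁻¹) * (s * (k * (t * k⁻¹ * t⁻¹)) * s⁻¹) := by
    rw [k1 _ (gen_le_GG _ w1), ← mul_assoc _ l, ← k1 l l2]
    calc _ = l * s * k * t * k⁻¹ * (t⁻¹ * (t * s⁻¹)) * l⁻¹ * t⁻¹ := by group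
      _ = _ := by rw [show t * s⁻¹ = s⁻¹ * t from (Commute.inv_left s3).eq.symm]; group
  rw [e] at h5 ⊢
  have k2 := Is2.eq_one (g := s * (k * (t * k⁻¹ * t⁻¹)) * s⁻¹) (by
    have := w2.inv.mul h5 (by rw [inv_mul_cancel_left, k1 _ (gen_le_GG _ w1), mul_inv_cancel_right])
    rwa [inv_mul_cancel_left] at this) (odd_orderOf_of_mem ho k1)
  rw [k2, mul_one]
  have w3 : t * (l * (t * l⁻¹ * t⁻¹)) * t⁻¹ = l * (t * l⁻¹ * t⁻¹) := by
    refine Eq.trans ?_ (inv_eq_of_mul_eq_one_right (sq_W B.st w1))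
    calc _ = t * l * (t * t) * t⁻¹ * l⁻¹ * (t * t)⁻¹ := by group
      _ = _ := by rw [B.cfg.inv.1]; group
  generalize l * (t * l⁻¹ * t⁻¹) = w at w1 w2 w3
  have w4 : C.pi w ∈ fx T.ph := by
    rw [mem_fx, ← B.ac, ← C.ac_pi t ht w (gen_le_GG _ w1), w3]
  have w5 : (⟨_, w4⟩ : T.X) ∈ T.W := (X.kb.gtY _ clW _).2 (C.pi_mem_gen w1)
  obtain ⟨l', a1, a2, a3⟩ := c.exists_lift2 (isPGroup_iff_is2.1 pW _ w5)
  rw [← C.eq_of_pi_eq (B.le a1) (gen_le_GG _ w1) a2 w2 (by rw [B.pp _ a1, a3])]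
  exact (mem_up c pW).2 ⟨a1, a2, a3 ▸ w5⟩

theorem mv_long (X : T.XF) (B : T.FF F₀ c t C) {r : Rt E6} (hr : gm r = r) :
    ∃ n ∈ L, ∀ a, n * y r a * n⁻¹ = y (R6 71) a := by
  obtain ⟨n, w, h1, h2⟩ := X.kb.tr1 r
  have h3 : w.1 r = R6 71 := h2.resolve_right fun e => by
    have := h1.1 r
    rw [hr, e] at this
    exact absurd this (by decide)
  obtain ⟨l, l1, rfl⟩ := c.surj n
  refine ⟨l, l1, fun a => (C.ac_x (le_normalizer (B.le l1))).1 ?_⟩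
  rw [C.ac_of_mem (B.le l1), B.pp l l1, ← h3]
  exact h1.2 r a

/-- An element that centralises `L` and one long root subgroup centralises `G₁`. -/
theorem cen_G (X : T.XF) (B : T.FF F₀ c t C) {o : G} (h1 : L ≤ Cz o) {v : Rt E6} (hv : gm v = v)
    (h2 : ∀ b, y v b ∈ Cz o) : GG E6 y ≤ Cz o := by
  have lg : ∀ r : Rt E6, gm r = r → ∀ b, y r b ∈ Cz o := fun r hr b => by
    obtain ⟨n, n1, n2⟩ := mv_long X B hv
    obtain ⟨m, m1, m2⟩ := mv_long X B hr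
    have := mul_mem (mul_mem (h1 n1) (h2 b)) (inv_mem (h1 n1))
    rwa [n2, ← m2, mul_mem_cancel_right (inv_mem (h1 m1)), mul_mem_cancel_left (h1 m1)] at this
  refine H64.SG.gen_le_iff.2 fun ρ _ b => ?_
  by_cases hρ : gm ρ = ρ
  · exact lg ρ hρ b
  obtain ⟨s, r, e1, e2, e3, e4, e5⟩ := short ρ hρ
  have e6' : ip (gm s) r = -1 := by rw [← e1, ip_gm, e2]
  have e7 : su (gm s) r = gm ρ := by rw [← e3, ← su_gm s r e2, e1]
  have k : ∀ u b, y ρ (u * b) * y (gm ρ) (T.σ u * b) ∈ Cz o := fun u b => by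
    have := mul_mem (mul_mem (h1 (B.mem s u)) (lg r e1 b)) (inv_mem (h1 (B.mem s u)))
    rw [show y s u * y (gm s) (T.σ u) * y r b * (y s u * y (gm s) (T.σ u))⁻¹ =
      y s u * (y (gm s) (T.σ u) * y r b * (y (gm s) (T.σ u))⁻¹) * (y s u)⁻¹ by group,
      e6.conj_add B.st (su_add e6'), ← conj_mul, e6.conj_add B.st (su_add e2),
      e6.conj_add B.st (by rw [e7]; exact su_add e4 : rt (su s (gm ρ)) = rt s + rt (su (gm s) r)),
      e3, e7, mul_assoc, mul_mem_cancel_left (lg r e1 b), ← mul_assoc,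
      mul_mem_cancel_right (lg _ e5 _)] at this
    exact this
  obtain ⟨w, hw⟩ := X.kb.half
  have := mul_mem (k w b) (k 1 (T.σ w * b))
  rwa [mul_assoc, ← mul_assoc (y (gm ρ) _),
    ← e6.comm_of_nonneg B.st (ip_eq ρ (gm ρ) ▸ ip_gm_nonneg ρ), mul_assoc, map_one, one_mul,
    x_sq B.st, mul_one, B.st.add ρ ρ.2, ← add_mul, hw, one_mul] at this

theorem jobF2a : JobF2a.{u} := by
  intro F K _ _ _ _ _ _ T X G _ _ F₀ L t c y C B ho hU
  have pS := fun j => gt_p X (clS j)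
  have nU : ∀ j, T.U ≤ Ns (T.gt (SS j)) := fun j =>
    T.gt_le.2 fun r hr a => X.kb.nrm _ (clS j) r (nrmS j r hr) a
  refine jobK9 hU (Cs (GG E6 y)) L (ι := Fin 3) 0 (fun j => up c (T.gt (SS j)))
    (fun j => {v | v ∈ L ∧ v * v = 1 ∧ v ∈ Ns (up c (T.gt (SS j)))}) ho (Cs_le_Ns _)
    (B.le.trans le_normalizer) (fun l hl => mem_Cz.2 (B.cfg.tL l hl).symm)
    (fun l hl k hk => (hk l (B.le hl)).symm) (fun j => up_mono c (T.gt_mono (clS j).1.1))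
    (up_le c _) (up_spec c X.kb.isP).1
    (fun j v hv => ⟨hv.1, hv.2.1, hv.2.2, conj_tv X B hv.1 hv.2.1⟩) (fun j g hg => ?_) ?_
    (fun j m hm h1 => ?_) (fun o o1 o2 => ?_) 1
  · obtain ⟨g1, g2, g3⟩ := (mem_up c X.kb.isP).1 hg
    have le : closure {l | l ∈ up c T.U ∧ l * l = 1} ≤ up c T.U := (closure_le _).2 fun _ h => h.1
    refine closure_mono (fun l hl => ?_) (c.mem_of_pi_mem_im ((up_spec c X.kb.isP).1.to_le le) g1 g2
      (T.gt_le.2 (fun r hr a => ?_) g3))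
    · obtain ⟨l1, -, l3⟩ := (mem_up c X.kb.isP).1 hl.1
      exact ⟨l1, hl.2, mem_Ns_up c (pS j) l1 (nU j l3)⟩
    · obtain ⟨l, l1, l2, e⟩ := lift_xs c r a
      exact e ▸ c.pi_mem_im (subset_closure ⟨(mem_up c X.kb.isP).2
        ⟨l1, is2_of_sq l2, e ▸ T.xs_mem hr a⟩, l2⟩) l1
  · refine le_of_im c B.cfg.perf (top_le_iff.1 (X.tb.gen ▸ T.gt_le.2 fun r hr a => ?_))
    obtain ⟨j, hj⟩ := nrmG r hr
    obtain ⟨l, l1, l2, e⟩ := lift_xs c r a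
    exact e ▸ c.pi_mem_im (subset_closure (Set.mem_iUnion.2
      ⟨j, l1, l2, mem_Ns_up c (pS j) l1 (e ▸ X.kb.nrm _ (clS j) r hj a)⟩)) l1
  · have le : up c T.W ≤ up c (T.gt (SS j)) := up_mono c (T.gt_mono (WS j))
    exact (cen_W X B ho hU.mem hm (centralizer_anti le h1)).imp_left fun h e => le (h e)
  · have h0 : L ≤ Cz o := fun l hl => mem_Cz.2 (o1 l hl).symm
    have hs : ip (R6 71) (R6 1) = -1 := by decide
    refine Cs_le_Ns _ fun g hg => (mem_Cz.1 (cen_G X B h0 (v := su (R6 71) (R6 1)) (by decide)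
      (fun b => ?_) hg)).symm
    obtain ⟨w, hw⟩ := X.kb.half
    have m1 := B.mem (R6 1) w
    rw [show gm (R6 1) = R6 1 by decide, B.st.add _ (R6 1).2, hw] at m1
    have h1 := o2 (y (R6 71) b)⁻¹ (inv_mem (le_normalizer (x_mem_GG _ b))) (inv_mem
      (centralizer_anti ((up_le_gen X B clU).trans ((gen_U clU).trans (UU_le_P0 e6)))
        (XR_le_Cs_P0 e6 B.st _ (hi6 ▸ x_mem_XR E6 y _ b)))) _ m1
    have h2 := e6.conj_add B.st (su_add hs) b 1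
    rw [mul_one] at h2
    refine (mul_mem_cancel_left (h0 m1)).1 (mem_Cz.2 ?_)
    rw [← h2]
    calc _ = y (R6 71) b * ((y (R6 71) b)⁻¹ * o * (y (R6 71) b)⁻¹⁻¹ * y (R6 1) 1) *
          (y (R6 71) b)⁻¹ := by group
      _ = _ := by rw [← h1]; group

end H38.TEF
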