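import Cfsg.Agent.H38.HZero
import Cfsg.Agent.H41.CenDef

/-! Blocks with a normal defect group (Reynolds). -/

set_option autoImplicit false
open scoped MonoidAlgebra

namespace H38
open Cfsg H28 H35 H39
open H36 hiding pull coeff_pull
open H34 (eB lam omega redA fC IntC intC_fC Z ofFun)
open H37 (IsSylowIn)

variable {G : Type*} [Group G] [Finite G] {p : ℕ} {M : Ideal AlgInt} [M.IsMaximal]
  {N P : Subgroup G}

/-- If `B` covers `b`, the defects agree and `C_G(P) ≤ N` for a defect group `P` of `b`, then the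
stabilizer of `b` has `p'`-index over `N`. -/
theorem not_dvd_relIndex_stab [N.Normal] (hM : IsPModular p M) {E e : (F M)[G]} (hE : Blk ⊤ E)
    (he : Blk N e) (h : E * e ≠ 0) (hP : IsDef p ⊤ E P) (hP' : IsDef p N e P) (hC : Cen P ≤ N) :
    ¬ p ∣ N.relIndex (stab e) := by
  have := Fact.mk hM.1
  have := charP_F hM
  have hT : stab e = ⊤ ⊓ stab e := (top_inf_eq _).symm
  have hNT := fr_le le_top he hT
  have hK := nor_of_normal N (stab e)
  have h1 := fr_blk le_top (nor_of_normal N ⊤) he hT hE h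
  have h2 := blk_of_inv_of_cen_le hNT hK he (fr_inv hT) hP' (inf_le_right.trans hC)
  have h3 : E * e = e := by
    have h4 := h2.prim _ h1.mem h1.idem
    rw [mul_assoc, he.idem] at h4
    exact h4.resolve_right h
  obtain ⟨D, hD⟩ := fong_exists_isDef (p := p) hNT he (fr_inv hT)
  have h4 := (fr_isDef le_top (nor_of_normal N ⊤) he hT hE h (by rwa [h3])).card_eq hP
  have h5 := (fong_inf hK hNT he hD).card_eq hP'
  have h6 : D ⊓ N = D := Subgroup.eq_of_le_of_card_ge inf_le_left (by omega)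
  have h7 := fong_not_dvd' hM hNT hK he (fr_inv hT) hD
  rwa [sup_eq_right.2 (inf_eq_left.1 h6)] at h7

theorem nu_eq_of_over [N.Normal] [Fintype N] (hp : p.Prime) {χ : IrrCharacter G}
    {θ : IrrCharacter N} (h : Over N.subtype χ.1 θ.1) {T : Subgroup G} (hNT : N ≤ T)
    (hT : H32.inertia θ.1 ≤ T) (hi : ¬ p ∣ N.relIndex T) :
    (charDegree χ.1).factorization p = N.index.factorization p + (charDegree θ.1).factorization p := by
  obtain ⟨k, hk, hk1⟩ := H32.exists_degree_eq_mul_of_constituent χ.2 θ.2 h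
  have h1 : charDegree χ.1 = k * charDegree θ.1 := charDegree_eq (by rw [hk1, ← coe_deg]; simp)
  have h2 := charDegree_dvd_of_over χ.2 θ.2 h
  rw [h1] at h2
  have h3 := (Subgroup.index_dvd_of_le hT).trans
    (Nat.dvd_of_mul_dvd_mul_right (Nat.pos_of_ne_zero (deg_ne_zero θ)) h2)
  have hN : N.index ≠ 0 := Subgroup.index_ne_zero_of_finite
  have hk0 : k ≠ 0 := fun h0 => hN (by simpa [h0] using hk)
  have h4 := (Nat.factorization_le_iff_dvd Subgroup.index_ne_zero_of_finite hk0).2 h3 p
  have h5 := (Nat.factorization_le_iff_dvd hk0 hN).2 hk p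
  have h6 := congrArg (fun n => n.factorization p) (Subgroup.relIndex_mul_index hNT)
  rw [Nat.factorization_mul (show N.relIndex T ≠ 0 from Subgroup.index_ne_zero_of_finite)
    Subgroup.index_ne_zero_of_finite, Finsupp.add_apply,
    Nat.factorization_eq_zero_of_not_dvd hi] at h6
  rw [h1, Nat.factorization_mul hk0 (deg_ne_zero θ), Finsupp.add_apply]
  omega

/-- Heights are preserved under covering when the defect groups agree and `C_G(P) ≤ N`. -/
theorem height_eq_of_covers [N.Normal] [Fintype N] (hM : IsPModular p M)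
    {B : Set (IrrCharacter G)} (hB : IsPBlock M B) {b : Set (IrrCharacter N)} (hb : IsPBlock M b)
    (hP : IsDefectGroup p M B P) (hP' : IsDef p N (eS M N b) P)
    (hC : Cen P ≤ N) {χ : IrrCharacter G} (hχ : χ ∈ B) {θ : IrrCharacter N} (hθ : θ ∈ b)
    (h : Over N.subtype χ.1 θ.1) : blockHeight p B χ.1 = blockHeight p b θ.1 := by
  cases nonempty_fintype G
  have := Fact.mk hM.1
  have h1 := nu_eq_of_over hM.1 h (fr_le_stab hb rfl) (inertia_le_stab hb hθ)
    (not_dvd_relIndex_stab hM (blk_eB hB) (blk_eS hb) ((covers_iff_eS hB hb).1 ⟨χ, hχ, θ, hθ, h⟩)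
      ((isDefectGroup_iff hM hB).1 hP) hP' hC)
  have h2 := nu_add_blockDefect p hχ
  have h3 := nu_add_blockDefect p hθ
  have h4 := (card_of_isDefectGroup hM hB hP).symm.trans (H41.isDef_card_eq hM hb hP')
  have h5 := Nat.pow_right_injective hM.1.two_le h4
  have h6 := congrArg (fun n => n.factorization p) N.card_mul_index
  rw [Nat.factorization_mul Nat.card_pos.ne' Subgroup.index_ne_zero_of_finite,
    Finsupp.add_apply] at h6
  omega

theorem subgroupOf_sup_cen (P : Subgroup G) : P.subgroupOf (P ⊔ Cen P) ⊔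
    Subgroup.centralizer (P.subgroupOf (P ⊔ Cen P) : Set (P ⊔ Cen P : Subgroup G)) = ⊤ := by
  refine eq_top_iff.2 fun x _ => ?_
  obtain ⟨u, hu, hv⟩ := exists_mul_of_mem_sup (C := P) (N := Cen P)
    (Subgroup.le_normalizer.trans (nor_le_nor_cen P)) x.2
  rw [← mul_inv_cancel_left (⟨u, Subgroup.mem_sup_left hu⟩ : (P ⊔ Cen P : Subgroup G)) x]
  refine Subgroup.mul_mem_sup (show _ ∈ P.subgroupOf _ from hu) ?_
  exact fun y hy => Subtype.ext (hv y hy)

/-- In a block with defect group `D`, `G = D C(D)`, heights are the exponents in the degrees of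
the characters of `D`. -/
theorem height_eq_of_secForm (hM : IsPModular p M) {D : Subgroup G}
    (hG : D ⊔ Subgroup.centralizer (D : Set G) = ⊤) {B : Set (IrrCharacter G)} (hB : IsPBlock M B)
    (hD : IsDefectGroup p M B D) {χ : IrrCharacter G} (hχ : χ ∈ B) (hk : D ≤ charKer χ.1)
    {θ : IrrCharacter G} (hθ : θ ∈ B) {ζ : IrrCharacter D} (h : H41.SecForm p D θ.1 ζ.1 χ.1) :
    blockHeight p B θ.1 = (charDegree ζ.1).factorization p := by
  have := Fact.mk hM.1
  have := H41.normal_of_sup_eq_top hG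
  have hp := ((isDefectGroup_iff hM hB).1 hD).isPGroup
  have h1 := (H41.pcq_of_sup_eq_top hM.1 hp hG).nu_of_ker_le hM hB
    (by rwa [QuotientGroup.ker_mk']) hχ (by rwa [QuotientGroup.ker_mk'])
  have h2 : charDegree θ.1 = charDegree ζ.1 * charDegree χ.1 :=
    charDegree_eq (by rw [← D.coe_one, h.apply hM.1, ← coe_deg, ← coe_deg]; simp)
  have h3 := nu_add_blockDefect p hθ
  have h4 := congrArg (fun n => n.factorization p) D.card_mul_index
  rw [Nat.factorization_mul Nat.card_pos.ne' Subgroup.index_ne_zero_of_finite,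
    Finsupp.add_apply, card_of_isDefectGroup hM hB hD, hM.1.factorization_pow,
    Finsupp.single_eq_same] at h4
  rw [h2, Nat.factorization_mul (deg_ne_zero ζ) (deg_ne_zero χ), Finsupp.add_apply, h1] at h3
  rw [Subgroup.index] at h4
  omega

/-- The heights in a block with normal defect group `P` are the exponents of `p` in the degrees
of the irreducible characters of `P`. -/
theorem heights_of_normal_defect [P.Normal] (hM : IsPModular p M) {B : Set (IrrCharacter G)}
    (hB : IsPBlock M B) (hP : IsDefectGroup p M B P) (n : ℕ) :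
    (∃ χ ∈ B, blockHeight p B χ.1 = n) ↔
      ∃ ζ : IrrCharacter P, (charDegree ζ.1).factorization p = n := by
  have := Fact.mk hM.1
  have := charP_F hM
  set N := P ⊔ Cen P with hN
  have : N.Normal := Subgroup.sup_normal _ _
  cases nonempty_fintype N
  obtain ⟨b, hb, hc⟩ := (NEmb.ofNormal N).exists_covered (M := M) (H34.block_nonempty hB)
  have hP1 := (isDefectGroup_iff hM hB).1 hP
  obtain ⟨Q, hQ⟩ := (blk_eS hb).exists_isDef p le_rfl
  obtain ⟨P', hP', hPQ⟩ := knorr le_top (nor_of_normal N ⊤) (blk_eB hB) (blk_eS hb)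
    ((covers_iff_eS hB hb).1 hc) hQ
  obtain ⟨k, -, rfl⟩ := hP1.exists_conj hP'
  rw [H37.map_conj_eq_iff_mem_normalizer.2 (nor_of_normal P ⊤ trivial),
    inf_eq_left.2 le_sup_left] at hPQ
  subst hPQ
  have hD := (isDefectGroup_subgroupOf_iff hM hb le_sup_left).2 hQ
  have : (P.subgroupOf N).Normal := inferInstance
  obtain ⟨χ₀, hχ₀, hk⟩ := H34.exists_mem_le_charKer hM (P.subgroupOf N)
    (hQ.isPGroup.of_equiv (Subgroup.subgroupOfEquivOfLe le_sup_left).symm) hb
  let e := Subgroup.subgroupOfEquivOfLe (le_sup_left : P ≤ N)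
  constructor
  · rintro ⟨χ, hχ, rfl⟩
    obtain ⟨θ, hθ, h⟩ := Covers.exists_under (E := NEmb.ofNormal N) hB (bcl_of_isPBlock hb) hc hχ
    obtain ⟨ζ, hζ⟩ := H41.exists_secForm hM (subgroupOf_sup_cen P) hb hD hχ₀ hk hθ
    refine ⟨trI e.symm ζ, ?_⟩
    rw [charDegree_trI, height_eq_of_covers hM hB hb hP hQ le_sup_right hχ hθ h,
      height_eq_of_secForm hM (subgroupOf_sup_cen P) hb hD hχ₀ hk hθ hζ]
  · rintro ⟨ζ, rfl⟩
    obtain ⟨θ, hθ, hζ⟩ := H41.exists_mem_secForm hM (subgroupOf_sup_cen P) hb hD hχ₀ hk (trI e ζ)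
    obtain ⟨χ, hχ, h⟩ := hc.exists_over hB hb hθ
    refine ⟨χ, hχ, ?_⟩
    rw [height_eq_of_covers hM hB hb hP hQ le_sup_right hχ hθ h,
      height_eq_of_secForm hM (subgroupOf_sup_cen P) hb hD hχ₀ hk hθ hζ, charDegree_trI]

end H38
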