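import Cfsg.Agent.H38.PrinCov
import Cfsg.Agent.H38.Fong
import Cfsg.Agent.H1.Glauberman

/-! Central idempotents supported on `p`-regular elements (Kiyota--Okuyama). -/

set_option autoImplicit false
open scoped MonoidAlgebra ComplexConjugate Pointwise ComplexOrder

namespace H38
open Cfsg H28 H35 H39
open H34 (fC)

section grp
variable {G : Type*} [Group G] [Finite G] {p : ℕ}

/-- `p`-regular elements congruent modulo a normal `p`-subgroup `P` are conjugate under `P`. -/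
theorem exists_conj_of_pReg [hp : Fact p.Prime] {P : Subgroup G} [P.Normal] (hP : IsPGroup p P)
    {g g' : G} (hg : ¬ p ∣ orderOf g) (hg' : ¬ p ∣ orderOf g') (h : g⁻¹ * g' ∈ P) :
    ∃ x ∈ P, x * g * x⁻¹ = g' := by
  obtain ⟨k, hk⟩ := IsPGroup.iff_card.1 hP
  have h1 : (g : G ⧸ P) = g' := QuotientGroup.eq.2 h
  have := hP.isNilpotent
  obtain ⟨n, hn, h2⟩ := H1.exists_conj_le_of_le_mul (Subgroup.zpowers g) P (Subgroup.zpowers g')
    (nor_of_normal P _) (by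
      rw [Nat.card_zpowers, hk]
      exact (((Nat.Prime.coprime_iff_not_dvd hp.out).2 hg).pow_left k).symm)
    (Or.inr inferInstance) (by
      rintro _ ⟨i, rfl⟩
      refine ⟨g ^ i * (g' ^ i)⁻¹, (QuotientGroup.eq_one_iff _).1 ?_, _, ⟨i, rfl⟩, by simp⟩
      simp [h1])
  refine ⟨n, hn, ?_⟩
  have h3 : n * g * n⁻¹ ∈ Subgroup.zpowers g' :=
    h2 (Subgroup.smul_mem_pointwise_smul _ _ _ (Subgroup.mem_zpowers g))
  have h4 : (n * g * n⁻¹)⁻¹ * g' ∈ P := QuotientGroup.eq.1 (by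
    simp [(QuotientGroup.eq_one_iff n).2 hn, h1])
  have h5 := Subgroup.disjoint_of_coprime_natCard (H := P) (K := Subgroup.zpowers g') (by
    rw [Nat.card_zpowers, hk]
    exact ((Nat.Prime.coprime_iff_not_dvd hp.out).2 hg').pow_left k)
  exact inv_mul_eq_one.1 (Subgroup.disjoint_def.1 h5 h4
    (Subgroup.mul_mem _ (Subgroup.inv_mem _ h3) (Subgroup.mem_zpowers g')))

theorem detOrder_comp_dvd {H : Type*} [Group H] [Finite H] (i : H →* G) {χ : G → ℂ}
    (hχ : IsCharacter G χ) (h : IsIrrCharacter H fun x => χ (i x)) :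
    detOrder (fun x => χ (i x)) ∣ detOrder χ := by
  refine orderOf_dvd_of_pow_eq_one (funext fun x => ?_)
  rw [Pi.pow_apply, ← H32.detChar_ext i h hχ (fun _ => rfl)]
  exact congrFun (pow_orderOf_eq_one (detChar χ)) (i x)

/-- An invariant character of `N` has an invariant extension to `L` if `|L : N|` is prime to
`|N|`. -/
theorem exists_inv_ext_of_coprime {N L : Subgroup G} [N.Normal] [L.Normal] (hNL : N ≤ L)
    (hcop : (Nat.card N).Coprime (N.relIndex L)) {θ : N → ℂ} (hθ : IsIrrCharacter N θ)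
    (hinv : H32.inertia θ = ⊤) : ∃ η : L → ℂ, IsIrrCharacter L η ∧
      (∀ n : N, η (Subgroup.inclusion hNL n) = θ n) ∧ H32.inertia η = ⊤ := by
  have h0 := H32.isIrrCharacter_subgroupOf hNL hθ
  have hi := H32.inertia_subgroupOf hNL θ
  rw [hinv, Subgroup.top_subgroupOf] at hi
  obtain ⟨η, h1, h2, h3⟩ := H40.exists_canonical_ext_of_coprime (N.subgroupOf L)
    (by rwa [Nat.card_congr (Subgroup.subgroupOfEquivOfLe hNL).toEquiv]) h0
    (H32.inertia_eq_top_iff.1 hi)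
  refine ⟨η, h1, fun n => h2 ⟨⟨n, hNL n.2⟩, n.2⟩, eq_top_iff.2 fun g _ => ?_⟩
  have h4 := H32.isIrrCharacter_cj h1 g
  have h5 := detOrder_comp_dvd (MulAut.conjNormal g : MulAut L).toMonoidHom h1.isCharacter
    (h1.comp_mulEquiv _)
  rw [show (fun x => η ((MulAut.conjNormal g : MulAut L).toMonoidHom x)) = H32.cj g η from
    (H32.cj_eq_comp g η).symm] at h5
  have h6 : ∀ n : N.subgroupOf L, H32.cj g η n = θ ⟨(n : L), n.2⟩ := fun n =>
    (h2 ⟨⟨g * (n : L) * g⁻¹, ‹L.Normal›.conj_mem _ n.1.2 g⟩, ‹N.Normal›.conj_mem _ n.2 g⟩).trans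
      (H32.inertia_eq_top_iff.1 hinv g ⟨(n : L), n.2⟩)
  exact H32.canonical_ext_unique h0 hθ.cast_charDegree.symm
    (hcop.symm.coprime_dvd_right (charDegree_dvd_card hθ)) h1 h4 h2 h6 h3.symm
    (h3.symm.coprime_dvd_right h5)

theorem blockCoeff_inv (A : Set (IrrCharacter G)) (g : G) :
    blockCoeff A g⁻¹ = conj (blockCoeff A g) := by
  classical
  simp only [blockCoeff, H41.finsum_mem_irr, map_mul, map_inv₀, map_natCast, map_sum]
  refine congrArg _ (Finset.sum_congr rfl fun χ _ => ?_)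
  split_ifs
  · rw [χ.2.isCharacter.apply_inv, map_mul, ← coe_deg, map_natCast]
  · rw [map_zero]

theorem sum_conj_blockCoeff_mul [Fintype G] (A : Set (IrrCharacter G)) (y : G) :
    ∑ x, conj (blockCoeff A x) * blockCoeff A (x * y) = blockCoeff A y := by
  have h := congrArg (fun a => a.coeff y) (H34.fC_mul_self A)
  simp only [H34.coeff_mul_eq_sum, H34.coeff_fC] at h
  rw [← h, ← Equiv.sum_comp (Equiv.inv G)]
  simp only [Equiv.inv_apply, blockCoeff_inv, Complex.conj_conj]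

/-- The positivity argument. -/
theorem comm_mem_of_blockCoeff (A : Set (IrrCharacter G)) {K L : Subgroup G} [hL : L.Normal]
    (hKL : K ≤ L) (μ : L →* ℂˣ) (hμ : ∀ (g : G) (l : L), μ ⟨g * l * g⁻¹, hL.conj_mem _ l.2 g⟩ = μ l)
    (hK : ∀ (g : G) (k : L), k.1 ∈ K → blockCoeff A (g * k) * μ k = blockCoeff A g)
    (h0 : ∀ l ∈ L, l ∉ K → blockCoeff A l = 0)
    (hs : ∀ g, ∀ l ∈ L, blockCoeff A g ≠ 0 → blockCoeff A (g * l) ≠ 0 →
      ∃ x ∈ L, (x * g * x⁻¹)⁻¹ * (g * l) ∈ K)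
    {g : G} (hg : blockCoeff A g ≠ 0) {x : G} (hx : x ∈ L) : g⁻¹ * x * g * x⁻¹ ∈ K := by
  cases nonempty_fintype G
  by_contra h
  have hl : g⁻¹ * x * g * x⁻¹ ∈ L := L.mul_mem (hL.conj_mem' _ hx g) (L.inv_mem hx)
  have key : ∀ (d : G) (l : L), (∃ y ∈ L, (y * d * y⁻¹)⁻¹ * (d * l) ∈ K) →
      blockCoeff A (d * l) * μ l = blockCoeff A d := by
    rintro d l ⟨y, hy, hk⟩
    have h1 := hK (y * d * y⁻¹) ⟨_, hKL hk⟩ hk
    rw [mul_inv_cancel_left, H34.blockCoeff_conj] at h1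
    have h2 : l = ⟨d⁻¹ * y * d⁻¹⁻¹, hL.conj_mem _ hy _⟩ * (⟨y, hy⟩ : L)⁻¹ * ⟨_, hKL hk⟩ :=
      Subtype.ext (by simp [mul_assoc])
    rw [← h1]
    conv_lhs => rw [h2, map_mul, map_mul, hμ d⁻¹ ⟨y, hy⟩, map_inv, mul_inv_cancel, one_mul, ← h2]
  have h1 := congrArg (· * (μ ⟨_, hl⟩ : ℂ)) (sum_conj_blockCoeff_mul A (g⁻¹ * x * g * x⁻¹))
  simp only [h0 _ hl h, zero_mul, Finset.sum_mul] at h1
  have h2 : ∀ d, 0 ≤ conj (blockCoeff A d) * blockCoeff A (d * (g⁻¹ * x * g * x⁻¹)) *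
      (μ ⟨_, hl⟩ : ℂ) := fun d => by
    by_cases h3 : blockCoeff A d = 0
    · simp [h3]
    by_cases h4 : blockCoeff A (d * (g⁻¹ * x * g * x⁻¹)) = 0
    · simp [h4]
    rw [mul_assoc, key d ⟨_, hl⟩ (hs d _ hl h3 h4)]
    exact star_mul_self_nonneg _
  have h3 := (Finset.sum_eq_zero_iff_of_nonneg fun d _ => h2 d).1 h1 g (Finset.mem_univ _)
  rw [mul_assoc, key g ⟨_, hl⟩ ⟨x, hx, by simp [mul_assoc, K.one_mem]⟩] at h3
  exact hg (by simpa using h3)

end grp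

section cover
universe u
variable {G : Type u} [Group G] [Finite G] {N : Subgroup G} [N.Normal] {θ : N → ℂ}
  (C : H32.Cover N θ)

theorem cover_exists_th_ne_zero (hθ : IsIrrCharacter N θ) (γ : C.Γ) :
    ∃ n : N, C.th (C.ν n * γ) ≠ 0 := by
  cases nonempty_fintype N
  by_contra! h
  have := H40.cosetInner_self C.ν C.ν_injective C.instNormalRange C.th_irr.isCharacter
    (by simpa only [C.th_ν] using hθ) γ
  simp [h, classInner] at this

theorem cover_cancel (hθ : IsIrrCharacter N θ) {f f' : C.Γ → ℂ} {γ : C.Γ}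
    (hf : ∀ n, f (C.ν n * γ) = f γ) (hf' : ∀ n, f' (C.ν n * γ) = f' γ)
    (h : ∀ n, f (C.ν n * γ) * C.th (C.ν n * γ) = f' (C.ν n * γ) * C.th (C.ν n * γ)) :
    f γ = f' γ := by
  obtain ⟨n, hn⟩ := cover_exists_th_ne_zero C hθ γ
  rw [← hf n, ← hf' n]
  exact mul_right_cancel₀ hn (h n)

theorem cover_factor_mul (hθ : IsIrrCharacter N θ) {χ : G → ℂ} {β : C.Γ → ℂ}
    (hk : C.ν.range ≤ charKer β) (h : ∀ γ, χ (C.π γ) = β γ * C.th γ) (a : C.π.ker) (γ : C.Γ) :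
    β (a * γ) * C.lam a = β γ := by
  have hc := Subgroup.mem_center_iff.1 (C.ker_le_center a.2)
  refine cover_cancel C hθ (f := fun δ => β (a * δ) * C.lam a) (fun n => ?_)
    (fun n => hk ⟨n, rfl⟩ γ) fun n => ?_
  · rw [← mul_assoc, ← hc, mul_assoc, hk ⟨n, rfl⟩]
  · rw [mul_assoc, ← C.th_mul, ← h, ← h, map_mul, a.2, one_mul]

/-- An invariant extension of `θ` to `L` gives an invariant linear character on the cover. -/
theorem cover_exists_hom (hθ : IsIrrCharacter N θ) {L : Subgroup G} [hL : L.Normal] (hNL : N ≤ L)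
    {η : L → ℂ} (hη : IsIrrCharacter L η) (hext : ∀ n : N, η (Subgroup.inclusion hNL n) = θ n)
    (hinv : H32.inertia η = ⊤) : ∃ μ : L.comap C.π →* ℂˣ,
      (∀ (g : C.Γ) (l : L.comap C.π), μ ⟨g * l * g⁻¹, (hL.comap _).conj_mem _ l.2 g⟩ = μ l) ∧
      ∀ (a : C.π.ker) (n : N) (k : L.comap C.π), k.1 = a * C.ν n → (μ k : ℂ) * C.lam a = 1 := by
  cases nonempty_fintype N
  have hν : ∀ n, C.ν n ∈ L.comap C.π := fun n => by
    rw [Subgroup.mem_comap, C.π_ν]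
    exact hNL n.2
  let ι : N →* L.comap C.π := C.ν.codRestrict _ hν
  obtain ⟨μ, h1, h2⟩ := H40.exists_linear_of_ext ι
    (fun a b h => C.ν_injective (congrArg Subtype.val h))
    ⟨by rintro _ ⟨n, rfl⟩ γ; exact ⟨_, Subtype.ext (C.conj_ν γ n).symm⟩⟩
    (C.th_irr.isCharacter.restrict (L.comap C.π))
    (hη.isCharacter.comp (C.π.subgroupComap L)) (by simpa only [ι, MonoidHom.codRestrict_apply, C.th_ν] using hθ)
    (fun n => ((congrArg η (Subtype.ext (C.π_ν n))).trans (hext n)).trans (C.th_ν n).symm)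
  refine ⟨μ, fun g l => ?_, fun a n k hk => ?_⟩
  · obtain ⟨n, hn⟩ := cover_exists_th_ne_zero C hθ l
    have h3 := h2 (ι n * l)
    have h4 := h2 ⟨g * (ι n * l : L.comap C.π) * g⁻¹, (hL.comap _).conj_mem _ (ι n * l).2 g⟩
    have h5 : η (C.π.subgroupComap L ⟨g * (ι n * l : L.comap C.π) * g⁻¹,
        (hL.comap _).conj_mem _ (ι n * l).2 g⟩) = η (C.π.subgroupComap L (ι n * l)) := by
      refine Eq.trans (congrArg η (Subtype.ext ?_)) (H32.inertia_eq_top_iff.1 hinv (C.π g) _)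
      exact (map_mul _ _ _).trans (by rw [map_mul, map_inv]; rfl)
    have h6 : (⟨g * (ι n * l : L.comap C.π) * g⁻¹, (hL.comap _).conj_mem _ (ι n * l).2 g⟩ :
        L.comap C.π) = ι (MulAut.conjNormal (C.π g) n) *
          ⟨g * l * g⁻¹, (hL.comap _).conj_mem _ l.2 g⟩ :=
      Subtype.ext (by simp [ι, ← C.conj_ν, mul_assoc])
    rw [h5, h3, C.th_irr.isClassFunction, h6, map_mul, map_mul, h1, h1, one_mul, one_mul] at h4
    exact (Units.val_injective (mul_right_cancel₀ hn h4)).symm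
  · have ha : (a : C.Γ) ∈ L.comap C.π := MonoidHom.ker_le_comap _ _ a.2
    have h3 := h2 ⟨a, ha⟩
    have h4 : C.π.subgroupComap L ⟨a, ha⟩ = Subgroup.inclusion hNL 1 := Subtype.ext a.2
    have h5 := C.th_mul a 1
    rw [mul_one, C.th_one] at h5
    rw [h4, hext, h5, ← mul_assoc] at h3
    rw [show k = ⟨a, ha⟩ * ι n from Subtype.ext hk, map_mul, h1, mul_one]
    exact (mul_eq_right₀ hθ.apply_one_ne_zero).1 h3.symm

variable {p : ℕ}

/-- A sum of central primitive idempotents over an invariant `θ ∈ Irr(N)`, `N` a `p'`-group,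
supported on `p`-regular elements is supported on the centralizer of each normal `p`-section
`L / N`. -/
theorem comm_mem_of_pReg_supp [hp : Fact p.Prime] [Fintype N] {L : Subgroup G} [hL : L.Normal]
    (hNL : N ≤ L) (hN : ¬ p ∣ Nat.card N) {k : ℕ} (hk : N.relIndex L = p ^ k)
    (hθ : IsIrrCharacter N θ) (hinv : H32.inertia θ = ⊤) {U : Set (IrrCharacter G)}
    (hU : ∀ χ ∈ U, Over N.subtype χ.1 θ) (h0 : ∀ g, p ∣ orderOf g → blockCoeff U g = 0) {g : G}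
    (hg : blockCoeff U g ≠ 0) {x : G} (hx : x ∈ L) : g⁻¹ * x * g * x⁻¹ ∈ N := by
  obtain ⟨C⟩ := H32.nonempty_cover hθ hinv
  obtain ⟨η, hη, hext, hηi⟩ := exists_inv_ext_of_coprime hNL
    (hk ▸ (((Nat.Prime.coprime_iff_not_dvd hp.out).2 hN).pow_left k).symm) hθ hinv
  obtain ⟨μ, hμ, hμ'⟩ := cover_exists_hom C hθ hNL hη hext hηi
  have h1 : ∀ χ : IrrCharacter G, ∃ β : IrrCharacter C.Γ, χ ∈ U →
      C.ν.range ≤ charKer β.1 ∧ ∀ γ, χ.1 (C.π γ) = β.1 γ * C.th γ := fun χ => by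
    by_cases h : χ ∈ U
    · obtain ⟨β, h1, h2⟩ := C.exists_factor hθ χ.2 (hU χ h)
      exact ⟨⟨β, h1⟩, fun _ => h2⟩
    · exact ⟨⟨_, isIrrCharacter_one⟩, fun h' => absurd h' h⟩
  choose e he using h1
  have hinj : Set.InjOn e U := fun χ hχ ψ hψ h => Subtype.ext (funext fun y => by
    obtain ⟨γ, rfl⟩ := C.π_surj y
    rw [(he χ hχ).2, (he ψ hψ).2, h])
  have hG : (Nat.card G : ℂ) ≠ 0 := Nat.cast_ne_zero.2 Nat.card_pos.ne'
  have hΓ : (Nat.card C.Γ : ℂ) ≠ 0 := Nat.cast_ne_zero.2 Nat.card_pos.ne'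
  have h2 : ∀ γ, Nat.card G * blockCoeff U (C.π γ) =
      θ 1 * conj (C.th γ) * Nat.card C.Γ * blockCoeff (e '' U) γ := fun γ => by
    rw [blockCoeff, blockCoeff, mul_inv_cancel_left₀ hG, mul_assoc, mul_inv_cancel_left₀ hΓ,
      finsum_mem_image hinj, mul_finsum_mem]
    refine finsum_mem_congr rfl fun χ hχ => ?_
    rw [← map_one C.π, (he χ hχ).2, (he χ hχ).2, C.th_one, map_mul]
    ring
  have h3 : ∀ (γ : C.Γ) (l : L.comap C.π), l.1 ∈ N.comap C.π →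
      blockCoeff (e '' U) (γ * l) * μ l = blockCoeff (e '' U) γ := fun γ l hl => by
    obtain ⟨a, n, h⟩ := C.exists_eq_mul_of_mem hl
    rw [blockCoeff, blockCoeff, mul_assoc, finsum_mem_mul]
    refine congrArg _ (finsum_mem_congr rfl ?_)
    rintro _ ⟨χ, hχ, rfl⟩
    have h4 := cover_factor_mul C hθ (he χ hχ).1 (he χ hχ).2 a γ
    have h5 := hμ' a n l h
    have h6 : (μ l : ℂ) = conj (C.lam a : ℂ) := by
      rw [← Complex.inv_eq_conj (H40.norm_eq_one_of_degree_one (isCharacter_of_hom C.lam) (by simp) a)]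
      exact eq_inv_of_mul_eq_one_left h5
    rw [h, ← mul_assoc γ, (e χ).2.isClassFunction.apply_mul_of_mem_charKer ((he χ hχ).1 ⟨n, rfl⟩),
      Subgroup.mem_center_iff.1 (C.ker_le_center a.2), ← h4, h6, map_mul, mul_assoc]
  have h4 : ∀ γ, blockCoeff (e '' U) γ ≠ 0 → ¬ p ∣ orderOf (C.π γ : G ⧸ N) := fun γ hγ hd => by
    obtain ⟨n, hn⟩ := cover_exists_th_ne_zero C hθ γ
    have h5 := h2 (C.ν n * γ)
    have h6 : blockCoeff (e '' U) (C.ν n * γ) ≠ 0 := fun h => hγ (by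
      have h7 := h3 γ ⟨C.ν n, Subgroup.comap_mono hNL (C.range_le_comap ⟨n, rfl⟩)⟩
        (C.range_le_comap ⟨n, rfl⟩)
      rw [← H34.blockCoeff_conj _ _ (C.ν n), mul_assoc, mul_inv_cancel_right] at h7
      rw [← h7, h, zero_mul])
    rw [h0 _ (hd.trans ?_), mul_zero] at h5
    · exact mul_ne_zero (mul_ne_zero (mul_ne_zero hθ.apply_one_ne_zero
        ((map_ne_zero _).2 hn)) hΓ) h6 h5.symm
    · have h7 : (C.π γ : G ⧸ N) = QuotientGroup.mk' N (C.π (C.ν n * γ)) := by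
        simp [C.π_ν, (QuotientGroup.eq_one_iff _).2 n.2]
      rw [h7]
      exact orderOf_map_dvd _ _
  have hP : IsPGroup p (L.map (QuotientGroup.mk' N)) := IsPGroup.of_card (by
    rw [← hk, ← Subgroup.relIndex_ker, QuotientGroup.ker_mk'])
  obtain ⟨γ, rfl⟩ := C.π_surj g
  obtain ⟨ξ, rfl⟩ := C.π_surj x
  have h5 := comm_mem_of_blockCoeff (e '' U) (Subgroup.comap_mono hNL) μ hμ h3
    (fun l hl hl' => by_contra fun h => hl' ?_) (fun δ l hl hδ hδ' => ?_)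
    (g := γ) (fun h => hg (by simpa [h, hG] using h2 γ)) (x := ξ) hx
  · simpa using h5
  · obtain ⟨j, hj⟩ := hP ⟨_, C.π l, hl, rfl⟩
    exact (QuotientGroup.eq_one_iff (C.π l)).1 (orderOf_eq_one_iff.1 (Nat.eq_one_of_dvd_coprimes
      (((Nat.Prime.coprime_iff_not_dvd hp.out).2 (h4 l h)).pow_left j)
      (orderOf_dvd_of_pow_eq_one (congrArg Subtype.val hj)) dvd_rfl))
  · obtain ⟨_, ⟨y, hy, rfl⟩, h⟩ := exists_conj_of_pReg hP (h4 δ hδ) (h4 _ hδ')
      ⟨C.π l, hl, by simp⟩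
    obtain ⟨y, rfl⟩ := C.π_surj y
    refine ⟨y, hy, ?_⟩
    rw [Subgroup.mem_comap, map_mul, map_inv, ← QuotientGroup.eq]
    simpa using h

end cover

end H38
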