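import Cfsg.Agent.H67.SAFU
import Cfsg.Agent.H67.SAFA
import Cfsg.Agent.H63.A8Def

/-! A8S-FU: `J8FU`, a clone of `H67.SA.jobFU` for `SL₄(2)`. -/

set_option autoImplicit false
set_option linter.unusedSectionVars false

namespace H38.A8FU

open H64.SG (O2 Syl Cz Cs Ns cjs Is2 Inv2 UF IsO2 fx mem_Cs mem_Cz mem_fx is2_of_sq
  isPGroup_iff_is2)
open H67.SA H63.A8
open H57 H98 Subgroup
open Matrix (SpecialLinearGroup)

universe u

variable {n : ℕ} {F : Type} [Field F] [Finite F] [CharP F 2] {G : Type u} [Group G] [Finite G]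
  {e : SLn n F →* G} {g t : G} {K : Type} [Field K] [Finite K] [CharP K 2] {ι : F →+* K}
  {σ : RingAut K} {Φ : SLn n K →* G}

theorem fi8 (c : CF e t ι σ Φ) (hn : 2 ≤ n) (D : FG8 n F K) (ht : t * t = 1) (y : SLn n K)
    (hy : Φ y * t * (Φ y * t) = 1) : ∃ h, Φ y * t = Φ h * t * (Φ h)⁻¹ := by
  have t1 := inv_eq_of_mul_eq_one_right ht
  obtain ⟨l, hl⟩ := D.ft σ y c.ne c.sq (c.ker (by
    rw [MonoidHom.mem_ker, map_mul, ← c.act, ← hy, t1]; group))
  have c3 := (ind_conj y).mul c.act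
  have c4 := (ind_conj l).conj c.act
  have c5 : Φ y * t * (Φ l * t * (Φ l)⁻¹) ∈ Φ.range :=
    ⟨y * slField _ K σ l * l⁻¹ * slField _ K σ 1, by
      rw [map_one, mul_one, map_mul, map_mul, ← c.act, t1, map_inv]; group⟩
  obtain ⟨r, r1, r2⟩ := exists_conj_of_odd hy (by rw [conj_mul, ht]; simp) (odd_of_Cs hn c.ker c5
    (((c3.mul c4).eq_one_iff hn c.ker).1 (by rw [← hl]; exact c3.sq hn c.ker hy)))
  obtain ⟨r, rfl⟩ := zpowers_le.2 c5 r1
  exact ⟨r * l, by rw [← r2, map_mul]; group⟩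

theorem jobFU (hAB : J8AB.{u}) (hCU : J8CU.{u}) (hG : J8FG) : J8FU.{u} := by
  intro n F _ _ _ hp G _ _ e t K _ _ _ ι σ Φ h c
  have hn := hp.two_le
  have D := hG n F hp K c.card
  obtain ⟨η, hη⟩ := c.exists_eta
  have t1 := c.act.mem_Ns
  have hM : Cz t ≤ Ns Φ.range := c.IG_eq hn h.toB1 ▸ h.toB1.le_Ns_IG
  have odd := h.odd_of (centralizer_anti c.le) (normalizer_le_normalizer_centralizer _ t1)
    fun h1 => c.slField_ne hn ((c.act.eq_one_iff hn c.ker).2 h1)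
  have fi := fi8 c hn D h.inv.1
  have ft : ∀ s ∈ Ns Φ.range, IsConj t s →
      ∃ m ∈ Ns Φ.range, (∃ β, Ind Φ m β ∧ out n K β = 1) ∧ s = m * t * m⁻¹ := fun s hs h1 => by
    obtain ⟨g, rfl⟩ := isConj_iff.1 h1
    have h4 := h.cje g
    obtain ⟨ab, ae⟩ := hAB n F hp G (cje g e) (g * t * g⁻¹)
    generalize g * t * g⁻¹ = s at *
    obtain ⟨β, i1⟩ := exists_ind hn c.ker hs
    have b2 := i1.sq hn c.ker h4.inv.1
    have k1 : (fx β).map Φ ≤ Cz s := by rintro _ ⟨a, ha, rfl⟩; exact mem_Cz.2 (i1.comm ha)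
    have sz : ∀ P ≤ Cz s, IsPGroup 2 P → Nat.card P ≤ 256 := fun P p1 p2 => by
      have := (ae h4).sz P p1 p2
      rwa [hp.two, hp.three] at this
    have o2 : (out n K β).2 = 1 := by
      by_contra o2
      have big : ¬ ∃ P ≤ fx β, IsPGroup 2 P ∧ 256 ≤ Nat.card P := by
        rintro ⟨P, p1, p2, p3⟩
        have q1 : P.map Φ ≤ Cz s := (map_mono p1).trans k1
        have q2 : s ∉ P.map Φ := by
          rintro ⟨y, -, rfl⟩
          rw [i1.unique hn c.ker (ind_conj y), out_conj hn] at o2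
          exact o2 rfl
        have q3 : IsPGroup 2 (zpowers s) := by
          apply IsPGroup.of_card_dvd_pow (n := 1)
          rw [Nat.card_zpowers, pow_one]
          exact orderOf_dvd_of_pow_eq_one (by rw [pow_two, h4.inv.1])
        have q4 : IsPGroup 2 (P.map Φ ⊔ zpowers s : Subgroup G) :=
          IsPGroup.to_sup_of_normal_right' (p2.map Φ) q3 (q1.trans fun a ha =>
            H64.SG.Cs_le_Ns _ fun b hb => by
              obtain ⟨k, rfl⟩ := mem_zpowers_iff.1 hb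
              exact (Commute.zpow_left (mem_Cz.1 ha) k).eq)
        have q5 := sz _ (sup_le q1 (zpowers_le.2 (mem_Cz.2 rfl))) q4
        have q6 : P.map Φ = P.map Φ ⊔ zpowers s :=
          eq_of_le_of_card_ge le_sup_left (by rw [card_map2 c.ker p2]; omega)
        exact q2 (q6 ▸ mem_sup_right (mem_zpowers s))
      obtain ⟨N, n1, n2, r, r1, r2⟩ := (D.u2 β b2 o2).resolve_left big
      exact r2 (r1.trans ((rel_dvd c.ker N).trans ((card_dvd_of_le ((ab h4.b0).pf _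
        ((map_mono n1).trans k1) (by rw [← map_commutator]; exact map_mono n2))).trans
          (card_range_dvd _))))
    rcases out_sq_eq_one c.ne c.sq (τ := (out n K β).1)
      (by rw [← Prod.fst_mul, ← map_mul, b2, map_one]; rfl) with o1 | o1
    · obtain ⟨y, y1, rfl⟩ := inner_of_out hn (Prod.ext o1 o2) (is2_of_sq b2)
      rw [H64.SG.fx_conj] at k1
      obtain ⟨P, p1, p2, p3⟩ := D.bk y (eq_one_of_center (conj_eq_one.1 (by rw [map_mul, b2]))
        (y1.mul y1 rfl))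
      have := sz _ ((map_mono p1).trans k1) (p2.map Φ)
      rw [card_map2 c.ker p2] at this
      omega
    have o3 : s * t ∈ oi Φ ⊥ := ⟨_, i1.mul c.act, by
      rw [map_mul, out_slField hn, show out n K β = (σ, 1) from Prod.ext o1 o2]
      exact Prod.ext c.sq rfl⟩
    obtain ⟨r, hr⟩ := H9.UF.exists_odd (s * t)
    have d2 := isPGroup_iff_is2.1 hr _ (mem_zpowers _)
    obtain ⟨α, a1, a2⟩ := pow_mem o3 (2 * r + 1)
    obtain ⟨y, -, -, k, k1, k2, k3, -⟩ := a1.inner hn c.ker a2 d2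
    rw [k2.eq_one (H64.SG.odd_orderOf_of_mem odd k1), one_mul] at k3
    have d3 := H9.UF.dih h4.inv.1 h.inv.1 r
    have d4 : (s * t) ^ r * s * ((s * t) ^ r)⁻¹ = Φ (slField _ K σ y⁻¹) * t := by
      rw [← c.act, map_inv, ← k3, inv_mul_cancel_right, eq_mul_inv_iff_mul_eq,
        show (s * t) ^ r * s * ((s * t) ^ r)⁻¹ * (s * t) ^ (2 * r + 1) =
          (s * t) ^ r * (s * (s * t) ^ (2 * r + 1)) * ((s * t) ^ r)⁻¹ by group, ← d3]
      group
    obtain ⟨l, hl⟩ := fi _ (by rw [← d4, conj_mul, h4.inv.1]; simp)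
    obtain ⟨γ, g1, g2⟩ := mul_mem (inv_mem (pow_mem o3 r)) ⟨_, ind_conj l, out_conj hn l⟩
    exact ⟨_, g1.mem_Ns, ⟨γ, g1, g2⟩, by
      rw [_root_.mul_inv_rev, mul_assoc, mul_assoc, ← mul_assoc t, ← mul_assoc (Φ l), ← mul_assoc (Φ l),
        ← hl, ← d4]; group⟩
  refine ⟨hCU n F hp G e t Φ.range h.toB1 ⟨⟨⟨h.inv, t1, fun g hg => ?_⟩, c.le, odd, fun g hg =>
    isConj_iff.2 ⟨_, by rw [c.conj_t hη hg, h.comm]⟩⟩, fun l l1 l2 m m1 m2 => ?_,
    fun o o1 o2 => ?_⟩, ft, fi⟩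
  · obtain ⟨m, m1, -, m2⟩ := ft _ hg (isConj_iff.2 ⟨g, rfl⟩)
    refine (mul_mem_cancel_left (inv_mem m1)).1 (hM (mem_Cz.2 ?_))
    calc _ = m⁻¹ * (m * t * m⁻¹) * g := by group
      _ = _ := by rw [← m2]; group
  · have p0 := isP_UU.to_le (Ml_le_UU (n := n) (F := F) l)
    have key : ∀ m ζ, ζ ∈ Ml n K l → Ind Φ m (MulAut.conj ζ) →
        (Is2 (cm m t) → cm m t ∈ (Ml n F l).map e) ∧ m * m ∈ Cs Φ.range := fun m ζ z1 i1 => by
      have k1 := ind_conj_iff.1 i1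
      have z2 : slField _ K σ ζ ∈ Ml n K l := ((mem_St_Pat (β := slField _ K σ) fun i j _ hs a => by
        rw [slField_x]; exact x_mem_Pat hs _) ζ).1 z1
      obtain ⟨u, u1, u2⟩ := c.mem_of_fix (uni_Ml l) (mul_mem z1 z2) (by
        rw [map_mul, ← MulAut.mul_apply, ← map_mul, c.sq, map_one, MulAut.one_apply,
          Ml_le_Cs l z1 _ z2])
      have k2 : Φ ζ * Φ ζ = 1 := by rw [← map_mul, sq_Ml z1, map_one]
      have k3 : cm (Φ ζ) t = e u := by
        rw [cm, inv_eq_of_mul_eq_one_right k2, mul_assoc, mul_assoc, ← mul_assoc t, c.act, ← map_mul,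
          ← u2, c.res]
      obtain ⟨k, rfl⟩ : ∃ k, m = k * Φ ζ := ⟨m * _⁻¹, (inv_mul_cancel_right _ _).symm⟩
      rw [mul_inv_cancel_right] at k1
      refine ⟨fun k4 => ?_, ?_⟩
      · rw [cm_eq_of_odd odd (normalizer_le_normalizer_centralizer _ t1) k1 (k3 ▸ fun a ha =>
          (ha _ (c.le ⟨_, rfl⟩)).symm) (k3 ▸ (isPGroup_iff_is2.1 p0 _ u1).map e) k4, k3]
        exact ⟨_, u1, rfl⟩
      · rw [mul_assoc, ← mul_assoc (Φ ζ), k1 _ ⟨ζ, rfl⟩, mul_assoc k, k2, mul_one]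
        exact mul_mem k1 k1
    obtain ⟨β, i1⟩ := exists_ind hn c.ker m1
    obtain ⟨ζ, z1, τ, z2, rfl⟩ := (jobFA n K (hp.par c.card)).ctS l l1 l2 ι.range ⟨1, map_one ι⟩ β (by
      rintro i j h1 h2 _ ⟨a, rfl⟩
      refine (i1.comm_iff c.ker (is2_of_sq (x_mul_self ..))).1 ?_
      rw [c.x]; exact (m2 _ ⟨_, x_mem_Pat (And.intro h1 h2) a, rfl⟩).symm)
    rcases c.gal (τ := τ) fun a => z2 _ ⟨a, rfl⟩ with rfl | rfl
    · rw [map_one, mul_one] at i1
      exact ⟨(key m ζ z1 i1).1, H64.SG.mem_of_sq_mem (key m ζ z1 i1).2⟩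
    · refine ⟨cm_mul_t (t := t) m ▸ (key (m * t) ζ z1 (by
        simpa only [mul_assoc, ← map_mul, c.sq, map_one, mul_one] using i1.mul c.act)).1,
        fun ho => absurd ?_ c.ne⟩
      have := (i1.odd hn c.ker ho).of_dvd_nat (orderOf_map_dvd ((MonoidHom.fst _ _).comp (out n K)) _)
      rw [MonoidHom.comp_apply, map_mul, out_conj hn, out_slField hn, one_mul] at this
      exact (is2_of_sq c.sq).eq_one this
  · have h0 := zero_ne_la (n := n) (by omega)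
    obtain ⟨k, k1, k2⟩ := exists_third hn 0 (la n)
    have z1 := o2 (Φ (x 0 (la n) η)) (le_normalizer ⟨_, rfl⟩) fun a ha => by
      obtain ⟨u, hu, rfl⟩ := c.map_le _ ha
      rw [← map_mul, ← UU_le_Cs hu _ (x_mem_ZZ η), map_mul]
    have o3 : e.range ≤ Cz o := fun a ha => mem_Cz.2 (o1 a ha).symm
    refine H64.SG.Cs_le_Ns _ fun a ha => (mem_Cz.1 (c.range_le_of hη o3 k2 (fun v => ?_) ha)).symm
    have k3 : (Φ (x 0 (la n) η))⁻¹ * (e (x k 0 v))⁻¹ * Φ (x 0 (la n) η) ∈ Cz o := mem_Cz.2 (by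
      have := z1 _ (inv_mem ⟨x k 0 v, rfl⟩)
      calc _ = (Φ (x 0 (la n) η))⁻¹ * (Φ (x 0 (la n) η) * o * (Φ (x 0 (la n) η))⁻¹ *
            (e (x k 0 v))⁻¹) * Φ (x 0 (la n) η) := by group
        _ = _ := by rw [← this]; group)
    have k4 := mul_mem (o3 ⟨x k 0 v, rfl⟩) k3
    rw [← c.x, ← map_inv, x_inv] at k4
    rw [← x_cm k1 h0 k2, cm, x_inv 0]
    simpa only [map_mul, map_inv, mul_assoc] using k4

end H38.A8FU
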