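import Cfsg.Agent.H63.A8Def

/-! A8S-NT: case A (b) of the tower for `L₄(2) = A₈` (row S3152). -/

set_option autoImplicit false

namespace H38.A8

open H64.SG (Cz Cs Ns Inv2)
open H67.SA H63.A8 Equiv

universe u

/-- `(i j)(k l)` in `A₈` -/
def dd (i j k l : Fin 8) (h : i ≠ j) (h' : k ≠ l) : A8 :=
  ⟨swap i j * swap k l, by
    rw [Perm.mem_alternatingGroup, map_mul, Perm.sign_swap h, Perm.sign_swap h']; simp⟩

def x0 : A8 := dd 0 1 2 3 (by decide) (by decide)
def a0 : A8 := dd 0 1 4 5 (by decide) (by decide)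
def b0 : A8 := dd 0 2 1 3 (by decide) (by decide)
def v1 : A8 := dd 4 5 6 7 (by decide) (by decide)
def v2 : A8 := dd 4 6 5 7 (by decide) (by decide)
def v3 : A8 := dd 4 7 5 6 (by decide) (by decide)
def r0 : A8 := dd 5 6 4 5 (by decide) (by decide)

theorem ty_x0 : Ty 4 (x0 : S8) := ⟨by decide, by decide⟩
theorem cm_ab : cm a0 b0 = x0 := Subtype.ext (by decide)
theorem ax : a0 * x0 = x0 * a0 := Subtype.ext (by decide)
theorem bx : b0 * x0 = x0 * b0 := Subtype.ext (by decide)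
theorem rx : r0 * x0 = x0 * r0 := Subtype.ext (by decide)
theorem r3 : r0 ^ 3 = 1 := Subtype.ext (by decide)
theorem v12 : v1 * v2 = v3 := Subtype.ext (by decide)
theorem x0_ne : x0 ≠ 1 := fun h => absurd (congrArg Subtype.val h) (by decide)

/-- the data for an element of `V#` -/
def Vd (v : A8) : Prop := v * x0 = x0 * v ∧ v * v = 1 ∧ v ≠ 1 ∧ Ty 8 ((x0 * v : A8) : S8) ∧
  ∃ w : A8, w * x0 = x0 * w ∧ w * w = 1 ∧ cm r0 w = v

theorem vd1 : Vd v1 :=
  ⟨Subtype.ext (by decide), Subtype.ext (by decide),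
    fun h => absurd (congrArg Subtype.val h) (by decide), ⟨by decide, by decide⟩,
    v2, Subtype.ext (by decide), Subtype.ext (by decide), Subtype.ext (by decide)⟩

theorem vd2 : Vd v2 :=
  ⟨Subtype.ext (by decide), Subtype.ext (by decide),
    fun h => absurd (congrArg Subtype.val h) (by decide), ⟨by decide, by decide⟩,
    v3, Subtype.ext (by decide), Subtype.ext (by decide), Subtype.ext (by decide)⟩

theorem vd3 : Vd v3 :=
  ⟨Subtype.ext (by decide), Subtype.ext (by decide),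
    fun h => absurd (congrArg Subtype.val h) (by decide), ⟨by decide, by decide⟩,
    v1, Subtype.ext (by decide), Subtype.ext (by decide), Subtype.ext (by decide)⟩

theorem cm_even (σ τ : S8) : cm σ τ ∈ alternatingGroup (Fin 8) := by
  rw [Perm.mem_alternatingGroup]
  simp only [map_mul, map_inv]
  rcases Int.units_eq_one_or (Perm.sign σ) with h | h <;>
    rcases Int.units_eq_one_or (Perm.sign τ) with h' | h' <;> simp [h, h']

theorem core (P : KP) (K : JKA.{u}) (X : JNX.{u}) {G : Type u} [Group G] [Finite G]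
    (f : A8 →* G) (t : G) (h : PA f t) (g : G) (hg : g * t * g⁻¹ = t * f x0) : False := by
  have hA : PA (cjf g f) (t * f x0) := hg ▸ (K G f t h).cj g
  set f' := cjf g f with hf'
  set s := t * f x0 with hs
  have hK : KA f' s := K G f' s hA
  have hX : NX f' s := X G f' s hA
  have hst : IsConj s t := (isConj_iff.2 ⟨g, hg⟩).symm
  have tf : ∀ a : A8, f a * t = t * f a := fun a =>
    Subgroup.mem_centralizer_iff.1 h.cen _ ⟨a, rfl⟩
  have sf : ∀ a : A8, f' a * s = s * f' a := fun a =>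
    Subgroup.mem_centralizer_iff.1 hA.cen _ ⟨a, rfl⟩
  have tt : t * t = 1 := h.inv.1
  have ss : s * s = 1 := hA.inv.1
  have mem : ∀ a : A8, a * x0 = x0 * a → f a ∈ Cz s := fun a ha => by
    rw [Subgroup.mem_centralizer_singleton_iff, hs, ← mul_assoc, tf, mul_assoc, ← map_mul, ha,
      map_mul, mul_assoc]
  have ht : t ∈ Cz s := by
    rw [Subgroup.mem_centralizer_singleton_iff, hs, mul_assoc, tf]
  have hs' : s ∈ Cz s := by rw [Subgroup.mem_centralizer_singleton_iff]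
  obtain ⟨π, hπ, hπ1, -⟩ := hK.pi
  -- `π t` is even
  have hte : π ⟨t, ht⟩ ∈ alternatingGroup (Fin 8) := by
    have e1 : (⟨t, ht⟩ : Cz s) * cm ⟨f a0, mem _ ax⟩ ⟨f b0, mem _ bx⟩ = ⟨s, hs'⟩ := by
      apply Subtype.ext
      simp only [Subgroup.coe_mul, Subgroup.coe_inv]
      rw [hs, ← cm_ab]
      simp [map_mul, map_inv]
    have e2 : π ⟨s, hs'⟩ = 1 := (hπ1 _).2 hA.cen
    have e3 : π ⟨t, ht⟩ = (cm (π ⟨f a0, mem _ ax⟩) (π ⟨f b0, mem _ bx⟩))⁻¹ := by
      rw [eq_inv_iff_mul_eq_one, ← e2, ← e1]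
      simp only [map_mul, map_inv]
    rw [e3]
    exact inv_mem (cm_even _ _)
  set ξ : A8 := ⟨π ⟨t, ht⟩, hte⟩ with hξ
  have ξ2 : (ξ : S8) * ξ = 1 := by
    change π _ * π _ = 1
    rw [← map_mul, ← map_one π]
    congr 1
    exact Subtype.ext tt
  have hd := hK.dec t ht tt ξ (hπ ⟨t, ht⟩)
  have hξ4 : Ty 4 (ξ : S8) ∧ t = s * f' ξ := by
    rcases P.cls _ ξ2 with h1 | h1 | h1 | h1 | h1
    · have : ξ = 1 := Subtype.ext h1
      rw [this, map_one, mul_one] at hd
      rcases hd with hd | hd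
      · exact absurd hd h.inv.2
      · exfalso
        apply x0_ne
        apply h.inj
        rw [map_one]
        rw [hs] at hd
        exact (left_eq_mul.1 hd)
    · exact absurd hte (P.od _ (Or.inl h1))
    · rcases hd with hd | hd
      · exact absurd (hd ▸ hst) (hX ξ h1)
      · exact ⟨h1, hd⟩
    · exact absurd hte (P.od _ (Or.inr h1))
    · rcases hd with hd | hd
      · exact absurd (hd ▸ hst) (hA.nz ξ h1)
      · exact absurd (hd ▸ hst) (hA.ntz ξ h1)
  -- the elements of `V#`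
  have key : ∀ v : A8, Vd v → ∃ ν : A8, f v = s * f' ν := by
    rintro v ⟨hvx, hvv, hv1, hty, w, hwx, hww, hc⟩
    have e1 : (⟨f v, mem _ hvx⟩ : Cz s) = cm ⟨f r0, mem _ rx⟩ ⟨f w, mem _ hwx⟩ := by
      apply Subtype.ext
      simp only [Subgroup.coe_mul, Subgroup.coe_inv]
      rw [← hc]
      simp [map_mul, map_inv]
    have e2 : π ⟨f v, mem _ hvx⟩ = cm (π ⟨f r0, mem _ rx⟩) (π ⟨f w, mem _ hwx⟩) := by
      rw [e1]
      simp only [map_mul, map_inv]
    have hve : π ⟨f v, mem _ hvx⟩ ∈ alternatingGroup (Fin 8) := e2 ▸ cm_even _ _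
    have fvv : f v * f v = 1 := by rw [← map_mul, hvv, map_one]
    rcases hK.dec (f v) (mem _ hvx) fvv ⟨_, hve⟩ (hπ ⟨f v, mem _ hvx⟩) with hd' | hd'
    swap
    · exact ⟨_, hd'⟩
    exfalso
    have cξ : ∀ (a : A8) (ha : a * x0 = x0 * a),
        π ⟨f a, mem _ ha⟩ * (ξ : S8) = ξ * π ⟨f a, mem _ ha⟩ := fun a ha => by
      change π _ * π _ = π _ * π _
      rw [← map_mul, ← map_mul]
      congr 1
      exact Subtype.ext (tf a)
    have hρ : π ⟨f r0, mem _ rx⟩ ^ 3 = 1 := by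
      rw [← map_pow, ← map_one π]
      congr 1
      apply Subtype.ext
      simp only [SubgroupClass.coe_pow, OneMemClass.coe_one]
      rw [← map_pow, r3, map_one]
    have hw : π ⟨f w, mem _ hwx⟩ * π ⟨f w, mem _ hwx⟩ = 1 := by
      rw [← map_mul, ← map_one π]
      congr 1
      apply Subtype.ext
      simp only [Subgroup.coe_mul, OneMemClass.coe_one]
      rw [← map_mul, hww, map_one]
    have hv : π ⟨f v, mem _ hvx⟩ * π ⟨f v, mem _ hvx⟩ = 1 := by
      rw [← map_mul, ← map_one π]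
      congr 1
      exact Subtype.ext fvv
    have h22 := P.v22 ξ _ _ hξ4.1 hρ (cξ _ rx) (cξ _ hwx) hw (e2 ▸ hv)
    rw [← e2] at h22
    set ν : A8 := ⟨π ⟨f v, mem _ hvx⟩, hve⟩ with hν
    rcases h22 with h1 | h1
    · have : ν = 1 := Subtype.ext h1
      rw [this, map_one] at hd'
      exact hv1 (h.inj (by rw [hd', map_one]))
    · obtain ⟨c, hc'⟩ := P.cj 4 ξ ν (by decide) hξ4.1 h1
      have hcc : c * ξ * c⁻¹ = ν := Subtype.ext hc'
      apply h.ntz (x0 * v) hty
      refine isConj_iff.2 ⟨f' c, ?_⟩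
      rw [map_mul, ← mul_assoc t, ← hs, hd', ← hcc, map_mul, map_mul, map_inv]
      conv_lhs => rw [hξ4.2]
      rw [← mul_assoc, sf]
      simp only [mul_assoc]
  obtain ⟨n1, h1⟩ := key _ vd1
  obtain ⟨n2, h2⟩ := key _ vd2
  obtain ⟨n3, h3⟩ := key _ vd3
  apply hK.nt
  rw [← v12, map_mul, h1, h2, mul_assoc, ← mul_assoc (f' n1), sf, ← mul_assoc, ← mul_assoc, ss,
    one_mul] at h3
  refine ⟨n1 * n2 * n3⁻¹, ?_⟩
  rw [map_mul, map_mul, map_inv, h3]
  simp

theorem jobNT (P : KP) (K : JKA.{u}) (X : JNX.{u}) : JNT.{u} := by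
  intro G _ _ f t h a ha hc
  obtain ⟨g, hg⟩ := isConj_iff.1 hc
  obtain ⟨c, hc'⟩ := P.cj 4 a x0 (by decide) ha ty_x0
  have hcc : c * a * c⁻¹ = x0 := Subtype.ext hc'
  have tf : f c * t = t * f c := Subgroup.mem_centralizer_iff.1 h.cen _ ⟨c, rfl⟩
  refine core P K X f t h (f c * g) ?_
  rw [← hcc, map_mul, map_mul, map_inv, ← mul_assoc, ← mul_assoc, ← tf, mul_assoc (f c) t, ← hg]
  group

end H38.A8
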