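/- CG-AF1, part a: the action of the symmetric group on `V6`, generators, invariants. -/
import Cfsg.Agent.H88.CGKit

set_option autoImplicit false
set_option maxRecDepth 100000

namespace H38.AF

open Subgroup H88.CG Equiv
open H6 (F4)

theorem h2 : (2 : F4) = 0 := by decide
theorem hw : F4.w * F4.w = F4.w + 1 := by decide
theorem hv : F4.v = F4.w + 1 := by decide
theorem hi : F4.i = 1 := rfl
theorem ho : F4.o = 0 := rfl

theorem ki_kp (x : V6) : ki (kp x) = x := by
  obtain ⟨c, d, a, b, s, t⟩ := x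
  have := h2; have := hw
  simp only [ki, kp, hv, Matrix.cons_val, Prod.mk.injEq]
  refine ⟨?_, ?_, ?_, ?_, ?_, ?_⟩ <;> grind

theorem sum_kp (x : V6) : ∑ i, kp x i = 0 := by
  obtain ⟨c, d, a, b, s, t⟩ := x
  have := h2; have := hw
  simp only [Fin.sum_univ_eight, kp, hv, Matrix.cons_val]
  grind

theorem kp_ki {f : Fin 8 → F4} (h : ∑ i, f i = 0) (i : Fin 8) :
    kp (ki f) i = f i + (f 0 + f 1 + f 2) := by
  have := h2; have := hw
  rw [Fin.sum_univ_eight] at h
  fin_cases i <;> simp only [ki, kp, hv, Fin.reduceFinMk, Matrix.cons_val, Fin.zero_eta, Fin.mk_one] <;> grind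

theorem ki_const (f : Fin 8 → F4) (c : F4) : ki (fun i => f i + c) = ki f := by
  have := h2; have := hw
  simp only [ki, hv, Prod.mk.injEq]
  refine ⟨?_, ?_, ?_, ?_, ?_, ?_⟩ <;> grind

theorem ki_add (f g : Fin 8 → F4) : ki (fun i => f i + g i) = ki f + ki g := by
  simp only [ki, Prod.mk_add_mk, Prod.mk.injEq]
  refine ⟨?_, ?_, ?_, ?_, ?_, ?_⟩ <;> ring

theorem ki_smul (c : F4) (f : Fin 8 → F4) : ki (fun i => c * f i) = c • ki f := by
  simp only [ki, Prod.smul_mk, smul_eq_mul, Prod.mk.injEq]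
  refine ⟨?_, ?_, ?_, ?_, ?_, ?_⟩ <;> ring

theorem kp_add (x y : V6) (i : Fin 8) : kp (x + y) i = kp x i + kp y i := by
  obtain ⟨c, d, a, b, s, t⟩ := x
  obtain ⟨c', d', a', b', s', t'⟩ := y
  fin_cases i <;>
    simp only [Prod.mk_add_mk, kp, Fin.reduceFinMk, Matrix.cons_val, Fin.zero_eta, Fin.mk_one] <;> ring

theorem kp_smul (e : F4) (x : V6) (i : Fin 8) : kp (e • x) i = e * kp x i := by
  obtain ⟨c, d, a, b, s, t⟩ := x
  fin_cases i <;>
    simp only [Prod.smul_mk, smul_eq_mul, kp, Fin.reduceFinMk, Matrix.cons_val, Fin.zero_eta, Fin.mk_one] <;>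
    ring

theorem w_sq : F4.w ^ 2 = F4.v := by decide
theorem v_sq : F4.v ^ 2 = F4.w := by decide

theorem kp_Xs (x : V6) (i : Fin 8) : kp (Xs x) i = kp x i ^ 2 := by
  obtain ⟨c, d, a, b, s, t⟩ := x
  fin_cases i <;>
    simp only [Xs, kp, Fin.reduceFinMk, Matrix.cons_val, Fin.zero_eta, Fin.mk_one, sq_add, mul_pow, w_sq,
      v_sq] <;> ring

theorem ki_sq (f : Fin 8 → F4) : ki (fun i => f i ^ 2) = Xs (ki f) := by
  simp only [ki, Xs, sq_add, mul_pow, w_sq, v_sq]

theorem sum_symm (σ : Perm (Fin 8)) {f : Fin 8 → F4} (h : ∑ i, f i = 0) : ∑ i, f (σ.symm i) = 0 :=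
  (Equiv.sum_comp σ.symm f).trans h

theorem th_ki (σ : Perm (Fin 8)) {f : Fin 8 → F4} (h : ∑ i, f i = 0) :
    th σ (ki f) = ki fun i => f (σ.symm i) := by
  simp only [th, kp_ki h, ki_const]

theorem th_one (x : V6) : th 1 x = x := ki_kp x

theorem th_mul (σ π : Perm (Fin 8)) (x : V6) : th (σ * π) x = th σ (th π x) :=
  (th_ki σ (sum_symm π (sum_kp x))).symm

theorem th_add (σ : Perm (Fin 8)) (x y : V6) : th σ (x + y) = th σ x + th σ y := by
  simp only [th, kp_add, ki_add]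

theorem th_smul (σ : Perm (Fin 8)) (c : F4) (x : V6) : th σ (c • x) = c • th σ x := by
  simp only [th, kp_smul, ki_smul]

theorem th_zero (σ : Perm (Fin 8)) : th σ 0 = 0 := by simpa using th_smul σ 0 0

theorem th_xs (σ : Perm (Fin 8)) (x : V6) : Xs (th σ x) = th σ (Xs x) := by
  simp only [th, kp_Xs, ki_sq]

theorem inv_th (σ : Perm (Fin 8)) (x : V6) : th σ⁻¹ (th σ x) = x := by rw [← th_mul, inv_mul_cancel, th_one]

theorem th_inv (σ : Perm (Fin 8)) (x : V6) : th σ (th σ⁻¹ x) = x := by rw [← th_mul, mul_inv_cancel, th_one]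

theorem th_inj (σ : Perm (Fin 8)) {x y : V6} (h : th σ x = th σ y) : x = y := by
  rw [← inv_th σ x, h, inv_th]

/-- two functions with sum zero and the same vector differ by a constant -/
theorem ki_eq {f g : Fin 8 → F4} (hf : ∑ i, f i = 0) (hg : ∑ i, g i = 0) (h : ki f = ki g) :
    ∃ c, ∀ i, f i = g i + c := by
  refine ⟨f 0 + f 1 + f 2 + (g 0 + g 1 + g 2), fun i => ?_⟩
  have := kp_ki hf i
  rw [h, kp_ki hg] at this
  have := h2
  grind

theorem fix_ki {σ : Perm (Fin 8)} {f : Fin 8 → F4} (hf : ∑ i, f i = 0) (h : th σ (ki f) = ki f) :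
    ∃ c, ∀ i, f (σ i) = f i + c := by
  rw [th_ki σ hf] at h
  obtain ⟨c, k⟩ := ki_eq hf (sum_symm σ hf) h.symm
  exact ⟨c, fun i => by rw [k, symm_apply_apply]⟩

theorem ki_fix {σ : Perm (Fin 8)} {f : Fin 8 → F4} (hf : ∑ i, f i = 0) {c : F4}
    (h : ∀ i, f (σ i) = f i + c) : th σ (ki f) = ki f := by
  rw [th_ki σ hf, ← ki_const _ c]
  exact congrArg ki (funext fun i => by rw [← h, apply_symm_apply])

theorem tw (y : F4) (x : V6) : th (σw y) x = W₁ y x := by
  obtain ⟨c, d, a, b, s, t⟩ := x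
  have := h2; have := hw
  have e1 : ⇑(σw .i).symm = ![4, 2, 1, 3, 0, 5, 6, 7] := by decide
  have e2 : ⇑(σw .w).symm = ![2, 4, 0, 3, 1, 5, 6, 7] := by decide
  have e3 : ⇑(σw .v).symm = ![1, 0, 4, 3, 2, 5, 6, 7] := by decide
  cases y
  · simp [σw, th_one, W₁, ho]
  all_goals
    simp only [th, e1, e2, e3]
    simp only [ki, W₁, kp, hv, hi, Matrix.cons_val, Prod.mk.injEq]
    refine ⟨?_, ?_, ?_, ?_, ?_, ?_⟩ <;> grind

theorem tl (y : F4) (x : V6) : th (σl y) x = Wl y x := by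
  obtain ⟨c, d, a, b, s, t⟩ := x
  have := h2; have := hw
  have e1 : ⇑(σl .i).symm = ![0, 1, 2, 3, 5, 4, 7, 6] := by decide
  have e2 : ⇑(σl .w).symm = ![0, 1, 2, 3, 7, 6, 5, 4] := by decide
  have e3 : ⇑(σl .v).symm = ![0, 1, 2, 3, 6, 7, 4, 5] := by decide
  cases y
  · simp [σl, th_one, Wl, ho]
  all_goals
    simp only [th, e1, e2, e3]
    simp only [ki, Wl, kp, hv, hi, Matrix.cons_val, Prod.mk.injEq]
    refine ⟨?_, ?_, ?_, ?_, ?_, ?_⟩ <;> grind

theorem tτ (x : V6) : th στ x = Wτ x := by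
  obtain ⟨c, d, a, b, s, t⟩ := x
  have := h2; have := hw
  have e1 : ⇑στ.symm = ![0, 1, 2, 4, 3, 5, 7, 6] := by decide
  simp only [th, e1]
  simp only [ki, Wτ, kp, hv, Matrix.cons_val, Prod.mk.injEq]
  refine ⟨?_, ?_, ?_, ?_, ?_, ?_⟩ <;> grind

theorem ts (c d a b s t : F4) : th (swap 6 7) (c, d, a, b, s, t) = (c, d, a, b, t, s) := by
  have := h2; have := hw
  have e1 : ⇑(swap 6 7 : Perm (Fin 8)).symm = ![0, 1, 2, 3, 4, 5, 7, 6] := by decide
  simp only [th, e1]
  simp only [ki, kp, hv, Matrix.cons_val, Prod.mk.injEq]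
  refine ⟨?_, ?_, ?_, ?_, ?_, ?_⟩ <;> grind

theorem t₄ (x : V6) : th σ₄ x = W₁ 1 (Wτ (Wl 1 (Wτ x))) := by
  rw [← tτ, ← tl, ← tτ, ← tw, ← th_mul, ← th_mul, ← th_mul]
  congr 1
  decide

theorem mem_A8 {σ : Perm (Fin 8)} : σ ∈ A8 ↔ Perm.sign σ = 1 := Perm.mem_alternatingGroup

theorem odd_mul {σ π : Perm (Fin 8)} (h : σ ∉ A8) (k : π ∉ A8) : σ * π ∈ A8 := by
  rw [mem_A8] at *
  rw [Perm.sign_mul, (Int.units_eq_one_or _).resolve_left h, (Int.units_eq_one_or _).resolve_left k]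
  decide

theorem swap_odd {i j : Fin 8} (h : i ≠ j) : swap i j ∉ A8 := by
  rw [mem_A8, Perm.sign_swap h]; decide

theorem words : ∀ i : Fin 7, swap 6 7 * swap i.castSucc i.succ =
    ![(σw .v * σl .i) ^ 3, (σw .i * σl .i) ^ 3, σw .v * στ * σw .v, στ, σl .i,
      σl .v * στ * σl .w * στ * σl .v * στ, 1] i := by decide +kernel

theorem gen : closure {σ | (∃ y, σw y = σ ∨ σl y = σ) ∨ στ = σ} = A8 := by
  set H := closure {σ | (∃ y, σw y = σ ∨ σl y = σ) ∨ στ = σ} with hH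
  have le : H ≤ A8 := (closure_le _).2 (by
    rintro _ (⟨y, rfl | rfl⟩ | rfl)
    · cases y <;> simp [σw, mem_A8]
    · cases y <;> simp [σl, mem_A8]
    · simp [στ, mem_A8])
  have a : ∀ y, σw y ∈ H := fun y => subset_closure (.inl ⟨y, .inl rfl⟩)
  have b : ∀ y, σl y ∈ H := fun y => subset_closure (.inl ⟨y, .inr rfl⟩)
  have c : στ ∈ H := subset_closure (.inr rfl)
  have k : ∀ i : Fin 7, swap 6 7 * swap i.castSucc i.succ ∈ H := fun i => by
    rw [words i]
    fin_cases i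
    exacts [pow_mem (mul_mem (a _) (b _)) 3, pow_mem (mul_mem (a _) (b _)) 3,
      mul_mem (mul_mem (a _) c) (a _), c, b .i,
      mul_mem (mul_mem (mul_mem (mul_mem (mul_mem (b _) c) (b _)) c) (b _)) c, one_mem _]
  have all : ∀ σ : Perm (Fin 8), σ ∈ H ∨ swap 6 7 * σ ∈ H := fun σ => by
    have : σ ∈ Submonoid.closure (Set.range fun i : Fin 7 => swap i.castSucc i.succ) := by
      rw [Perm.mclosure_swap_castSucc_succ]; trivial
    induction this using Submonoid.closure_induction_left with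
    | one => exact .inl (one_mem _)
    | mul_left t ht σ _ ih =>
      obtain ⟨i, rfl⟩ := ht
      rcases ih with h | h
      · exact .inr (mul_assoc (swap 6 7) _ σ ▸ mul_mem (k i) h)
      · refine .inl ?_
        have := mul_mem (inv_mem (k i)) h
        rwa [mul_inv_rev, swap_inv, swap_inv, mul_assoc, swap_mul_self_mul] at this
  refine le_antisymm le fun σ h => (all σ).resolve_right fun e => ?_
  exact swap_odd (by decide) ((A8.mul_mem_cancel_right h).1 (le e))

theorem th_qf (σ : Perm (Fin 8)) : ∀ x, qf (th σ x) = qf x := by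
  have k : ∀ σ ∈ A8, ∀ x, qf (th σ x) = qf x := fun σ h => by
    rw [← gen] at h
    induction h using closure_induction with
    | mem _ h =>
      rintro ⟨c, d, a, b, s, t⟩
      have := h2
      obtain ⟨y, rfl | rfl⟩ | rfl := h
      · simp only [tw, W₁, qf]; grind
      · simp only [tl, Wl, qf]; grind
      · simp only [tτ, Wτ, qf]; ring
    | one => exact fun x => by rw [th_one]
    | mul _ _ _ _ a b => exact fun x => by rw [th_mul, a, b]
    | inv σ _ a => exact fun x => by rw [← a, th_inv]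
  by_cases h : σ ∈ A8
  · exact k σ h
  rintro ⟨c, d, a, b, s, t⟩
  rw [← mul_swap_mul_self 6 7 σ, th_mul, k _ (odd_mul h (swap_odd (by decide))), ts]
  simp only [qf]; ring

theorem th_bf (σ : Perm (Fin 8)) (x y : V6) : bf (th σ x) (th σ y) = bf x y := by
  have := qf_add (th σ x) (th σ y)
  rw [← th_add, th_qf, th_qf, th_qf, qf_add] at this
  exact (add_left_cancel this).symm

/-- a vector with repeated value zero and distinct other values pins the points down -/
theorem pin {σ : Perm (Fin 8)} (f : Fin 8 → F4) (p q : Fin 8)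
    (hf : ∑ i, f i = 0 ∧ p ≠ q ∧ f p = 0 ∧ f q = 0 ∧ ∀ a b, f a = f b → f a ≠ 0 → a = b)
    (h : th σ (ki f) = ki f) (i : Fin 8) (hi : f i ≠ 0) : σ i = i := by
  obtain ⟨h0, h1, h2, h3, h4⟩ := hf
  obtain ⟨c, k⟩ := fix_ki h0 h
  obtain rfl : c = 0 := by
    by_contra n
    exact h1 (σ.injective (h4 _ _ (by rw [k, k, h2, h3]) (by rwa [k, h2, zero_add])))
  exact (h4 _ _ (by rw [k, add_zero]) hi).symm

theorem inj (σ : Perm (Fin 8)) (h : ∀ x, th σ x = x) : σ = 1 := by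
  have a := pin ![1, .w, .v, 0, 0, 0, 0, 0] 6 7 (by decide) (h _)
  have b := pin ![0, 0, 0, 1, .w, .v, 0, 0] 6 7 (by decide) (h _)
  have c := pin ![0, 0, 0, 0, 0, 1, .w, .v] 0 1 (by decide) (h _)
  ext i
  fin_cases i
  exacts [congrArg _ (a 0 (by decide)), congrArg _ (a 1 (by decide)), congrArg _ (a 2 (by decide)),
    congrArg _ (b 3 (by decide)), congrArg _ (b 4 (by decide)), congrArg _ (b 5 (by decide)),
    congrArg _ (c 6 (by decide)), congrArg _ (c 7 (by decide))]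

end H38.AF
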