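/- CG-AF1, part b: the orbits of the alternating group on `V6`. -/
import Cfsg.Agent.H38.AFa

set_option autoImplicit false
set_option maxRecDepth 100000
set_option synthInstance.maxSize 4096

namespace H38.AF

open Subgroup H88.CG Equiv
open H6 (F4)

/-- how often a value is taken -/
def cn (f : Fin 8 → F4) (b : F4) : ℕ := (Finset.univ.filter fun i => f i = b).card

theorem perm_of_cn {f g : Fin 8 → F4} (h : ∀ b, cn g b = cn f b) : ∃ σ ∈ A8, ∀ i, f (σ i) = g i := by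
  let e : ∀ b, {i // g i = b} ≃ {i // f i = b} := fun b =>
    Fintype.equivOfCardEq (by rw [Fintype.card_subtype, Fintype.card_subtype]; exact h b)
  have k : ∀ i, f (Equiv.ofFiberEquiv e i) = g i := Equiv.ofFiberEquiv_map e
  by_cases a : (Equiv.ofFiberEquiv e : Perm (Fin 8)) ∈ A8
  · exact ⟨_, a, k⟩
  obtain ⟨p, q, n, r⟩ := Fintype.exists_ne_map_eq_of_card_lt g (by decide)
  refine ⟨_, odd_mul a (swap_odd n), fun i => ?_⟩
  rw [Perm.mul_apply, k, swap_apply_def]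
  split_ifs with h1 h2
  exacts [h1 ▸ r.symm, h2 ▸ r, rfl]

/-- the same distribution of values up to a constant -/
def sm (x y : V6) : Prop := ∃ c, ∀ b, cn (kp x) b = cn (kp y) (b + c)

instance instDecSm (x y : V6) : Decidable (sm x y) := by unfold sm; infer_instance

theorem orb_sm {x y : V6} (h : sm x y) : ∃ σ ∈ A8, th σ y = x := by
  obtain ⟨c, h⟩ := h
  obtain ⟨σ, a, k⟩ := perm_of_cn (f := fun i => kp y i + c) (g := kp x) fun b => by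
    rw [h, cn, cn]
    congr 2
    funext i
    rw [← sub_eq_iff_eq_add, sub_eq_add_neg, F4.neg_eq]
  refine ⟨σ⁻¹, inv_mem a, ?_⟩
  rw [th, ← ki_const _ c, ← ki_kp x]
  exact congrArg ki (funext fun i => k i)

def reps : List V6 := [0, (0, 0, 0, 0, 0, 1), (0, 0, 0, 0, 1, 1), (0, 0, 0, 0, 1, .w), (0, 0, 0, 0, 1, .v),
  (0, 0, 0, 1, 0, 0), (0, 0, 0, 1, 1, .w), (0, 0, 0, 1, 1, .v), (0, 0, 0, .w, 0, 0), (0, 0, 0, .w, 1, 1),
  (0, 0, 0, .v, 0, 0), (0, 0, 1, 1, 0, 1), (0, 0, 1, .w, 0, 0), (0, 0, 1, .w, 1, 1), (0, 1, 0, 0, 0, 1)]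

def nf (a b c : ℕ) : F4 → ℕ
  | .o => 8 - (a + b + c) | .i => a | .w => b | .v => c

theorem nf_reps : ∀ a < 9, ∀ b < 9, ∀ c < 9, a + b + c ≤ 8 → a • (1 : F4) + (b • F4.w + c • F4.v) = 0 →
    ∃ r ∈ reps, ∃ e, ∀ k, nf a b c k = cn (kp r) (k + e) := by decide +kernel

theorem sum_F4 {M : Type*} [AddCommMonoid M] (g : F4 → M) : ∑ b, g b = g 0 + (g 1 + (g .w + g .v)) := by
  rw [show (Finset.univ : Finset F4) = {0, 1, .w, .v} by decide]
  rw [Finset.sum_insert (by decide), Finset.sum_insert (by decide), Finset.sum_pair (by decide)]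

theorem to_rep (x : V6) : ∃ r ∈ reps, ∃ σ ∈ A8, th σ r = x := by
  have h1 : ∑ b, cn (kp x) b = 8 :=
    (Finset.card_eq_sum_card_fiberwise (s := Finset.univ) (t := Finset.univ) (f := kp x)
      fun _ _ => Finset.mem_univ _).symm
  have h2 : ∑ b, cn (kp x) b • b = 0 := by
    rw [← sum_kp x, ← Finset.sum_fiberwise' Finset.univ (kp x) fun b => b]
    simp only [cn, Finset.sum_const]
  rw [sum_F4] at h1 h2
  rw [smul_zero, zero_add] at h2
  obtain ⟨r, a, e, k⟩ := nf_reps _ (by omega) _ (by omega) _ (by omega) (by omega) h2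
  refine ⟨r, a, orb_sm ⟨e, fun b => ?_⟩⟩
  rw [← k]
  cases b
  exacts [by simp only [nf, ho]; omega, rfl, rfl, rfl]

def cand : List V6 := [(0, 0, 0, 0, 0, 1), (0, 0, 0, 0, 0, .w), (0, 0, 0, 0, 0, .v), (0, 0, 0, 1, 0, .w),
  (0, 0, 0, .w, 0, 1)]

theorem rep_orb : ∀ r ∈ reps, qf r = 0 → r = 0 ∨ sm r er ∨ (∃ c : F4, c ≠ 0 ∧ sm r (c • ea)) ∨ sm r e0 := by
  decide +kernel

theorem rep_sum : ∀ r ∈ reps, ∃ y ∈ cand, sm y er ∧ sm (r + y) er := by decide +kernel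

theorem rep_R : ∀ r ∈ reps, Xs r = r → (qf r = 0 → r ≠ 0 → sm r ea) ∧ (qf r = 1 → r = (0, 0, 0, 0, 1, 1)) := by
  decide +kernel

theorem dv_th {σ : Perm (Fin 8)} (h : σ ∈ A8) {x : V6} : DV x → DV (th σ x) :=
  fun ⟨π, h1, h2⟩ => ⟨σ * π, mul_mem h h1, by rw [th_mul, h2]⟩

theorem orb (x : V6) (h : qf x = 0) : x = 0 ∨ DV x ∨ LV x ∨ NV x := by
  obtain ⟨r, a, σ, b, rfl⟩ := to_rep x
  rw [th_qf] at h
  obtain rfl | k | ⟨c, n, k⟩ | k := rep_orb r a h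
  · exact .inl (th_zero σ)
  · exact .inr (.inl (dv_th b (orb_sm k)))
  · obtain ⟨π, d, rfl⟩ := orb_sm k
    exact .inr (.inr (.inl ⟨σ * π, mul_mem b d, c, n, th_mul ..⟩))
  · obtain ⟨π, d, rfl⟩ := orb_sm k
    exact .inr (.inr (.inr ⟨σ * π, mul_mem b d, th_mul ..⟩))

theorem dvs (x : V6) (c : F4) (h : DV x) (n : c ≠ 0) : DV (c • x) := by
  obtain ⟨σ, a, rfl⟩ := h
  rw [← th_smul]
  exact dv_th a (orb_sm ((by decide +kernel : ∀ c : F4, c ≠ 0 → sm (c • er) er) c n))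

theorem dvt : DV (0, 0, 0, 0, 0, 1) := orb_sm (by decide +kernel)

theorem nvc (c : F4) (n : c ≠ 0) : NV (c, 0, 0, 0, 0, 1) :=
  orb_sm ((by decide +kernel : ∀ c : F4, c ≠ 0 → sm (c, 0, 0, 0, 0, 1) e0) c n)

theorem sum_dv (x : V6) : ∃ y, DV y ∧ DV (x + y) := by
  obtain ⟨r, a, σ, b, rfl⟩ := to_rep x
  obtain ⟨y, -, k, l⟩ := rep_sum r a
  exact ⟨th σ y, dv_th b (orb_sm k), th_add σ r y ▸ dv_th b (orb_sm l)⟩

theorem orbR (x : V6) (h : Xs x = x) (k : qf x = 0) (n : x ≠ 0) : ∃ σ ∈ A8, th σ ea = x := by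
  obtain ⟨r, a, σ, b, rfl⟩ := to_rep x
  rw [th_qf] at k
  rw [th_xs] at h
  obtain ⟨π, d, rfl⟩ := orb_sm ((rep_R r a (th_inj σ h)).1 k fun e => n (by rw [e, th_zero]))
  exact ⟨σ * π, mul_mem b d, th_mul ..⟩

theorem orb1 (x : V6) (h : Xs x = x) (k : qf x = 1) : ∃ σ ∈ A8, ∃ π ∈ A8, bf x (th σ x) ≠ 0 ∧
    bf x (th π x) ≠ 0 ∧ bf (th σ x) (th π x) = 0 ∧ th σ x ≠ th π x := by
  obtain ⟨r, a, σ, b, rfl⟩ := to_rep x
  rw [th_qf] at k
  rw [th_xs] at h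
  obtain rfl := (rep_R r a (th_inj σ h)).2 k
  have o := swap_odd (i := 0) (j := 1) (by decide)
  refine ⟨σ * (swap 5 7 * swap 0 1) * σ⁻¹, mul_mem (mul_mem b (odd_mul (swap_odd (by decide)) o)) (inv_mem b),
    σ * (swap 4 6 * swap 0 1) * σ⁻¹, mul_mem (mul_mem b (odd_mul (swap_odd (by decide)) o)) (inv_mem b), ?_⟩
  simp only [th_mul σ, th_mul _ σ⁻¹, inv_th, th_bf]
  exact ⟨by decide +kernel, by decide +kernel, by decide +kernel, fun e => absurd (th_inj σ e) (by decide +kernel)⟩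

end H38.AF
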