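/- CG-AF1, part c: involutions of the alternating group, fixed vectors, orthogonal complements. -/
import Cfsg.Agent.H38.AFb

set_option autoImplicit false
set_option maxRecDepth 100000
set_option synthInstance.maxSize 4096

namespace H38.AF

open Subgroup H88.CG Equiv Module
open H6 (F4)

theorem inv_type {σ : Perm (Fin 8)} (h : σ * σ = 1) :
    σ.cycleType = Multiset.replicate σ.cycleType.card 2 ∧ σ.support.card = σ.cycleType.card * 2 := by
  have k := Perm.cycleType_of_pow_prime_eq_one (p := 2) (by rwa [pow_two])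
  refine ⟨k, ?_⟩
  rw [← Perm.sum_cycleType, k, Multiset.sum_replicate, Multiset.card_replicate, smul_eq_mul]

theorem conj_of_supp {σ π t : Perm (Fin 8)} (h : σ * σ = 1) (k : π * π = 1)
    (e : σ.support.card = π.support.card) (ht : t ∉ A8) (c : t * π * t⁻¹ = π) :
    ∃ ρ ∈ A8, ρ * σ * ρ⁻¹ = π := by
  obtain ⟨h1, h2⟩ := inv_type h
  obtain ⟨k1, k2⟩ := inv_type k
  obtain ⟨ρ, r⟩ := isConj_iff.1 (Perm.isConj_iff_cycleType_eq.2
    (show σ.cycleType = π.cycleType by rw [h1, k1, show σ.cycleType.card = π.cycleType.card by omega]))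
  by_cases a : ρ ∈ A8
  · exact ⟨ρ, a, r⟩
  · exact ⟨t * ρ, odd_mul ht a, by rw [← c, ← r]; group⟩

theorem fp_iff {σ : Perm (Fin 8)} : FP σ ↔ σ.support.card = 8 := by
  refine .trans ?_ (Finset.card_eq_iff_eq_univ σ.support).symm
  simp only [Finset.eq_univ_iff_forall, Perm.mem_support, FP]

theorem inv (σ : Perm (Fin 8)) (a : σ ∈ A8) (h : σ * σ = 1) : σ = 1 ∨
    (¬ FP σ ∧ ∃ π ∈ A8, π * σ * π⁻¹ = σl 1) ∨ (FP σ ∧ ∃ π ∈ A8, π * σ * π⁻¹ = σ₄) := by
  obtain ⟨-, h2⟩ := inv_type h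
  have h3 : σ.support.card ≤ 8 := Finset.card_le_univ _
  have h4 := mem_A8.1 a
  rw [Perm.sign_of_cycleType, Perm.sum_cycleType, neg_one_pow_eq_one_iff_even (by decide), Nat.even_iff] at h4
  obtain e | e | e : σ.support.card = 0 ∨ σ.support.card = 4 ∨ σ.support.card = 8 := by omega
  · exact .inl (Perm.card_support_eq_zero.1 e)
  · exact .inr (.inl ⟨by rw [fp_iff]; omega, conj_of_supp (t := swap 4 5) h (by decide)
      (e.trans (by decide)) (swap_odd (by decide)) (by decide)⟩)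
  · exact .inr (.inr ⟨fp_iff.2 e, conj_of_supp (t := swap 0 4) h (by decide)
      (e.trans (by decide)) (swap_odd (by decide)) (by decide)⟩)

theorem th_cj {σ π τ : Perm (Fin 8)} (h : π * σ * π⁻¹ = τ) (x : V6) : th σ (th π⁻¹ x) = th π⁻¹ (th τ x) := by
  rw [← th_mul, ← th_mul, ← h]; congr 1; group

theorem rfix (σ : Perm (Fin 8)) (a : σ ∈ A8) (h : σ * σ = 1) :
    ∃ x, Xs x = x ∧ qf x = 0 ∧ x ≠ 0 ∧ th σ x = x := by
  have k : ∀ π τ x, π * σ * π⁻¹ = τ → Xs x = x ∧ qf x = 0 ∧ x ≠ 0 ∧ th τ x = x →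
      ∃ x, Xs x = x ∧ qf x = 0 ∧ x ≠ 0 ∧ th σ x = x := fun π τ x e ⟨h1, h2, h3, h4⟩ =>
    ⟨th π⁻¹ x, by rw [th_xs, h1], by rw [th_qf, h2], fun z => h3 (th_inj _ (z.trans (th_zero _).symm)),
      by rw [th_cj e, h4]⟩
  obtain rfl | ⟨-, π, -, e⟩ | ⟨-, π, -, e⟩ := inv σ a h
  · exact ⟨ea, by decide, by decide, by decide, th_one _⟩
  · exact k π _ (0, 0, 0, 1, 0, 0) e (by rw [tl]; decide)
  · exact k π _ ea e (by rw [t₄]; decide)

theorem dfix (σ : Perm (Fin 8)) (a : σ ∈ A8) (h : σ * σ = 1) (n : ¬ FP σ) : ∃ x, DV x ∧ th σ x = x := by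
  have d : DV er := ⟨1, one_mem _, th_one _⟩
  obtain rfl | ⟨-, π, b, e⟩ | ⟨k, -⟩ := inv σ a h
  · exact ⟨er, d, th_one _⟩
  · exact ⟨th π⁻¹ er, dv_th (inv_mem b) d, by rw [th_cj e, tl]; rfl⟩
  · exact absurd k n

/-- `y ↦ σ y + y` -/
def dl (σ : Perm (Fin 8)) : V6 →+ V6 := AddMonoidHom.mk' (fun y => th σ y + y) fun x y => by
  rw [th_add]; abel

theorem card_fix_rad (σ : Perm (Fin 8)) : Nat.card {x | th σ x = x} * Nat.card (Rad σ) = 4096 := by
  have := (dl σ).ker.card_mul_index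
  rw [AddSubgroup.index_ker, card_V6] at this
  rw [← this]
  congr 1
  exact Nat.card_congr (Equiv.setCongr (Set.ext fun x => add_eq_zero_iff_eq_neg.symm))

theorem card_fix_cj {σ π τ : Perm (Fin 8)} (h : π * σ * π⁻¹ = τ) :
    Nat.card {x | th σ x = x} = Nat.card {x | th τ x = x} :=
  (Nat.card_congr (Equiv.subtypeEquiv ⟨th π⁻¹, th π, th_inv π, inv_th π⟩ fun x =>
    ⟨fun e => (th_cj h x).trans (congrArg _ e), fun e => th_inj _ ((th_cj h x).symm.trans e)⟩)).symm

theorem card_set (p : V6 → Prop) [DecidablePred p] : Nat.card {x | p x} = (Finset.univ.filter p).card := by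
  rw [Nat.card_eq_fintype_card]; exact Fintype.card_subtype p

theorem fix2 (σ : Perm (Fin 8)) (a : σ ∈ A8) (h : σ * σ = 1) (n : σ ≠ 1) :
    Nat.card {x | th σ x = x} = 256 ∧ Nat.card (Rad σ) = 16 := by
  have k : Nat.card {x | th σ x = x} = 256 := by
    obtain rfl | ⟨-, π, -, e⟩ | ⟨-, π, -, e⟩ := inv σ a h
    · exact absurd rfl n
    · rw [card_fix_cj e]; simp only [tl]; rw [card_set]; decide +kernel
    · rw [card_fix_cj e]; simp only [t₄]; rw [card_set]; decide +kernel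
  have := card_fix_rad σ
  rw [k] at this
  omega

theorem rad (σ : Perm (Fin 8)) (a : σ ∈ A8) (h : σ * σ = 1) (n : FP σ) (x : V6) (k : x ∈ Rad σ) :
    qf x = 0 := by
  obtain rfl | ⟨m, -⟩ | ⟨-, π, -, e⟩ := inv σ a h
  · exact absurd rfl (n 0)
  · exact absurd n m
  obtain ⟨y, rfl⟩ := k
  rw [← inv_th π y, th_cj e, ← th_add, th_qf, t₄]
  obtain ⟨c, d, a', b, s, t⟩ := th π y
  have := h2
  simp only [W₁, Wτ, Wl, qf, Prod.mk_add_mk]
  grind

theorem st4 (σ : Perm (Fin 8)) (a : σ ∈ A8) (h : ∃ k, σ ^ 2 ^ k = 1)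
    (e : ∀ c d a b, th σ (c, d, a, b, 0, 0) = (c, d, a, b, 0, 0)) : σ = 1 := by
  have p := pin ![1, .w, .v, 0, 0, 0, 0, 0] 6 7 (by decide) (e 1 0 0 0)
  obtain ⟨c, k⟩ := fix_ki (f := ![0, 0, 0, 1, .w, .v, .v, .v]) (by decide) (e 0 0 1 .w)
  obtain rfl : c = 0 := by simpa [p 0 (by decide)] using (k 0).symm
  have l : σ.support ⊆ {5, 6, 7} := fun i hi => by
    rw [Perm.mem_support] at hi
    have := k i
    have q := p i
    generalize σ i = j at *
    revert i j
    decide
  have l3 : σ.support.card ≤ 3 := (Finset.card_le_card l).trans (by decide)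
  obtain b | b | b : σ.support.card ≤ 1 ∨ σ.support.card = 2 ∨ σ.support.card = 3 := by omega
  · exact Perm.card_support_le_one.1 b
  · obtain ⟨i, j, n, rfl⟩ := Perm.card_support_eq_two.1 b
    exact absurd a (swap_odd n)
  · obtain ⟨k, h⟩ := h
    have := orderOf_dvd_of_pow_eq_one h
    rw [(card_support_eq_three_iff.1 b).orderOf] at this
    exact absurd (Nat.prime_three.dvd_of_dvd_pow this) (by decide)

/-! ### Orthogonal complements -/

def BF : LinearMap.BilinForm F4 V6 := LinearMap.mk₂ F4 bf add_bf smul_bf bf_add bf_smul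

theorem card_sub (W : Submodule F4 V6) : Nat.card W = 4 ^ finrank F4 W := by
  rw [Module.natCard_eq_pow_finrank (K := F4), show Nat.card F4 = 4 by simp; rfl]

theorem rank_V6 : finrank F4 V6 = 6 := by simp

theorem perp_span (B : Set V6) : perp B = BF.orthogonal (Submodule.span F4 B) := Set.ext fun y =>
  ⟨fun h x hx => (Submodule.span_le (p := LinearMap.ker (BF.flip y))).2 h hx,
    fun h x hx => h x (Submodule.subset_span hx)⟩

theorem card_perp (B : Set V6) :
    Nat.card (perp B) = 4 ^ (6 - finrank F4 (Submodule.span F4 B)) := by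
  rw [perp_span, ← rank_V6, ← LinearMap.BilinForm.finrank_orthogonal (B := BF)
    ⟨fun _ h => bf_nondeg h, fun _ h => bf_nondeg fun y => (bf_comm ..).trans (h y)⟩, ← card_sub]
  rfl

theorem le_span (B : Set V6) : Nat.card B ≤ 4 ^ finrank F4 (Submodule.span F4 B) := by
  rw [← card_sub]
  exact Nat.card_mono (Set.toFinite _) Submodule.subset_span

theorem perp_le (B : Set V6) (k : ℕ) (h : 4 ^ k < Nat.card B) : Nat.card (perp B) ≤ 4 ^ (5 - k) := by
  have := (Nat.pow_lt_pow_iff_right (by decide)).1 (h.trans_le (le_span B))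
  rw [card_perp]
  exact Nat.pow_le_pow_right (by decide) (by omega)

theorem span_perp (B : Set V6) : Nat.card (Submodule.span F4 B) * Nat.card (perp B) = 4096 := by
  have := (Submodule.span F4 B).finrank_le
  rw [rank_V6] at this
  rw [card_perp, card_sub, ← pow_add, Nat.add_sub_cancel' this]
  rfl

/-- `(x, y) ↦ x + ω y` -/
def pw (B : AddSubgroup V6) : B × B →+ V6 := AddMonoidHom.mk' (fun p => p.1 + F4.w • (p.2 : V6)) fun x y => by
  simp only [Prod.fst_add, Prod.snd_add, AddSubgroup.coe_add, smul_add]; abel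

theorem pw_card (B : AddSubgroup V6) :
    Nat.card B * Nat.card B ≤ Nat.card (pw B).ker * Nat.card (Submodule.span F4 (B : Set V6)) := by
  have := (pw B).ker.card_mul_index
  rw [AddSubgroup.index_ker, Nat.card_prod] at this
  rw [← this]
  refine Nat.mul_le_mul_left _ (Nat.card_mono (Set.toFinite _) ?_)
  rintro _ ⟨p, rfl⟩
  exact add_mem (Submodule.subset_span p.1.2) (Submodule.smul_mem _ _ (Submodule.subset_span p.2.2))

theorem pw_ker {B : AddSubgroup V6} {p : B × B} (h : p ∈ (pw B).ker) : (p.1 : V6) = F4.w • (p.2 : V6) :=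
  add_eq_zero_iff_eq_neg.1 h

theorem iso (B : AddSubgroup V6) (h : ∀ x ∈ B, ∀ y ∈ B, bf x y = 0 ∨ bf x y = 1) : Nat.card B ≤ 64 := by
  have k : Nat.card (pw B).ker ≤ Nat.card (perp B) :=
    Nat.card_le_card_of_injective (fun p => ⟨p.1.2, fun z hz => by
      have h1 := h z hz _ p.1.1.2
      rw [pw_ker p.2, bf_smul] at h1
      exact (h z hz _ p.1.2.2).resolve_right fun e => by rw [e] at h1; revert h1; decide⟩)
      fun p q e => by
        have e' : (p.1.2 : V6) = q.1.2 := congrArg (Subtype.val (p := (· ∈ perp B))) e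
        exact Subtype.ext (Prod.ext (Subtype.ext (by rw [pw_ker p.2, pw_ker q.2, e'])) (Subtype.ext e'))
  have := (pw_card B).trans (Nat.mul_le_mul_right _ k)
  rw [mul_comm (Nat.card (perp _)), span_perp] at this
  exact Nat.mul_self_le_mul_self_iff.1 this

theorem isoR (B : AddSubgroup V6) (r : ∀ x ∈ B, Xs x = x) (h : ∀ x ∈ B, ∀ y ∈ B, bf x y = 0) :
    Nat.card B ≤ 8 := by
  have k : (pw B).ker = ⊥ := (AddSubgroup.eq_bot_iff_forall _).2 fun p e => by
    have h1 := pw_ker e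
    have h2 := r _ p.1.2
    rw [h1, Xs_smul, r _ p.2.2, w_sq, hv, add_smul, one_smul, add_eq_left] at h2
    rw [h2, smul_zero] at h1
    exact Prod.ext (Subtype.ext h1) (Subtype.ext h2)
  have l : Nat.card (Submodule.span F4 (B : Set V6)) ≤ Nat.card (perp B) := by
    rw [perp_span]
    exact Nat.card_mono (Set.toFinite _) (Submodule.span_le.2 (perp_span B ▸ fun y hy x hx => h x hx y hy))
  have m := Nat.mul_le_mul_left (Nat.card (Submodule.span F4 (B : Set V6))) l
  rw [span_perp] at m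
  have := pw_card B
  rw [k, AddSubgroup.card_bot, one_mul] at this
  exact Nat.mul_self_le_mul_self_iff.1 (this.trans ((Nat.mul_self_le_mul_self_iff (n := 64)).1 m))

theorem af1 : AF₁ where
  one := th_one
  mul := th_mul
  add := th_add
  smul := th_smul
  qf := th_qf
  bf := th_bf
  xs := th_xs
  inj := inj
  tw := tw
  tl := tl
  tτ := tτ
  gen := gen
  orb := orb
  dvs := dvs
  dvt := dvt
  nvc := nvc
  sum := sum_dv
  orbR := orbR
  orb1 := orb1
  inv := inv
  rfix := rfix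
  dfix := dfix
  fix2 := fix2
  rad := rad
  st4 := st4
  p4 B h := perp_le B 1 h
  p64 B h := perp_le B 3 h
  iso := iso
  isoR := isoR

theorem jobAF1 : AF₁ := af1

end H38.AF
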