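/- CG-AF2, part a: orders of `2`-subgroups of the alternating group on eight points. -/
import Cfsg.Agent.H38.AFc

set_option autoImplicit false
set_option maxRecDepth 100000
set_option synthInstance.maxSize 4096

namespace H38.AF

open Subgroup H88.CG Equiv H98 H1.Gold MulAction
open H6 (F4)
open H88.TE (mc1)

attribute [local instance high] List.decidableBAll List.decidableBEx

theorem card_A8 : Nat.card A8 = 20160 := by
  rw [nat_card_alternatingGroup, Nat.card_eq_fintype_card, Fintype.card_fin]; rfl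

theorem pow_le {T : Subgroup (Perm (Fin 8))} (h : IsPGroup 2 T) {n k : ℕ} (d : Nat.card T ∣ n)
    (e : ¬ 2 ^ (k + 1) ∣ n) : Nat.card T ≤ 2 ^ k := by
  obtain ⟨m, hm⟩ := IsPGroup.iff_card.1 h
  rw [hm] at d ⊢
  exact Nat.pow_le_pow_right (by decide) (not_lt.1 fun l => e ((pow_dvd_pow 2 l).trans d))

theorem two (T : Subgroup (Perm (Fin 8))) (a : T ≤ A8) (h : IsPGroup 2 T) : Nat.card T ≤ 64 :=
  pow_le (k := 6) h (card_A8 ▸ card_dvd_of_le a) (by decide)

theorem card_list {T : Subgroup (Perm (Fin 8))} {L : List (Perm (Fin 8))} (n : L.Nodup)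
    (h : ∀ a ∈ L, a ∈ T) : L.length ≤ Nat.card T := by
  rw [← List.toFinset_card_of_nodup n, ← Set.ncard_coe_finset]
  exact Set.ncard_le_ncard (t := (T : Set _)) fun a k => h a (List.mem_toFinset.1 k)

theorem list_card {T : Subgroup (Perm (Fin 8))} {L : List (Perm (Fin 8))} (h : ∀ a ∈ T, a ∈ L) :
    Nat.card T ≤ L.length := by
  refine le_trans ?_ L.toFinset_card_le
  rw [← Set.ncard_coe_finset]
  exact Set.ncard_le_ncard (s := (T : Set _)) fun a k => List.mem_toFinset.2 (h a k)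

/-- the ordered products of the sublists -/
def prods : List (Perm (Fin 8)) → List (Perm (Fin 8))
  | [] => [1]
  | g :: gs => prods gs ++ (prods gs).map (g * ·)

theorem prods_len (gs : List (Perm (Fin 8))) : (prods gs).length = 2 ^ gs.length := by
  induction gs with
  | nil => rfl
  | cons g gs h => simp [prods, h, pow_succ, mul_two]

theorem prods_mem {T : Subgroup (Perm (Fin 8))} (gs : List (Perm (Fin 8))) (h : ∀ g ∈ gs, g ∈ T) :
    ∀ a ∈ prods gs, a ∈ T := by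
  induction gs with
  | nil => simp [prods]
  | cons g gs k =>
    have k := k fun a e => h a (List.mem_cons_of_mem _ e)
    intro a e
    rcases List.mem_append.1 e with e | e
    · exact k a e
    · obtain ⟨b, e', rfl⟩ := List.mem_map.1 e
      exact mul_mem (h g List.mem_cons_self) (k b e')

instance instDecA8 (σ : Perm (Fin 8)) : Decidable (σ ∈ A8) := decidable_of_iff _ mem_A8.symm

theorem lgrp (gs : List (Perm (Fin 8))) (h : (prods gs).Nodup ∧ (∀ g ∈ gs, g⁻¹ = g) ∧ 1 ∈ prods gs ∧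
    (∀ g ∈ gs, ∀ a ∈ prods gs, g * a ∈ prods gs) ∧ ∀ a ∈ prods gs, a * a * (a * a) = 1) :
    IsPGroup 2 (closure {g | g ∈ gs}) ∧ 2 ^ gs.length ≤ Nat.card (closure {g | g ∈ gs}) := by
  obtain ⟨h1, h2, h3, h4, h5⟩ := h
  refine ⟨isPGroup_iff_forall.2 fun x hx => ⟨2, ?_⟩, ?_⟩
  · rw [show 2 ^ 2 = 2 + 2 from rfl, pow_add, pow_two]
    refine h5 x ?_
    induction hx using closure_induction_left with
    | one => exact h3
    | mul_left g hg y _ k => exact h4 g hg y k
    | inv_mul_cancel g hg y _ k => rw [h2 g hg]; exact h4 g hg y k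
  · exact prods_len gs ▸ card_list h1 (prods_mem gs fun g e => subset_closure e)

theorem st0 : ∃ T ≤ A8, IsPGroup 2 T ∧ 16 ≤ Nat.card T ∧ e0 ∈ H88.CG.Fix T := by
  let gs : List (Perm (Fin 8)) := [swap 0 1 * swap 2 3 * (swap 4 6 * swap 5 7), swap 0 5 * swap 3 4,
    swap 1 7 * swap 3 4, swap 2 6 * swap 3 4]
  obtain ⟨h1, h2⟩ := lgrp gs (by decide +kernel)
  refine ⟨_, (closure_le _).2 (show ∀ g ∈ gs, g ∈ A8 by decide +kernel), h1, h2, fun σ h => ?_⟩
  induction h using closure_induction with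
  | mem g h => exact (by decide +kernel : ∀ g ∈ gs, th g e0 = e0) g h
  | one => exact th_one _
  | mul _ _ _ _ a b => rw [th_mul, b, a]
  | inv σ _ a => exact th_inj σ (by rw [th_inv, a])

theorem syl (gs : List (Perm (Fin 8))) (a : Perm (Fin 8)) (h : ∀ g ∈ gs, g ∈ A8 ∧ g * a = a * g) :
    closure {g | g ∈ gs} ≤ A8 ⊓ cen1 a := (closure_le _).2 fun g k => ⟨(h g k).1, mc1.2 (h g k).2⟩

theorem syl2 : ∃ T ≤ A8 ⊓ cen1 (σl 1), IsPGroup 2 T ∧ 16 ≤ Nat.card T :=
  ⟨_, syl [σl 1, σl .w, swap 0 1 * swap 2 3, swap 0 2 * swap 1 3] _ (by decide +kernel),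
    lgrp _ (by decide +kernel)⟩

theorem syl4 : ∃ T ≤ A8 ⊓ cen1 σ₄, IsPGroup 2 T ∧ 64 ≤ Nat.card T :=
  ⟨_, syl [swap 0 3 * swap 1 6 * (swap 2 7 * swap 4 5), swap 0 1 * swap 2 4, swap 0 4 * swap 6 7,
    swap 1 2 * swap 6 7, swap 3 6 * swap 5 7, swap 3 5 * swap 6 7] _ (by decide +kernel),
    lgrp _ (by decide +kernel)⟩

theorem cj_A8 {T : Subgroup (Perm (Fin 8))} (a : T ≤ A8) (σ : Perm (Fin 8)) : cj σ T ≤ A8 := fun g h => by
  have := (inferInstance : A8.Normal).conj_mem _ (a (mem_cj.1 h)) σ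
  simpa [mul_assoc] using this

theorem fix_cj {T : Subgroup (Perm (Fin 8))} {σ : Perm (Fin 8)} {x : V6} :
    th σ x ∈ H88.CG.Fix (cj σ T) ↔ x ∈ H88.CG.Fix T :=
  ⟨fun h π k => th_inj σ (by
      rw [← h (σ * π * σ⁻¹) (mem_cj.2 (by simpa [mul_assoc] using k)), th_mul, th_mul, inv_th]),
    fun h π k => th_inj σ⁻¹ (by rw [← th_mul, ← th_mul, h _ (mem_cj.1 k), inv_th])⟩

theorem st1 (T : Subgroup (Perm (Fin 8))) (a : T ≤ A8) (h : IsPGroup 2 T) (x : V6) (f : x ∈ H88.CG.Fix T)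
    (d : DV x) : Nat.card T ≤ 4 := by
  obtain ⟨σ, -, rfl⟩ := d
  rw [← fix_cj (σ := σ⁻¹), inv_th] at f
  have e3 : ({0, 1, 2} : Set (Fin 8)).ncard = 3 := Set.ncard_eq_three.2 ⟨0, 1, 2, by decide, by decide, by decide, rfl⟩
  have e8 : Nat.card (Fin 8) = 8 := by simp
  have := alternatingGroup.isMultiplyPretransitive (Fin 8)
  have i := IsMultiplyPretransitive.index_of_fixingSubgroup_eq (G := A8) ({0, 1, 2} : Set (Fin 8))
    (isMultiplyPretransitive_of_le (n := Nat.card (Fin 8) - 2) (by omega) (by omega))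
  have c := (fixingSubgroup A8 ({0, 1, 2} : Set (Fin 8))).card_mul_index
  rw [i, e3, e8, card_A8, show Nat.choose 8 3 * Nat.factorial 3 = 336 from rfl] at c
  refine pow_le (k := 2) (n := 60) h ?_ (by decide)
  rw [← card_cj σ⁻¹, ← H14.card_subgroupOf_of_le (cj_A8 a σ⁻¹), show 60 = Nat.card
    (fixingSubgroup A8 ({0, 1, 2} : Set (Fin 8))) by omega]
  refine card_dvd_of_le fun g k => (mem_fixingSubgroup_iff _).2 fun i hi => ?_
  refine pin ![1, .w, .v, 0, 0, 0, 0, 0] 6 7 (by decide) (f g k) i ?_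
  obtain rfl | rfl | rfl := hi <;> decide

end H38.AF
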