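/- CG-AF2, part b: elementary subgroups of the alternating group on eight points. -/
import Cfsg.Agent.H38.AFd

set_option autoImplicit false
set_option maxRecDepth 100000
set_option synthInstance.maxSize 4096

namespace H38.AF

open Subgroup H88.CG Equiv H98 H1.Gold Module
open H6 (F4)
open H88.TE (El mc1)

attribute [local instance high] List.decidableBAll List.decidableBEx

variable {E : Subgroup (Perm (Fin 8))} {σ π : Perm (Fin 8)}

theorem el_comm (h : El E) (a : σ ∈ E) (b : π ∈ E) : σ * π = π * σ := by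
  rw [← inv_eq_of_mul_eq_one_right (h _ (mul_mem a b)), mul_inv_rev, inv_eq_of_mul_eq_one_right (h _ a),
    inv_eq_of_mul_eq_one_right (h _ b)]

/-! ### Groups with an involution that has fixed points -/

def L16 : List (Perm (Fin 8)) := prods [σl 1, σl .w, swap 0 1 * swap 2 3, swap 0 2 * swap 1 3]
def tr6 : List (Perm (Fin 8)) := [swap 0 1, swap 0 2, swap 0 3, swap 1 2, swap 1 3, swap 2 3]
def L12 : List (Perm (Fin 8)) := tr6.map (· * swap 4 5) ++ tr6.map (· * swap 6 7)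
def L32 : List (Perm (Fin 8)) := (prods [σl 1, σl .w]).flatMap (fun u => tr6.map (· * u)) ++
  (prods [swap 0 1 * swap 2 3, swap 0 2 * swap 1 3]).flatMap fun u => [u * swap 4 5, u * swap 6 7]

theorem cen_tab : ∀ p0 < 4, ∀ p1 < 4, ∀ p2 < 4, ∀ p3 < 4, ∀ p4, ∀ p6, ∀ f : Fin 8 → Fin 8,
    f = ![p0, p1, p2, p3, p4, σl 1 p4, p6, σl 1 p6] → (∀ i, f (f i) = i) →
    ∃ l ∈ L16 ++ L12 ++ L32, ∀ i, l i = f i := by
  simp only [forall_eq]
  decide +kernel

theorem cen_l (a : π ∈ A8) (h : π * π = 1) (c : π * σl 1 = σl 1 * π) : π ∈ L16 ++ L12 := by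
  have k : ∀ i, π (σl 1 i) = σl 1 (π i) := fun i => by rw [← Perm.mul_apply, c, Perm.mul_apply]
  have l : ∀ i, σl 1 i = i → π i < 4 := fun i e =>
    (by decide : ∀ j, j = σl 1 j → j < 4) _ (by rw [← k, e])
  obtain ⟨l', m, e⟩ := cen_tab _ (l 0 rfl) _ (l 1 rfl) _ (l 2 rfl) _ (l 3 rfl) (π 4) (π 6) π
    (by rw [← k, ← k]; funext i; fin_cases i <;> rfl) fun i => by rw [← Perm.mul_apply, h]; rfl
  obtain rfl : π = l' := (Equiv.ext e).symm
  exact (List.mem_append.1 m).resolve_right fun m => (by decide +kernel : ∀ l ∈ L32, l ∉ A8) _ m a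

theorem card_fix_cj' (σ : Perm (Fin 8)) : Nat.card (H88.CG.Fix (cj σ E)) = Nat.card (H88.CG.Fix E) :=
  (Nat.card_congr (Equiv.subtypeEquiv ⟨th σ, th σ⁻¹, inv_th σ, th_inv σ⟩ fun _ => fix_cj.symm)).symm

/-- reduction to the two kinds of elementary subgroups -/
theorem red (P : ℕ → ℕ → Prop) (a : E ≤ A8) (h : El E)
    (h1 : (∀ σ ∈ E, σ ≠ 1 → FP σ) → P (Nat.card E) (Nat.card (H88.CG.Fix E)))
    (h2 : ∀ F ≤ A8, El F → σl 1 ∈ F → (∀ π ∈ F, π ∈ L16 ++ L12) → P (Nat.card F) (Nat.card (H88.CG.Fix F))) :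
    P (Nat.card E) (Nat.card (H88.CG.Fix E)) := by
  by_cases k : ∀ σ ∈ E, σ ≠ 1 → FP σ
  · exact h1 k
  push Not at k
  obtain ⟨σ, m, n, k⟩ := k
  obtain ⟨-, π, -, e⟩ := ((inv σ (a m) (h σ m)).resolve_left n).resolve_right fun e => k e.1
  have el : El (cj π E) := fun g e => by
    rw [show g * g = π * (π⁻¹ * g * π * (π⁻¹ * g * π)) * π⁻¹ by group, h _ (mem_cj.1 e), mul_one,
      mul_inv_cancel]
  have ml : σl 1 ∈ cj π E := mem_cj.2 (by rw [← e]; simpa [mul_assoc] using m)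
  rw [← card_cj π, ← card_fix_cj' π]
  exact h2 _ (cj_A8 a π) el ml fun g e => cen_l (cj_A8 a π e) (el g e) (el_comm el e ml)

theorem sub16 (h : El E) (k : ∀ π ∈ E, π ∈ L16 ++ L12) : Nat.card E ≤ 8 ∨ ∀ π ∈ E, π ∈ L16 := by
  by_cases c : ∃ b ∈ E, b ∈ L12
  · obtain ⟨b, m, c⟩ := c
    refine .inl ((list_card (L := (L16 ++ L12).filter fun π => π * b = b * π) fun π e =>
      List.mem_filter.2 ⟨k π e, decide_eq_true (el_comm h e m)⟩).trans ?_)
    revert b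
    exact fun b _ => (by decide +kernel : ∀ b ∈ L12, ((L16 ++ L12).filter fun π => π * b = b * π).length ≤ 8) b
  · exact .inr fun π e => (List.mem_append.1 (k π e)).resolve_right fun m => c ⟨π, e, m⟩

theorem ap_inj (h : El E) (p : ∀ σ ∈ E, σ ≠ 1 → FP σ) (i : Fin 8) :
    Function.Injective fun σ : E => σ.1 i := fun σ π e => by
  by_contra n
  refine p _ (mul_mem (inv_mem σ.2) π.2) (fun k => n (Subtype.ext (inv_mul_eq_one.1 k))) i ?_
  rw [Perm.mul_apply, ← show σ.1 i = π.1 i from e]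
  exact σ.1.symm_apply_apply i

theorem pure (E : Subgroup (Perm (Fin 8))) (h : El E) (p : ∀ σ ∈ E, σ ≠ 1 → FP σ) : Nat.card E ≤ 8 :=
  (Nat.card_le_card_of_injective _ (ap_inj h p 0)).trans (by simp)

theorem rk (E : Subgroup (Perm (Fin 8))) (a : E ≤ A8) (h : El E) : Nat.card E ≤ 16 :=
  red (fun n _ => n ≤ 16) a h (fun p => (pure E h p).trans (by decide)) fun _ _ h _ k =>
    (sub16 h k).elim (fun e => e.trans (by decide)) fun e => list_card e

theorem fix16 (E : Subgroup (Perm (Fin 8))) (a : E ≤ A8) (h : El E) :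
    16 ≤ Nat.card E → Nat.card (H88.CG.Fix E) ≤ 4 := by
  refine red (fun n m => 16 ≤ n → m ≤ 4) a h (fun p c => absurd (c.trans (pure E h p)) (by decide))
    fun F _ h _ k c => ?_
  have k := (sub16 h k).resolve_left (by omega)
  have e : (F : Set (Perm (Fin 8))) = L16.toFinset := Set.eq_of_subset_of_ncard_le
    (fun π e => List.mem_toFinset.2 (k π e)) (by
      rw [Set.ncard_coe_finset]; exact L16.toFinset_card_le.trans c)
  have m : ∀ π ∈ L16, π ∈ F := fun π e' => show π ∈ (F : Set _) from e ▸ List.mem_toFinset.2 e'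
  refine le_trans (Nat.card_mono (Set.toFinite _) (t := {x | Wl 1 x = x ∧ Wl .w x = x ∧
    Wτ (W₁ 1 (Wτ x)) = x ∧ Wτ (W₁ .w (Wτ x)) = x}) fun x hx => ?_) (by rw [card_set]; decide +kernel)
  simp only [Set.mem_ofPred_eq, ← tl, ← tτ, ← tw, ← th_mul]
  exact ⟨hx _ (m _ (by decide +kernel)), hx _ (m _ (by decide +kernel)), hx _ (m _ (by decide +kernel)),
    hx _ (m _ (by decide +kernel))⟩

/-! ### Fixed spaces -/

def fixM (σ : Perm (Fin 8)) : Submodule F4 V6 where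
  carrier := {x | th σ x = x}
  add_mem' {x y} (hx : th σ x = x) (hy : th σ y = y) := show th σ _ = _ by rw [th_add, hx, hy]
  zero_mem' := th_zero σ
  smul_mem' c x (hx : th σ x = x) := show th σ _ = _ by rw [th_smul, hx]

def FixM (E : Subgroup (Perm (Fin 8))) : Submodule F4 V6 where
  carrier := H88.CG.Fix E
  add_mem' hx hy σ h := (fixM σ).add_mem (hx σ h) (hy σ h)
  zero_mem' σ _ := th_zero σ
  smul_mem' c _ hx σ h := (fixM σ).smul_mem c (hx σ h)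

def radM (σ : Perm (Fin 8)) : Submodule F4 V6 where
  carrier := Rad σ
  add_mem' := (af1.radS σ).add_mem
  zero_mem' := (af1.radS σ).zero_mem
  smul_mem' c := by
    rintro _ ⟨y, rfl⟩
    exact ⟨c • y, by rw [th_smul, smul_add]⟩

theorem rank_of {W : Submodule F4 V6} {k : ℕ} (h : Nat.card W = 4 ^ k) : finrank F4 W = k :=
  Nat.pow_right_injective (by decide : 2 ≤ 4) ((card_sub W).symm.trans h)

theorem rank_le {W : Submodule F4 V6} {k : ℕ} : Nat.card W ≤ 4 ^ k ↔ finrank F4 W ≤ k := by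
  rw [card_sub, Nat.pow_le_pow_iff_right (by decide)]

/-- the vector of a pair of points -/
def pr (i j : Fin 8) : V6 := ki fun k => if k = i ∨ k = j then 1 else 0

theorem pr_sum : ∀ i j : Fin 8, i ≠ j → ∑ k, (if k = i ∨ k = j then 1 else 0 : F4) = 0 := by decide +kernel

theorem pr_fix (h : σ * σ = 1) {i : Fin 8} (n : σ i ≠ i) : th σ (pr i (σ i)) = pr i (σ i) :=
  ki_fix (pr_sum _ _ n.symm) (c := 0) fun k => by
    rw [add_zero]
    refine if_congr ?_ rfl rfl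
    rw [σ.injective.eq_iff, or_comm, Perm.eq_inv_iff_eq.symm, inv_eq_of_mul_eq_one_right h]

theorem fix_pr {i j : Fin 8} (n : i ≠ j) (h : th π (pr i j) = pr i j) : π i = i ∨ π i = j := by
  obtain ⟨c, k⟩ := fix_ki (pr_sum i j n) h
  by_contra e
  have k1 := k i
  rw [if_neg e, if_pos (.inl rfl)] at k1
  obtain rfl : c = 1 := (by decide : ∀ c : F4, 0 = 1 + c → c = 1) c k1
  have : ∀ l, ¬ (l = i ∨ l = j) → π l = i ∨ π l = j := fun l e => by
    by_contra e'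
    have := k l
    rw [if_neg e, if_neg e'] at this
    exact absurd this (by decide)
  obtain ⟨a, b, c, h1, h2, h3, h4, h5, h6⟩ := (by decide +kernel : ∀ i j : Fin 8, ∃ a b c : Fin 8,
    a ≠ b ∧ a ≠ c ∧ b ≠ c ∧ ¬ (a = i ∨ a = j) ∧ ¬ (b = i ∨ b = j) ∧ ¬ (c = i ∨ c = j)) i j
  have e1 := π.injective.ne h1
  have e2 := π.injective.ne h2
  have e3 := π.injective.ne h3
  have e4 := this a h4
  have e5 := this b h5
  have e6 := this c h6
  clear k this e h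
  grind

theorem not_fix (h : El E) (p : ∀ σ ∈ E, σ ≠ 1 → FP σ) (a : σ ∈ E) (b : π ∈ E) (n : σ ≠ 1) (m : π ≠ 1)
    (l : σ ≠ π) : ∃ x, th σ x = x ∧ th π x ≠ x :=
  ⟨_, pr_fix (h σ a) (p σ a n 0), fun e => (fix_pr (p σ a n 0).symm e).elim (p π b m 0) fun k =>
    l (congrArg Subtype.val (ap_inj h p 0 (a₁ := ⟨σ, a⟩) (a₂ := ⟨π, b⟩) k.symm))⟩

theorem ex_ne (c : 4 ≤ Nat.card E) (σ : Perm (Fin 8)) : ∃ π ∈ E, π ≠ 1 ∧ σ ≠ π := by
  by_contra k
  push Not at k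
  have := list_card (T := E) (L := [1, σ]) fun π e => by
    by_cases n : π = 1
    · simp [n]
    · simp [k π e n]
  exact absurd (c.trans this) (by simp)

theorem fix_lt (a : E ≤ A8) (h : El E) (m : σ ∈ E) (n : σ ≠ 1) (k : ∃ π ∈ E, ∃ x, th σ x = x ∧ th π x ≠ x) :
    Nat.card (H88.CG.Fix E) ≤ 64 := by
  obtain ⟨π, b, x, k, l⟩ := k
  have := Submodule.finrank_lt_finrank_of_lt (s := FixM E) (t := fixM σ)
    (lt_of_le_of_ne (fun y e => e σ m) fun e => l ((e.ge k : x ∈ FixM E) π b))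
  rw [rank_of (W := fixM σ) (k := 4) (fix2 σ (a m) (h σ m) n).1] at this
  exact (rank_le (W := FixM E) (k := 3)).2 (by omega)

theorem fix4 (E : Subgroup (Perm (Fin 8))) (a : E ≤ A8) (h : El E) :
    4 ≤ Nat.card E → Nat.card (H88.CG.Fix E) ≤ 64 := by
  refine red (fun n m => 4 ≤ n → m ≤ 64) a h (fun p c => ?_) fun F a h m k c => ?_
  · obtain ⟨σ, b, n, -⟩ := ex_ne c 1
    obtain ⟨π, b', n', l⟩ := ex_ne c σ
    exact fix_lt a h b n ⟨π, b', not_fix h p b b' n n' l⟩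
  · obtain ⟨π, b, n, l⟩ := ex_ne c (σl 1)
    refine fix_lt a h m (by decide) ⟨π, b, ?_⟩
    obtain e | e := (by decide +kernel : ∀ π ∈ L16 ++ L12, π ≠ 1 → σl 1 ≠ π →
      th π er ≠ er ∨ th π (0, 0, 0, 0, 1, 1) ≠ (0, 0, 0, 0, 1, 1)) π (k π b) n l
    exacts [⟨_, by decide +kernel, e⟩, ⟨_, by decide +kernel, e⟩]

/-! ### Regular elementary subgroups -/

/-- the orbit of a four-group -/
def O4 (σ π : Perm (Fin 8)) (p : Fin 8) : Finset (Fin 8) := {p, σ p, π p, σ (π p)}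

section
variable (h1 : ∀ i, σ (σ i) = i) (h2 : ∀ i, π (π i) = i) (h3 : ∀ i, π (σ i) = σ (π i))
  (n1 : FP σ) (n2 : FP π) (n3 : ∀ i, σ i ≠ π i)
include h1 h2 h3 n1 n2 n3

theorem O4_sum {M : Type*} [AddCommMonoid M] (f : Fin 8 → M) (p : Fin 8) :
    ∑ i ∈ O4 σ π p, f i = f p + (f (σ p) + (f (π p) + f (σ (π p)))) := by
  have a := n1 p; have b := n2 p; have c := n3 p; have d := n1 (π p); have e := n3 (π p)
  have g := σ.injective.ne b
  rw [h2] at e
  rw [O4, Finset.sum_insert (by simp; grind), Finset.sum_insert (by simp; grind), Finset.sum_pair d.symm]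

theorem O4_card (p : Fin 8) : (O4 σ π p).card = 4 := by
  rw [Finset.card_eq_sum_ones, O4_sum h1 h2 h3 n1 n2 n3]
  rfl

theorem O4_compl {p q : Fin 8} (k : q ∉ O4 σ π p) : O4 σ π q = (O4 σ π p)ᶜ := by
  refine Finset.eq_of_subset_of_card_le (fun i e => Finset.mem_compl.2 fun e' => k ?_)
    (by rw [Finset.card_compl, O4_card h1 h2 h3 n1 n2 n3, O4_card h1 h2 h3 n1 n2 n3]; rfl)
  simp only [O4, Finset.mem_insert, Finset.mem_singleton] at e e' ⊢
  grind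

theorem rad_fix2 (x : V6) (k : x ∈ Rad σ) : th π x = x := by
  obtain ⟨y, rfl⟩ := k
  have e : σ.symm = σ := Equiv.ext fun i => σ.symm_apply_eq.2 (h1 i).symm
  have e2 : th σ y + y = ki fun i => kp y (σ i) + kp y i := by rw [ki_add, ki_kp, th, e]
  rw [e2]
  refine ki_fix (by rw [Finset.sum_add_distrib, Equiv.sum_comp σ (kp y), sum_kp, add_zero])
    (c := ∑ i ∈ O4 σ π 0, kp y i) fun q => ?_
  have t := h2
  have : ∑ i ∈ O4 σ π q, kp y i = ∑ i ∈ O4 σ π 0, kp y i := by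
    by_cases k : q ∈ O4 σ π 0
    · rw [O4_sum h1 h2 h3 n1 n2 n3, O4_sum h1 h2 h3 n1 n2 n3]
      simp only [O4, Finset.mem_insert, Finset.mem_singleton] at k
      obtain rfl | rfl | rfl | rfl := k <;> simp only [h1, h2, h3] <;> ring
    · have := Finset.sum_add_sum_compl (O4 σ π 0) (kp y)
      rw [sum_kp, ← O4_compl h1 h2 h3 n1 n2 n3 k] at this
      exact (add_eq_zero_iff_eq_neg.1 this).symm
  rw [← this, O4_sum h1 h2 h3 n1 n2 n3]
  have := H38.AF.h2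
  grind

end

theorem rad_inv (h : σ * σ = 1) {x : V6} (k : x ∈ Rad σ) (i : Fin 8) : kp x (σ i) = kp x i := by
  obtain ⟨y, rfl⟩ := k
  have e : σ.symm = σ := inv_eq_of_mul_eq_one_right h
  have e1 : σ (σ i) = i := by rw [← Perm.mul_apply, h]; rfl
  rw [kp_add, kp_add, th, kp_ki (sum_symm σ (sum_kp y)), kp_ki (sum_symm σ (sum_kp y)), e, e1]
  ring

theorem pure8 (E : Subgroup (Perm (Fin 8))) (a : E ≤ A8) (h : El E) (p : ∀ σ ∈ E, σ ≠ 1 → FP σ)
    (c : Nat.card E = 8) : A8 ⊓ cen E ≤ E ∧ (∀ x ∈ H88.CG.Fix E, qf x = 0) ∧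
    (∀ σ ∈ E, Rad σ ⊆ H88.CG.Fix E) ∧
    (∀ σ ∈ E, ∀ π ∈ E, σ ≠ 1 → π ≠ 1 → σ ≠ π → ∀ x ∈ H88.CG.Fix E, ∃ y ∈ Rad σ, ∃ y' ∈ Rad π, x = y + y') ∧
    ∃ σ ∈ E, ∃ π ∈ E, ∃ ρ ∈ E, σ ≠ 1 ∧ π ≠ 1 ∧ ρ ≠ 1 ∧ ∀ x ∈ Rad σ, x ∈ Rad π → x ∈ Rad ρ → x = 0 := by
  have tr : ∀ q, ∃ σ ∈ E, σ 0 = q := fun q => by
    obtain ⟨σ, e⟩ := ((Nat.bijective_iff_injective_and_card _).2 ⟨ap_inj h p 0, by simp [c]⟩).2 q
    exact ⟨σ, σ.2, e⟩
  have sq : ∀ σ ∈ E, ∀ i, σ (σ i) = i := fun σ m i => by rw [← Perm.mul_apply, h σ m]; rfl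
  have cm : ∀ σ ∈ E, ∀ π ∈ E, ∀ i, π (σ i) = σ (π i) := fun σ m π m' i => by
    rw [← Perm.mul_apply, el_comm h m' m]; rfl
  have ne : ∀ σ ∈ E, ∀ π ∈ E, σ ≠ π → ∀ i, σ i ≠ π i := fun σ m π m' n i e =>
    n (congrArg Subtype.val (ap_inj h p i (a₁ := ⟨σ, m⟩) (a₂ := ⟨π, m'⟩) e))
  have hc : ∀ σ ∈ E, Rad σ ⊆ H88.CG.Fix E := fun σ m x k π m' => by
    by_cases n1 : σ = 1
    · obtain ⟨y, rfl⟩ := k
      rw [n1, th_one, v_self, th_zero]
    by_cases n2 : π = 1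
    · rw [n2, th_one]
    by_cases n3 : σ = π
    · exact n3 ▸ af1.rad_fix (h σ m) k
    exact rad_fix2 (sq σ m) (sq π m') (cm σ m π m') (p σ m n1) (p π m' n2) (ne σ m π m' n3) x k
  have hd : ∀ σ ∈ E, ∀ π ∈ E, σ ≠ 1 → π ≠ 1 → σ ≠ π → ∀ x ∈ H88.CG.Fix E,
      ∃ y ∈ Rad σ, ∃ y' ∈ Rad π, x = y + y' := fun σ m π m' n1 n2 n3 x k => by
    obtain ⟨z, z1, z2⟩ := not_fix h p m m' n1 n2 n3
    have r1 := rank_of (W := radM σ) (k := 2) (fix2 σ (a m) (h σ m) n1).2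
    have r2 := rank_of (W := radM π) (k := 2) (fix2 π (a m') (h π m') n2).2
    have r3 := (rank_le (W := FixM E) (k := 3)).1 (fix4 E a h (by omega))
    have r4 := (rank_le (W := radM σ ⊓ radM π) (k := 1)).1 (le_trans (Nat.card_mono (Set.toFinite _)
      (t := perp (insert z {x | th π x = x})) (by
        rintro y ⟨y1, y2⟩ u (rfl | e)
        exacts [(bf_comm ..).trans (af1.rad_perp y1 z1), (bf_comm ..).trans (af1.rad_perp y2 e)]))
      (perp_le _ 4 (by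
        rw [Nat.card_coe_set_eq, Set.ncard_insert_of_notMem (s := {x | th π x = x}) z2,
          ← Nat.card_coe_set_eq, (fix2 π (a m') (h π m') n2).1]
        decide)))
    have r5 := Submodule.finrank_sup_add_finrank_inf_eq (radM σ) (radM π)
    have e : radM σ ⊔ radM π = FixM E :=
      Submodule.eq_of_le_of_finrank_le (sup_le (hc σ m) (hc π m')) (by omega)
    obtain ⟨y, b, y', b', e'⟩ := Submodule.mem_sup.1 (e.ge k)
    exact ⟨y, b, y', b', e'.symm⟩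
  obtain ⟨σ, m, n1, -⟩ := ex_ne (E := E) (by omega) 1
  obtain ⟨π, m', n2, n3⟩ := ex_ne (E := E) (by omega) σ
  refine ⟨fun g k => ?_, fun x k => ?_, hc, hd, ?_⟩
  · obtain ⟨τ, t, e⟩ := tr (g 0)
    rw [show g = τ from Equiv.ext fun i => ?_]
    · exact t
    obtain ⟨ρ, r, rfl⟩ := tr i
    rw [← Perm.mul_apply, ← k.2 ρ r, Perm.mul_apply, ← e, cm τ t ρ r]
  · obtain ⟨y, b, y', b', rfl⟩ := hd σ m π m' n1 n2 n3 x k
    rw [qf_add, rad σ (a m) (h σ m) (p σ m n1) y b, rad π (a m') (h π m') (p π m' n2) y' b',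
      af1.rad_perp b (hc π m' b' σ m), add_zero, add_zero]
  have o := O4_card (sq σ m) (sq π m') (cm σ m π m') (p σ m n1) (p π m' n2) (ne σ m π m' n3) 0
  obtain ⟨q, -, hq⟩ := Finset.exists_mem_notMem_of_card_lt_card (s := O4 σ π 0) (t := Finset.univ)
    (by rw [o]; decide)
  have o2 := O4_compl (sq σ m) (sq π m') (cm σ m π m') (p σ m n1) (p π m' n2) (ne σ m π m' n3) hq
  obtain ⟨ρ, r, rfl⟩ := tr q
  refine ⟨σ, m, π, m', ρ, r, n1, n2, by rintro rfl; exact hq (by simp [O4]), fun x k1 k2 k3 => ?_⟩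
  have i1 := rad_inv (h σ m) k1
  have i2 := rad_inv (h π m') k2
  have i3 := rad_inv (h ρ r) k3 0
  have : kp x = fun _ => 0 + kp x 0 := funext fun i => by
    have : i ∈ O4 σ π 0 ∨ i ∈ O4 σ π (ρ 0) := by rw [o2, Finset.mem_compl]; exact em _
    simp only [O4, Finset.mem_insert, Finset.mem_singleton] at this
    obtain (rfl | rfl | rfl | rfl) | rfl | rfl | rfl | rfl := this <;> simp only [i1, i2, i3, zero_add]
  rw [← ki_kp x, this, ki_const]
  rfl

theorem af2 (_ : AF₁) : AF₂ where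
  two := two
  st0 := st0
  st1 := st1
  syl2 := syl2
  syl4 := syl4
  rk := rk
  fix4 := fix4
  fix16 := fix16
  pure E _ := pure E
  pure8 := pure8

theorem jobAF2 (h : AF₁) : AF₂ := af2 h

theorem af : AF := { af1, af2 af1 with }

end H38.AF
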