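/- CKS (S2193), rank one: `L₂(q)`, `U₃(q)`, `Sz(q)`. -/
import Cfsg.Agent.H38.CKR0
import Cfsg.Agent.H61.PSL2
import Cfsg.Agent.H57.SU3b
import Cfsg.Agent.H85.U3Syl
import Cfsg.Agent.S0252
import Cfsg.Agent.S0253
import Cfsg.Agent.S0255
import Cfsg.Agent.S0806
import Cfsg.Agent.S1163
import Cfsg.Agent.S2148
import Cfsg.Agent.S2149
import Cfsg.Agent.S2337

set_option autoImplicit false
set_option linter.unusedSectionVars false

namespace H38.CK
open Subgroup Cfsg MulAction H32.CK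
open scoped MatrixGroups

/-! ### Arithmetic -/

theorem ar_lt {n b t Q : ℕ} (hb : 0 < b) (h : n * b = Q * t) (hn : Q + 1 ≤ n) : b < t := by
  by_contra h1
  have h2 : Q * t ≤ Q * b := Nat.mul_le_mul_left _ (by omega)
  have h3 : (Q + 1) * b ≤ n * b := Nat.mul_le_mul_right _ hn
  nlinarith

theorem ar_even {f b : ℕ} (hf : 2 ≤ f) (hb : 0 < b) (h : b * b + 2 ^ f * b + 2 ^ f = 2 ^ f * 2 ^ f) :
    f = 2 ∧ b = 2 := by
  obtain ⟨a, c, hc, rfl⟩ := Nat.exists_eq_two_pow_mul_odd hb.ne'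
  obtain ⟨c, rfl⟩ := hc
  rcases lt_trichotomy (2 * a) f with h1 | rfl | h1
  · obtain ⟨d, rfl⟩ : ∃ d, f = 2 * a + (d + 1) := ⟨f - 2 * a - 1, by omega⟩
    have h2 : 2 ^ (2 * a) * ((2 * c + 1) * (2 * c + 1) + 2 * (2 ^ (a + d) * (2 * c + 1) + 2 ^ d)) =
        2 ^ (2 * a) * (2 * (2 ^ (2 * a + 2 * d + 1))) := by linear_combination h
    have h3 := Nat.eq_of_mul_eq_mul_left (by positivity) h2
    have h4 : (2 * c + 1) * (2 * c + 1) = 2 * (2 * c * c + 2 * c) + 1 := by ring
    omega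
  · have h2 : 2 ^ (2 * a) * ((2 * c + 1) * (2 * c + 1) + 2 ^ a * (2 * c + 1) + 1) =
        2 ^ (2 * a) * 2 ^ (2 * a) := by linear_combination h
    have h3 := Nat.eq_of_mul_eq_mul_left (by positivity) h2
    have h4 : (2 * c + 1) * (2 * c + 1) = 4 * (c * c + c) + 1 := by ring
    rcases (show a = 1 ∨ 2 ≤ a by omega) with rfl | h5
    · have : c = 0 := by nlinarith
      subst this
      exact ⟨rfl, rfl⟩
    · obtain ⟨d, rfl⟩ : ∃ d, a = d + 2 := ⟨a - 2, by omega⟩
      rw [h4, show 2 ^ (d + 2) * (2 * c + 1) = 4 * (2 ^ d * (2 * c + 1)) by ring,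
        show 2 ^ (2 * (d + 2)) = 4 * 2 ^ (2 * d + 2) by ring] at h3
      omega
  · obtain ⟨d, hd⟩ : ∃ d, 2 * a = f + (d + 1) := ⟨2 * a - f - 1, by omega⟩
    obtain ⟨a, rfl⟩ : ∃ e, a = e + 1 := ⟨a - 1, by omega⟩
    obtain ⟨f, rfl⟩ : ∃ e, f = e + 1 := ⟨f - 1, by omega⟩
    have h5 : (2 : ℕ) ^ (2 * (a + 1)) = 2 ^ (f + 1 + (d + 1)) := by rw [hd]
    have h2 : 2 ^ (f + 1) * (2 * (2 ^ d * (2 * c + 1) ^ 2 + 2 ^ a * (2 * c + 1)) + 1) =
        2 ^ (f + 1) * (2 * 2 ^ f) := by
      zify at h h5 ⊢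
      linear_combination h - (2 * c + 1) ^ 2 * h5
    have h3 := Nat.eq_of_mul_eq_mul_left (by positivity) h2
    omega

theorem ar_sz {r n b : ℕ} (hr : 2 ≤ r) (k : ℕ) (hk : r = 2 ^ k) (hb : 0 < b) {s : ℕ}
    (hs : 2 * r ^ 2 = s + 1) (h1 : (n + 1) * b = (s + 1) ^ 2 * s) (h2 : n ∣ b + s) (h3 : r * s ≤ n) :
    False := by
  obtain ⟨t, ht⟩ := h2
  have h4 : 7 ≤ s := by nlinarith
  have h5 : b < 2 * r * (s + 1) := by
    by_contra h5
    have : (r * s + 1) * (2 * r * (s + 1)) ≤ (n + 1) * b := Nat.mul_le_mul (by omega) (by omega)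
    rw [h1, show (r * s + 1) * (2 * r * (s + 1)) = 2 * r ^ 2 * (s * (s + 1)) + 2 * r * (s + 1) by ring,
      hs] at this
    nlinarith
  have h6 : t < 3 := by
    by_contra h6
    have h7 : r * s * 3 ≤ n * t := Nat.mul_le_mul h3 (by omega)
    obtain ⟨u, rfl⟩ : ∃ u, r = u + 2 := ⟨r - 2, by omega⟩
    nlinarith
  interval_cases t
  · omega
  · obtain rfl : n = b + s := by omega
    have h7 : (2 * b + (s + 1)) ^ 2 = (s + 1) ^ 2 * (4 * s + 1) := by linear_combination 4 * h1
    obtain ⟨w, hw⟩ := (Nat.pow_dvd_pow_iff two_ne_zero).1 ⟨_, h7⟩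
    rw [hw, mul_pow] at h7
    have h8 := Nat.eq_of_mul_eq_mul_left (by positivity) h7
    have h9 : w ^ 2 % 8 = 5 := by omega
    rw [Nat.pow_mod] at h9
    have : w % 8 < 8 := Nat.mod_lt _ (by norm_num)
    interval_cases w % 8 <;> simp at h9
  · have h7 : Odd b := ⟨(b - 1) / 2, by omega⟩
    have h8 : (s + 1) ^ 2 ∣ n + 1 := by
      refine Nat.Coprime.dvd_of_dvd_mul_right ?_ ⟨s, h1⟩
      rw [← hs, hk, ← pow_mul, ← pow_succ', ← pow_mul]
      exact Nat.Coprime.pow_left _ (Nat.coprime_two_left.2 h7)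
    have h9 := Nat.le_of_dvd (by omega) h8
    have : (s + 1) ^ 2 * b ≤ (n + 1) * b := Nat.mul_le_mul_right _ h9
    have h10 : b ≤ s := Nat.le_of_mul_le_mul_left (h1 ▸ this) (by positivity)
    nlinarith

/-! ### The Suzuki groups -/

theorem jobSz : JobSz := fun F _ _ m hm hF => by
  have : Fact (Nat.Prime 2) := ⟨Nat.prime_two⟩
  refine chB_of fun Ω _ _ _ A => False.elim ?_
  obtain ⟨hG, S, -, hN, -⟩ := Cfsg.Agent.S1163.result hm hF
  obtain ⟨b, hb, h1, h2⟩ := key A S (t := 2 ^ (2 * m + 1) - 1) (pow_mul 2 (2 * m + 1) 2).symm hN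
    (by rw [hG]; ring)
  obtain ⟨ρ, hρ⟩ := exists_irr A.toAct
  have h3 := three_le A.toAct
  have h4 := Cfsg.Agent.S2337.result m hm hF _ ρ hρ (by omega)
  have h5 : 0 < 2 ^ (2 * m + 1) := by positivity
  refine ar_sz (r := 2 ^ m) (n := Nat.card Ω - 1) (s := 2 ^ (2 * m + 1) - 1)
    (Nat.pow_le_pow_right (n := 2) (by omega) hm) m rfl hb ?_ ?_ h2 h4
  · rw [Nat.sub_add_cancel h5]; ring
  · rw [Nat.sub_add_cancel h5, Nat.sub_add_cancel (by omega), h1]

/-! ### The unitary groups -/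

theorem u3_index (p : ℕ) [hp : Fact p.Prime] {F : Type} [Field F] [Fintype F] [CharP F p] {q : ℕ}
    (hF : Fintype.card F = q ^ 2) : ∃ U : Sylow p (PSU 3 F q),
      (normalizer ((U : Subgroup (PSU 3 F q)) : Set (PSU 3 F q))).index ∣ q ^ 3 + 1 := by
  obtain ⟨e⟩ := H57.nonempty_SA hF
  have hc := (Nat.card_congr e.toEquiv).trans (H85.card_SU_three hF)
  obtain ⟨k, k0, hk⟩ := H85.q_eq_pow hF p
  have hq : 1 < q := hk ▸ Nat.one_lt_pow k0.ne' hp.out.one_lt
  have h1 : 0 < q ^ 2 - 1 := Nat.sub_pos_of_lt (Nat.one_lt_pow two_ne_zero hq)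
  have : Finite (H57.SA hF) := Nat.finite_of_card_ne_zero (by rw [hc]; positivity)
  set S := (SemidirectProduct.inl : H85.UQ hF →* H57.BQ hF).range.map (H57.mB hF) with hS
  have cS : Nat.card S = q ^ 3 := by
    rw [card_map_of_injective (H57.mB_inj hF), ← H85.UQ.card_eq hF]
    exact (Nat.card_congr (MonoidHom.ofInjective SemidirectProduct.inl_injective).toEquiv).symm
  have iS := S.card_mul_index
  rw [cS, hc] at iS
  replace iS := Nat.eq_of_mul_eq_mul_left (by positivity) iS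
  have pS : IsPGroup p S := IsPGroup.of_card (n := k * 3) (by rw [cS, hk, pow_mul])
  let P : Sylow p (H57.SA hF) := pS.toSylow (iS ▸ H85.not_dvd_cofactor hF p)
  let π : H57.SA hF →* PSU 3 F q := (QuotientGroup.mk' _).comp e.toMonoidHom
  have hπ : Function.Surjective π := (QuotientGroup.mk'_surjective _).comp e.surjective
  refine ⟨P.mapSurjective hπ, ?_⟩
  have h2 : (H57.mB hF).range ≤ normalizer (S : Set (H57.SA hF)) := by
    refine le_trans ?_ (le_normalizer_map _)
    rw [SemidirectProduct.range_inl_eq_ker_rightHom, normalizer_eq_top, MonoidHom.range_eq_map]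
  have h3 := (H57.mB hF).range.card_mul_index
  rw [← Nat.card_congr (MonoidHom.ofInjective (H57.mB_inj hF)).toEquiv, SemidirectProduct.card,
    H85.UQ.card_eq hF, Nat.card_units, Nat.card_eq_fintype_card, hF, hc, ← mul_assoc] at h3
  rw [← Nat.eq_of_mul_eq_mul_left (by positivity) h3]
  exact (index_dvd_of_le ((map_mono h2).trans (le_normalizer_map π))).trans (index_map_dvd _ hπ)

theorem normalizer_ne_top {G : Type} [Group G] [Finite G] [IsSimpleGroup G]
    (hn : ¬ IsMulCommutative G) {p : ℕ} [hp : Fact p.Prime] (hd : p ∣ Nat.card G) (U : Sylow p G) :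
    normalizer ((U : Subgroup G) : Set G) ≠ ⊤ := fun h => by
  rcases (normalizer_eq_top_iff.1 h).eq_bot_or_eq_top with h1 | h1
  · exact U.ne_bot_of_dvd_card hd h1
  · have h2 : IsPGroup p G := (h1 ▸ U.isPGroup').of_equiv topEquiv
    have := h2.isNilpotent
    exact hn ⟨⟨IsSimpleGroup.comm_iff_isSolvable.2 inferInstance⟩⟩

theorem jobU3 : JobU3 := fun p hp F _ _ _ q hF h2 => by
  refine chB_of fun Ω _ _ _ A => False.elim ?_
  obtain ⟨U, hU⟩ := u3_index p hF
  obtain ⟨k, k0, hk⟩ := H85.q_eq_pow hF p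
  have hq : 3 ≤ q := by
    have : 1 < q := hk ▸ Nat.one_lt_pow k0.ne' hp.out.one_lt
    omega
  have := A.simple
  have := nontriv A.toAct
  obtain ⟨a⟩ : Nonempty Ω := inferInstance
  have h3 := three_le A.toAct
  have h4 := index_stab A.toAct a
  have hN := normalizer_ne_top A.nc (A.dvd.trans (h4 ▸ index_dvd_card _)) U
  have hG := H85.card_PSU_three hF
  obtain ⟨t, ht⟩ : Nat.gcd 3 (q + 1) ∣ q ^ 2 - 1 :=
    (Nat.gcd_dvd_right _ _).trans ⟨q - 1, by rw [← Nat.sq_sub_sq, one_pow]⟩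
  have hd : 0 < Nat.gcd 3 (q + 1) := Nat.gcd_pos_of_pos_left _ (by norm_num)
  replace hG : Nat.card (PSU 3 F q) = (q ^ 3 + 1) * (q ^ 3 * t) :=
    Nat.eq_of_mul_eq_mul_left hd (by rw [hG, ht]; ring)
  by_cases h5 : q = 5
  · subst h5
    have h6 := (Cfsg.Agent.S2149.result hF).1
    obtain rfl : p = 5 := ((Nat.prime_dvd_prime_iff_eq hp.out (by norm_num)).1
      (hk ▸ dvd_pow_self p k0.ne'))
    have h7 := card_sylow_modEq_one 5 (PSU 3 F 5)
    rw [U.card_eq_index_normalizer] at h7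
    have h8 := h6 _ hN
    have h9 := Nat.le_of_dvd (by norm_num) hU
    obtain ⟨b, hb, h10, h11⟩ := key A U (Q := 5 ^ 3) (k := 3) rfl (by
      change _ % 5 = 1 % 5 at h7
      generalize (normalizer ((U : Subgroup (PSU 3 F 5)) : Set (PSU 3 F 5))).index = s
        at h7 h8 h9 hU ⊢
      norm_num at h9 hU ⊢
      interval_cases s <;> omega) hG
    have h12 := h4 ▸ h6 _ (stab_ne_top A.toAct a)
    have h13 := Nat.le_of_dvd (by omega) h11
    obtain rfl : t = 8 := by
      rw [show Nat.gcd 3 (5 + 1) = 3 from rfl] at ht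
      omega
    have : 50 * b ≤ Nat.card Ω * b := Nat.mul_le_mul_right _ h12
    omega
  · have h6 := (Cfsg.Agent.S2148.result q hF hq h5).1
    obtain ⟨b, hb, h10, h11⟩ := key A U (k := k * 3) (by rw [hk, pow_mul])
      (le_antisymm (Nat.le_of_dvd (by omega) hU) (h6 _ hN)) hG
    have h12 := h4 ▸ h6 _ (stab_ne_top A.toAct a)
    have h13 := Nat.le_of_dvd (by omega) h11
    have h14 := ar_lt hb h10 h12
    have h15 : t ≤ q ^ 2 - 1 := ht ▸ Nat.le_mul_of_pos_left _ hd
    have h16 : q ^ 2 * 3 ≤ q ^ 3 := by rw [pow_succ q 2]; exact Nat.mul_le_mul_left _ hq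
    omega

/-! ### The linear groups -/

theorem not_nine {G : Type} [Group G] [Finite G] [IsSimpleGroup G] (hG : Nat.card G = 360)
    {K : Subgroup G} (hK : K.index = 9) : False := by
  have : Fact (Nat.Prime 5) := ⟨by norm_num⟩
  have h1 := K.index_mul_card
  rw [hK, hG] at h1
  have f5 : ∀ n, n = 40 ∨ n = 360 → 5 ^ n.factorization 5 = 5 := by
    rintro n (rfl | rfl) <;> simp [Nat.factorization_def _ (this.out)] <;> decide +kernel
  obtain ⟨P⟩ : Nonempty (Sylow 5 K) := inferInstance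
  have h2 : Nat.card K = 40 := by omega
  have h3 : Nat.card P = 5 := P.card_eq_multiplicity.trans (f5 _ (.inl h2))
  have h4 := (P : Subgroup K).index_mul_card
  rw [h3, h2] at h4
  have h5 := P.card_dvd_index
  have h6 : _ % 5 = 1 % 5 := card_sylow_modEq_one 5 K
  rw [show (P : Subgroup K).index = 8 by omega] at h5
  have h7 := Nat.le_of_dvd (by norm_num) h5
  have h8 : Nat.card (Sylow 5 K) = 1 := by
    generalize Nat.card (Sylow 5 K) = s at *
    interval_cases s <;> simp_all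
  have := (Nat.card_eq_one_iff_unique.1 h8).1
  have h9 : Nat.card ((P : Subgroup K).map K.subtype) = 5 := by
    rw [card_map_of_injective K.subtype_injective, h3]
  let P' : Sylow 5 G := Sylow.ofCard _ (h9.trans (f5 _ (.inr hG)).symm)
  have h10 : K ≤ normalizer ((P' : Subgroup G) : Set G) := by
    refine le_trans ?_ (le_normalizer_map K.subtype)
    rw [normalizer_eq_top_iff.2 P.normal_of_subsingleton, ← MonoidHom.range_eq_map, range_subtype]
  have h11 := hK ▸ index_dvd_of_le h10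
  have h12 : _ % 5 = 1 % 5 := card_sylow_modEq_one 5 G
  rw [P'.card_eq_index_normalizer] at h12
  have h13 := Nat.le_of_dvd (by norm_num) h11
  have h14 : (normalizer ((P' : Subgroup G) : Set G)).index = 1 := by
    generalize (normalizer ((P' : Subgroup G) : Set G)).index = s at h11 h12 h13 ⊢
    interval_cases s <;> simp_all
  rcases (normalizer_eq_top_iff.1 (index_eq_one.1 h14)).eq_bot_or_eq_top with h | h
  · change map _ _ = _ at h
    rw [h, card_bot] at h9
    omega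
  · change map _ _ = _ at h
    rw [h, card_top] at h9
    omega

open H61 in
theorem l2_index (p : ℕ) [hp : Fact p.Prime] (F : Type) [Field F] [Fintype F] [CharP F p]
    (U : Sylow p PSL(2, F)) :
    (normalizer ((U : Subgroup PSL(2, F)) : Set PSL(2, F))).index = Nat.card F + 1 ∧
    Nat.card PSL(2, F) = (Nat.card F + 1) *
      (Nat.card F * ((Nat.card F - 1) / Nat.gcd 2 (Nat.card F - 1))) := by
  obtain ⟨y, M⟩ := main_psl (F := F) p
  refine ⟨?_, M.card_eq⟩
  obtain ⟨x, hx⟩ := (hur_psl F p).exists_Q_eq_sylow U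
  have h1 : (hur_psl F p).Q (pinf (AlgebraicClosure F)) ≠ ⊥ := fun h => by
    have h2 := M.card_Q
    have := M.two_le
    rw [h, card_bot] at h2
    omega
  have h2 : (hur_psl F p).Q x ≠ ⊥ := hx ▸ U.ne_bot_of_dvd_card (by
    obtain ⟨u, hu, h3⟩ := (bot_or_exists_ne_one _).resolve_left h1
    exact orderOf_eq_prime hu.2 h3 ▸ orderOf_dvd_natCard u)
  rw [hx, (hur_psl F p).normalizer_Q h2, index_stabilizer,
    (orbit_eq_iff.2 ((hur_psl F p).mem_orbit_of_Q_ne_bot h1 h2)), ← M.card_orbit]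
  rfl

theorem jobL2 : JobL2 := fun p hp F _ _ _ h4 => by
  refine chB_of fun Ω _ _ _ A => ?_
  obtain ⟨U⟩ : Nonempty (Sylow p PSL(2, F)) := inferInstance
  obtain ⟨hN, hG⟩ := l2_index p F U
  obtain ⟨k, -, hk⟩ := FiniteField.card F p
  rw [Nat.card_eq_fintype_card (α := F)] at hN hG
  obtain ⟨b, hb, h1, h2⟩ := key A U hk hN hG
  have := A.simple
  have := nontriv A.toAct
  obtain ⟨a⟩ : Nonempty Ω := inferInstance
  have h3 := three_le A.toAct
  have h5 := index_stab A.toAct a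
  have h6 := card_le A.toAct
  have h7 := A.dvd
  have h8 := Nat.le_of_dvd (Nat.add_pos_left hb _) h2
  have hp' : p ∣ Fintype.card F := hk ▸ dvd_pow_self p k.ne_zero
  have : Fact (Nat.Prime 2) := ⟨Nat.prime_two⟩
  have : Fact (Nat.Prime 5) := ⟨by norm_num⟩
  by_cases hq : Fintype.card F ∈ ({2, 3, 5, 7, 9, 11} : Finset ℕ)
  · have hn : Nat.card Ω ≤ Nat.card Ω * b := Nat.le_mul_of_pos_right _ hb
    rw [h1] at hn
    simp only [Finset.mem_insert, Finset.mem_singleton] at hq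
    rcases hq with hq | hq | hq | hq | hq | hq
    · omega
    · omega
    all_goals
      rw [hq] at h1 h2 h8 hG hp' hn
      norm_num at h1 h2 h8 hG hn
    · obtain ⟨e⟩ := Cfsg.Agent.S0253.result hq
      have := Fintype.ofFinite (GaloisField 2 2)
      have c4 : Fintype.card (GaloisField 2 2) = 4 := by
        rw [← Nat.card_eq_fintype_card, GaloisField.card 2 2 two_ne_zero]; rfl
      obtain ⟨e'⟩ := Cfsg.Agent.S0252.result c4
      refine .inr (.inl ⟨GaloisField 2 2, _, _, c4.ge, ⟨e.trans e'.symm⟩, ?_⟩)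
      rw [c4]
      generalize Nat.card Ω = n at *
      interval_cases n <;> omega
    · refine .inl ⟨ZMod 2, inferInstance, inferInstance, 3, le_rfl, Cfsg.Agent.S0255.result hq (ZMod.card 2), ?_⟩
      obtain rfl : p = 7 := (Nat.prime_dvd_prime_iff_eq hp.out (by norm_num)).1 hp'
      rw [ZMod.card]
      generalize Nat.card Ω = n at *
      interval_cases n <;> omega
    · refine .inr (.inr (.inr (.inr (.inr (.inl ⟨F, _, _, hq, ⟨.refl _⟩, ?_⟩)))))
      have h9 : Nat.card Ω ≠ 9 := fun h => not_nine hG (h5.trans h)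
      rw [hG] at h6
      generalize Nat.card Ω = n at *
      interval_cases n <;> first | omega | simp [Nat.factorial] at h6
    · refine .inr (.inr (.inr (.inr (.inr (.inr (.inl ⟨F, _, _, hq, ⟨.refl _⟩, ?_⟩))))))
      obtain rfl : p = 11 := (Nat.prime_dvd_prime_iff_eq hp.out (by norm_num)).1 hp'
      generalize Nat.card Ω = n at *
      interval_cases n <;> omega
  · have h9 := h5 ▸ (Cfsg.Agent.S0806.result rfl hq).1 _ (stab_ne_top A.toAct a)
    have h10 := ar_lt hb h1 h9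
    rcases Nat.even_or_odd (Fintype.card F) with he | ho
    · rw [H61.gcd_two_of_even he (by omega), Nat.div_one] at h1 h2 h8 h10
      obtain rfl : p = 2 := ((Nat.prime_dvd_prime_iff_eq Nat.prime_two hp.out).1
        (Nat.prime_two.dvd_of_dvd_pow (hk ▸ he.two_dvd))).symm
      obtain ⟨t, ht⟩ := h2
      obtain rfl : t = 1 := by
        rcases t with _ | _ | t
        · omega
        · rfl
        · rw [mul_add, mul_add] at ht
          omega
      have h11 : Nat.card Ω = b + Fintype.card F := by omega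
      obtain ⟨h12, rfl⟩ := ar_even (f := k) (b := b) (by
        by_contra h
        have : 2 ^ (k : ℕ) ≤ 2 ^ 1 := Nat.pow_le_pow_right (by omega) (by omega)
        omega) hb (by
        rw [h11] at h1
        rw [← hk]
        obtain ⟨s, hs⟩ : ∃ s, Fintype.card F = s + 1 := ⟨Fintype.card F - 1, by omega⟩
        rw [hs] at h1 ⊢
        rw [Nat.add_sub_cancel] at h1
        linear_combination h1)
      rw [h12] at hk
      obtain ⟨e⟩ := Cfsg.Agent.S0252.result hk
      obtain ⟨e'⟩ := Cfsg.Agent.S0253.result (ZMod.card 5)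
      exact .inr (.inl ⟨ZMod 5, inferInstance, inferInstance, by simp, ⟨e.trans e'.symm⟩, by simp; omega⟩)
    · rw [H61.gcd_two_of_odd ho] at h8 h10
      omega

end H38.CK
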