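/- CKS (S2193), rank one: the small Ree groups. -/
import Cfsg.Agent.H38.CKR0
import Cfsg.Agent.H30.ReeCount
import Cfsg.Agent.H61.Klein
import Cfsg.Agent.S2343

set_option autoImplicit false
set_option linter.unusedSectionVars false

namespace H38.CK
open Subgroup Cfsg MulAction H32.CK
open scoped MatrixGroups H61

theorem ar_ree {s n b : ℕ} (hs : 2 ≤ s) (hb : 0 < b) (h1 : (n + 1) * b = (s + 1) ^ 3 * s)
    (h2 : n ∣ b + s) (h3 : s ^ 2 + s + 1 ≤ n) : n + 1 = (s + 1) ^ 2 := by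
  obtain ⟨t, ht⟩ := h2
  have h5 : b < s * (s + 2) := by
    by_contra h5
    have : (s ^ 2 + s + 2) * (s * (s + 2)) ≤ (n + 1) * b := Nat.mul_le_mul (by omega) (by omega)
    nlinarith
  obtain rfl : t = 1 := by
    rcases t with _ | _ | t
    · omega
    · rfl
    · rw [mul_add, mul_add] at ht
      nlinarith [Nat.zero_le (n * t)]
  obtain rfl : n = b + s := by omega
  rcases lt_trichotomy b (s * (s + 1)) with h | h | h
  · have : (b + s + 1) * b < (s * (s + 1) + s + 1) * (s * (s + 1)) :=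
      Nat.mul_lt_mul'' (by omega) h
    nlinarith
  · rw [h]; ring
  · have : (s * (s + 1) + s + 1) * (s * (s + 1)) < (b + s + 1) * b :=
      Nat.mul_lt_mul'' (by omega) h
    nlinarith

theorem ar_fix {k f b : ℕ} (hf : f < (3 * k + 3) ^ 2)
    (h : (3 * k + 3) ^ 2 * ((3 * k + 2) ^ 2 + (3 * k + 2) + 1) =
      ((3 * k + 2) ^ 2 + (3 * k + 2) + 1) * f + (3 * k + 2) * (3 * k + 4) * b) : f = 1 := by
  obtain ⟨d, hd⟩ : ∃ d, (3 * k + 3) ^ 2 = f + d := ⟨_, (Nat.add_sub_cancel' hf.le).symm⟩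
  have h1 : ((3 * k + 2) * (3 * k + 4)).Coprime ((3 * k + 2) ^ 2 + (3 * k + 2) + 1) := by
    rw [← Nat.isCoprime_iff_coprime]
    exact ⟨1 - k + k * (3 * k + 5), -1 - k * (3 * k + 5), by push_cast; ring⟩
  obtain ⟨c, hc⟩ : (3 * k + 2) * (3 * k + 4) ∣ d := h1.dvd_of_dvd_mul_left ⟨b, by
    rw [hd] at h
    linarith⟩
  rcases c with _ | _ | c
  · omega
  · nlinarith
  · nlinarith [Nat.zero_le ((3 * k + 2) * (3 * k + 4) * c)]

variable {G Ω : Type} [Group G] [Finite G] [MulAction G Ω] [Finite Ω]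

/-- A small Ree group has no doubly transitive action of degree `q ^ 2`. -/
theorem ree_kill {K : Type} [Field K] {m : ℕ} (R : H30.Ree K m G) (hm : 1 ≤ m) (A : Act G Ω)
    (hn : Nat.card Ω = (3 ^ (2 * m + 1)) ^ 2) : False := by
  classical
  have := A.simple
  have := A.faith
  have := nontriv A
  have := Fintype.ofFinite G
  have := R.finite_L
  have := Fintype.ofFinite PSL(2, K)
  obtain ⟨j, hj⟩ := H30.exists_k m
  have h27 := H30.le_three_pow hm
  obtain ⟨k, hk⟩ : ∃ k, 3 ^ (2 * m + 1) = 3 * k + 3 :=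
    ⟨3 ^ (2 * m) - 1, by have : 0 < 3 ^ (2 * m) := by positivity
                         rw [pow_succ]; omega⟩
  set C : Finset G := Finset.univ.filter fun s => s ≠ 1 ∧ s * s = 1 with hCd
  have mC : ∀ s, s ∈ C ↔ s ≠ 1 ∧ s * s = 1 := fun s => by simp [hCd]
  have hC : ∀ g, ∀ c ∈ C, g * c * g⁻¹ ∈ C := fun g c hc => by
    rw [mC] at hc ⊢
    exact ⟨fun h => hc.1 (by simpa using h), by rw [conj_mul, hc.2, mul_one, mul_inv_cancel]⟩
  have e1 : (3 ^ (2 * m + 1)) ^ 2 - 3 ^ (2 * m + 1) + 1 = (3 * k + 2) ^ 2 + (3 * k + 2) + 1 := by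
    rw [hk, show (3 * k + 3) ^ 2 = (3 * k + 2) ^ 2 + (3 * k + 2) + (3 * k + 3) by ring,
      Nat.add_sub_cancel]
  have cC : C.card = (3 * k + 3) ^ 2 * ((3 * k + 2) ^ 2 + (3 * k + 2) + 1) := by
    rw [← e1, ← hk, ← R.card_two, Nat.card_eq_fintype_card, Fintype.card_subtype]
    congr 1
    ext s
    simp [mC, H61.orderOf_eq_two_iff']
  have hf : ∀ c ∈ C, Nat.card (fixedBy Ω c) = Nat.card (fixedBy Ω R.z) := fun c hc => by
    obtain ⟨g, hg⟩ := R.exists_conj_z ((mC c).1 hc).1 ((mC c).1 hc).2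
    rw [← hg, ← smul_fixedBy]
    exact (Set.ncard_smul_set g _).symm
  have hcount : ∀ a : Ω, (C.filter (· • a = a)).card =
      ((3 * k + 2) ^ 2 + (3 * k + 2) + 1) * Nat.card (fixedBy Ω R.z) := fun a => by
    have h1 := (count A C hC a).1
    rw [Finset.sum_congr rfl hf, Finset.sum_const, smul_eq_mul, cC, hn, hk, mul_assoc] at h1
    exact Nat.eq_of_mul_eq_mul_left (by positivity) h1
  have f1 : Nat.card (fixedBy Ω R.z) = 1 := by
    obtain ⟨a⟩ : Nonempty Ω := inferInstance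
    obtain ⟨b, hb⟩ := (count A C hC a).2
    rw [hcount, cC, hn, hk, show (3 * k + 3) ^ 2 - 1 = (3 * k + 2) * (3 * k + 4) from
      Nat.sub_eq_of_eq_add (by ring)] at hb
    refine ar_fix ?_ hb
    rw [← hk, ← hn, ← Set.ncard_univ Ω]
    refine Set.ncard_lt_ncard (Set.ssubset_univ_iff.2 fun h => R.z_ne_one ?_)
    exact eq_of_smul_eq_smul (α := Ω) fun x => by rw [one_smul]; exact (h ▸ Set.mem_univ x :)
  rw [f1, mul_one] at hcount
  have f2 : ∀ (a : Ω) (g : G), R.z • a = a → Commute R.z g → g • a = a := fun a g ha hg =>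
    congrArg Subtype.val ((Nat.card_eq_one_iff_unique.1 f1).1.elim
      (⟨g • a, by rw [mem_fixedBy, ← mul_smul, hg.eq, mul_smul, ha]⟩ : fixedBy Ω R.z) ⟨a, ha⟩)
  obtain ⟨x, y, M⟩ := R.exists_main
  have he : Even ((3 ^ (2 * m + 1) - 1) / 2 + 1) := ⟨2 * j + 1, by omega⟩
  set I : Finset PSL(2, K) := Finset.univ.filter fun s => s ≠ 1 ∧ s * s = 1 with hId
  have mI : ∀ s, s ∈ I ↔ s ≠ 1 ∧ s * s = 1 := fun s => by simp [hId]
  have cI : 2 * I.card = (3 * k + 3) * (3 * k + 2) := by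
    have h1 := M.ncard_inv_mul (by norm_num) rfl (.inr rfl) he
    rw [R.card_L, show {t : PSL(2, K) | t ≠ 1 ∧ t * t = 1} = I by ext; simp [mI],
      Set.ncard_coe_finset, show 2 * ((3 ^ (2 * m + 1) - 1) / 2 + 1) = 3 ^ (2 * m + 1) + 1 by omega,
      mul_comm] at h1
    rw [Nat.eq_of_mul_eq_mul_left (by positivity) h1, mul_left_comm,
      show 2 * ((3 ^ (2 * m + 1) - 1) / 2) = 3 * k + 2 by omega, hk]
  have ψC : ∀ s ∈ I, R.ψ s ∈ C := fun s hs => (mC _).2 ⟨fun h => ((mI s).1 hs).1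
    (R.ψ_injective (h.trans (map_one _).symm)), by rw [← map_mul, ((mI s).1 hs).2, map_one]⟩
  have P0 : ∀ a : Ω, R.z • a = a → ∀ s ∈ C, s • a = a → Commute R.z s := fun a ha s hs hsa => by
    have h1 : insert R.z (I.image R.ψ ∪ I.image fun s => R.z * R.ψ s) ⊆
        C.filter (Commute R.z ·) := by
      intro g hg
      simp only [Finset.mem_insert, Finset.mem_union, Finset.mem_image] at hg
      rw [Finset.mem_filter]
      rcases hg with rfl | ⟨t, ht, rfl⟩ | ⟨t, ht, rfl⟩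
      · exact ⟨(mC _).2 ⟨R.z_ne_one, R.z_mul_z⟩, .refl _⟩
      · exact ⟨ψC t ht, R.commute_z t⟩
      · refine ⟨(mC _).2 ⟨fun h => R.ψ_ne_zψ 1 t (by rw [h, map_one]), ?_⟩,
          (Commute.refl _).mul_right (R.commute_z t)⟩
        rw [R.sq_lift (.inr rfl), ((mI t).1 ht).2, map_one]
    have h2 : C.filter (Commute R.z ·) ⊆ C.filter (· • a = a) := fun g hg => by
      rw [Finset.mem_filter] at hg ⊢
      exact ⟨hg.1, f2 a g ha hg.2⟩
    have h3 := Finset.card_le_card h1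
    rw [Finset.card_insert_of_notMem, Finset.card_union_of_disjoint,
      Finset.card_image_of_injective _ R.ψ_injective, Finset.card_image_of_injective _
        (fun s t h => R.ψ_injective (mul_left_cancel h))] at h3
    · have h4 := Finset.eq_of_subset_of_card_le h2 (by rw [hcount]; nlinarith)
      exact (Finset.mem_filter.1 (h4.ge (Finset.mem_filter.2 ⟨hs, hsa⟩))).2
    · refine Finset.disjoint_left.2 fun g h4 h5 => ?_
      obtain ⟨s, -, rfl⟩ := Finset.mem_image.1 h4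
      obtain ⟨t, -, h⟩ := Finset.mem_image.1 h5
      exact R.ψ_ne_zψ s t h.symm
    · simp only [Finset.mem_union, Finset.mem_image, not_or, not_exists, not_and]
      exact ⟨fun s _ => R.ψ_ne_z s, fun s hs h => ((mC _).1 (ψC s hs)).1 (by simpa using h)⟩
  obtain ⟨⟨a, ha⟩⟩ := (Nat.card_eq_one_iff_unique.1 f1).2
  obtain ⟨s, s1, s2⟩ := M.exists_inv
  have hs := (mI s).2 ⟨s1, s2⟩
  obtain ⟨g, hg⟩ := R.exists_conj_z ((mC _).1 (ψC s hs)).1 ((mC _).1 (ψC s hs)).2
  have h1 : (I : Set PSL(2, K)) ⊆ centralizer {s} := fun t ht => by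
    have h2 := P0 (g • a) (by rw [← hg, mul_smul, inv_smul_smul, mul_smul, f2 a _ ha (R.commute_z s)])
      _ (hC g _ (ψC t ht)) (by rw [mul_smul, inv_smul_smul, mul_smul, f2 a _ ha (R.commute_z t)])
    rw [← hg, Commute, SemiconjBy, conj_mul, conj_mul, ← map_mul, ← map_mul] at h2
    exact mem_centralizer_singleton_iff.2 (R.ψ_injective (by simpa using h2.symm))
  have h2 := Set.ncard_le_ncard h1
  rw [Set.ncard_coe_finset] at h2
  have h3 := M.card_centralizer_inv (by norm_num) rfl (.inr rfl) he s1 s2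
  replace h2 := h2.trans_eq h3
  have h4 : I.card ≤ 3 * k + 4 := by omega
  have h5 : 8 ≤ k := by omega
  nlinarith

theorem jobRee : JobRee := fun K _ _ m hm hK => by
  have : Fact (Nat.Prime 3) := ⟨Nat.prime_three⟩
  refine chB_of fun Ω _ _ _ A => False.elim ?_
  have R := H30.reeG2 hK
  have h27 := H30.le_three_pow hm
  have h0 := R.B.card_mul_index
  rw [R.card_B, R.card_G] at h0
  obtain ⟨b, hb, h1, h2⟩ := key A R.sylU (t := 3 ^ (2 * m + 1) - 1) (pow_mul 3 (2 * m + 1) 3).symm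
    (by rw [R.coe_sylU, R.normalizer_U]
        exact Nat.eq_of_mul_eq_mul_left (Nat.mul_pos (by positivity) (by omega)) h0)
    (by rw [R.card_G]; ring)
  obtain ⟨ρ, hρ⟩ := exists_irr A.toAct
  have h3 := three_le A.toAct
  have h4 := Cfsg.Agent.S2343.result m hm hK _ ρ hρ (by omega)
  obtain ⟨s, hs⟩ : ∃ s, 3 ^ (2 * m + 1) = s + 1 := ⟨3 ^ (2 * m + 1) - 1, by omega⟩
  refine ree_kill R hm A.toAct ?_
  rw [hs, Nat.add_sub_cancel] at h1 h2
  rw [hs, show (s + 1) ^ 2 = s ^ 2 + s + (s + 1) by ring, Nat.add_sub_cancel] at h4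
  rw [hs, ← ar_ree (by omega) hb (by rw [Nat.sub_add_cancel (by omega), h1]) h2 h4,
    Nat.sub_add_cancel (by omega)]

end H38.CK
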