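import Cfsg.Agent.H57.U2CSpec

/-! Job G2 of the chapter U2F of S3275: the group form of the quadratic bound. -/

set_option autoImplicit false

namespace H38.DpvG2

open Subgroup Cfsg H98 H96 H97 H48.DP H57.DPC H48.DP2 H96.U2I H57.U2C
open scoped commutatorElement

universe u

section grp

variable {G : Type u} [Group G]

theorem three_e {F : Subgroup G} (hF : IsPGroup 3 F) {f u z : G} (hf : f ∈ F) (hz : z * z = 1)
    (hfz : Commute f z) (h : ⁅f, u⁆ ∈ zpowers z) : Commute f u := by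
  obtain ⟨n, hn⟩ := mem_zpowers_iff.1 h
  have h1 : f * u * f⁻¹ = z ^ n * u := by rw [hn, commutatorElement_def]; group
  have h2 : Commute f (z ^ n) := hfz.zpow_right n
  have h3 : z ^ n * z ^ n = 1 := by
    rw [← (Commute.refl z).mul_zpow, hz, one_zpow]
  have h4 : Commute (f * f) u := by
    have : f * f * u * (f * f)⁻¹ = u := by
      calc f * f * u * (f * f)⁻¹ = f * (f * u * f⁻¹) * f⁻¹ := by group
        _ = f * z ^ n * u * f⁻¹ := by rw [h1]; group
        _ = z ^ n * (f * u * f⁻¹) := by rw [h2.eq]; group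
        _ = u := by rw [h1, ← mul_assoc, h3, one_mul]
    exact mul_inv_eq_iff_eq_mul.1 this
  obtain ⟨k, hk⟩ := hF ⟨f, hf⟩
  have hk' : f ^ 3 ^ k = 1 := congrArg Subtype.val hk
  obtain ⟨m, hm⟩ : Odd (3 ^ k) := Odd.pow (by decide)
  have h5 : f = ((f * f) ^ m)⁻¹ := by
    rw [eq_inv_iff_mul_eq_one, ← pow_two, ← pow_mul, ← pow_succ', ← hm, hk']
  rw [h5]
  exact (h4.pow_left m).inv_left

theorem fx_of [Finite G] {F : Subgroup G} (hF : IsPGroup 3 F) {f u : G} (hf : f ∈ F) (h1 : f ≠ 1)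
    (h : Commute f u) : Fx F u := by
  obtain ⟨k, hk⟩ := hF ⟨f, hf⟩
  have hk' : f ^ 3 ^ k = 1 := congrArg Subtype.val hk
  have hd : 3 ∣ orderOf f := by
    obtain ⟨j, -, hj⟩ := (Nat.dvd_prime_pow Nat.prime_three).1 (orderOf_dvd_of_pow_eq_one hk')
    rcases j with _ | j
    · exact absurd (orderOf_eq_one_iff.1 (by simpa using hj)) h1
    · rw [hj]; exact dvd_pow_self 3 (Nat.succ_ne_zero j)
  exact ⟨f ^ (orderOf f / 3), pow_mem hf _,
    orderOf_pow_orderOf_div (orderOf_pos f).ne' hd, h.pow_left _⟩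

end grp

section md

variable {W : Type u} [AddCommGroup W]

theorem pg (two : ∀ w : W, w + w = 0) {a x : Au W} {c : W} (x3 : orderOf x = 3)
    (inv : a * x * a⁻¹ = x⁻¹) (hac : a • c = c) (tp : Tp x c) {P : W} (hP : a • P = P) :
    x • P = P ∨ dl x (x • P) = c := by
  have h3 : x * x * x = 1 := by rw [← pow_three', ← x3, pow_orderOf_eq_one]
  have hx : ∀ w : W, x • x • x • w = w := fun w => by
    rw [← mul_smul, ← mul_smul, h3, one_smul]
  have hax : ∀ w : W, a • x • w = x • x • a • w := fun w => by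
    have e1 : a * x = x * x * a := by
      rw [mul_inv_eq_iff_eq_mul.1 inv, inv_eq_of_mul_eq_one_left h3]
    rw [← mul_smul, e1, mul_smul, mul_smul]
  have neg : ∀ w : W, -w = w := fun w => neg_eq_of_add_eq_zero_left (two w)
  have hfix : a • dl x (x • P) = dl x (x • P) := by
    rw [dl_apply, smul_sub, hax, hax, hP, hx, ← neg (x • x • P - x • P), neg_sub]
  have hne : a • x • c ≠ x • c := fun e => by
    rw [hax, hac] at e
    exact tp.1 ((MulAction.injective x) e)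
  rcases tp.2 (x • P) with e | e | e | e
  · exact Or.inl ((MulAction.injective x) (dl_eq_zero.1 e))
  · exact Or.inr e
  · rw [e] at hfix; exact absurd hfix hne
  · rw [e, smul_add, hac] at hfix; exact absurd (add_left_cancel hfix) hne

end md

theorem jobG2 : JobG2.{u} := by
  intro qb br tg G _ _ K F U B N z s md qz hNU hzN hs hfx hB hN hi
  have hz : z * z = 1 := by rw [← pow_two]; exact md.ea.2 z md.zU
  obtain ⟨W, _, ⟨σ⟩⟩ := exists_sec (U := U) (U₀ := zpowers z) (zpowers_le.2 md.zU)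
    (commutator_le.2 fun x hx y hy => by
      rw [commutatorElement_eq_one_iff_mul_comm.2 (ea_commute md.ea hx hy).eq]; exact one_mem _)
  haveI : Finite W := σ.finite
  obtain ⟨hK, qd, hidx⟩ := br G K F U B z W σ md qz
  have hFn : F ≤ nn U (zpowers z) := md.FK.trans hK
  have hBn : B ≤ nn U (zpowers z) := qz.le.trans hK
  have e3 : ∀ f ∈ F, ∀ p : G, ⁅f, p⁆ ∈ zpowers z → Commute f p := fun f hf p h =>
    three_e md.F3 hf hz (mem_centralizer_singleton_iff.1 (md.Kz (md.FK hf))) h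
  have f1 : ∀ f ∈ F, ⁅f, s⁆ ∈ zpowers z → f = 1 := fun f hf h => by
    by_contra h1
    exact hfx (fx_of md.F3 hf h1 (e3 f hf s h))
  have h27 : H96.U2I.E27 (σ.bar F) := by
    obtain ⟨Bt, hBt, hea, hc⟩ := md.e27
    refine ⟨σ.bar Bt, σ.bar_mono hBt, σ.ea_bar' (hBt.trans hFn) hea, ?_⟩
    have hb : stab U (zpowers z) ⊓ Bt = ⊥ := eq_bot_iff.2 fun f hf => mem_bot.2
      (f1 f (hBt hf.2) (by rw [← inv_mem_iff, commutatorElement_inv]; exact hf.1.2 s hs))
    rwa [σ.card_bar (hBt.trans hFn), ← inf_relIndex_right, hb, relIndex_bot_left]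
  have hk : Nat.card (σ.bar B) ≠ 1 := fun e =>
    hB ((σ.bar_eq_bot' hBn).1 (card_eq_one.1 e))
  obtain ⟨r1, a, ha, x, hx, w, x3, inv, tp⟩ := qb W (σ.bar F) (σ.bar B) (σ.im N) (σ.ψ s) qd h27 hk
    (by rw [hidx N hNU hzN, σ.card_bar hBn]; exact hi)
    (fun e he h => by
      obtain ⟨f, hf, rfl⟩ := σ.exists_α he
      rw [f1 f hf ((σ.smul_eq_iff (hFn hf) hs).1 h), σ.α_one])
    (by
      rintro _ ⟨h, hU, hh, rfl⟩ a ha
      obtain ⟨b, hb, rfl⟩ := σ.exists_α ha
      rw [σ.dl_ψ (hBn hb) hU]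
      have hc : ⁅b, h⁆ ∈ U := Sec.cmem (hBn hb) hU
      rcases hN h hh b hb with e | e
      · exact Or.inl ((σ.ker _ hc).2 e)
      · right
        have e1 := (σ.ker _ (mul_mem hc hs)).2 e
        rw [σ.mul _ hc _ hs, ← qd.two (σ.ψ s)] at e1
        exact add_right_cancel e1)
  rw [hidx N hNU hzN, σ.card_bar hBn] at r1
  have hac : a • dl a w = dl a w := qd.qd a ha w a ha
  obtain ⟨b, hb, rfl⟩ := σ.exists_α ha
  obtain ⟨w0, hw0, rfl⟩ := σ.surj w
  have hc : ⁅b, w0⁆ ∈ U := Sec.cmem (hBn hb) hw0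
  refine ⟨r1, b, hb, ⟨w0, hw0, fun e => tp.1 ?_, tg G K F U z _ W σ md hc ⟨x, hx, x3, ?_⟩⟩, ?_⟩
  · rw [σ.dl_ψ (hBn hb) hw0, (σ.ker _ hc).2 e, smul_zero]
  · rwa [← σ.dl_ψ (hBn hb) hw0]
  obtain ⟨f, hf, rfl⟩ := σ.exists_α hx
  have hf1 : f ≠ 1 := fun e => by
    rw [e, σ.α_one, orderOf_one] at x3; exact absurd x3 (by decide)
  have lift : ∀ p ∈ U, σ.α f • σ.ψ p = σ.ψ p → Fx F p := fun p hp h =>
    fx_of md.F3 hf hf1 (e3 f hf p ((σ.smul_eq_iff (hFn hf) hp).1 h))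
  have fixd : ∀ p ∈ U, Commute b p → σ.α b • σ.ψ p = σ.ψ p := fun p hp h =>
    (σ.smul_eq_iff (hBn hb) hp).2 (by
      rw [commutatorElement_eq_one_iff_mul_comm.2 h.eq]; exact one_mem _)
  intro p hp q hq cp cq
  rcases pg qd.two x3 inv hac tp (fixd p hp cp) with e | e
  · exact Or.inl (lift p hp e)
  rcases pg qd.two x3 inv hac tp (fixd q hq cq) with e' | e'
  · exact Or.inr (Or.inl (lift q hq e'))
  refine Or.inr (Or.inr (lift _ (mul_mem hp hq) ?_))
  rw [σ.mul _ hp _ hq]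
  refine MulAction.injective (σ.α f) (dl_eq_zero.1 ?_)
  change dl (σ.α f) (σ.α f • (σ.ψ p + σ.ψ q)) = 0
  rw [smul_add, map_add, e, e', qd.two]

end H38.DpvG2
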