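/- Fusion systems of sectional rank three: the weight computation (blueprints/FUS3.md, CA2). -/
import Cfsg.Agent.H87.F3T

set_option autoImplicit false
set_option linter.unusedSectionVars false

namespace H38.F3
open Cfsg H92 H93 Subgroup H92.Es H92.P5 H87.F3
open scoped commutatorElement

universe u
variable {Ω : Type u} [Group Ω] [Finite Ω] {p : ℕ} [Fact p.Prime] {N₂ N E A M D P T Y K B : Subgroup Ω}
  {h g a y : Ω} {d l : ℤ}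

theorem mem_of_wt {j k : ℤ} (w1 : W h y B j) (w2 : W h y B k) (e : y ^ p ∈ B) (n : (j : ZMod p) ≠ k) : y ∈ B :=
  by_contra fun a => n (w1.uniq w2 a e)

namespace CA2
variable (c : CA p N₂ N E A M D P T h d l)
include c

theorem d0 : (d : ZMod p) ≠ 0 := left_ne_zero_of_mul_eq_one c.dl
theorem n21 : ((d * d : ℤ) : ZMod p) ≠ d := fun e => c.d1 (mul_left_cancel₀ (d0 c) (by simpa using e))
theorem n31 : ((d * d * d : ℤ) : ZMod p) ≠ d := fun e =>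
  c.d2 (mul_right_cancel₀ (d0 c) (by simpa only [Int.cast_mul, sq, one_mul] using e))
theorem n32 : ((d * d * d : ℤ) : ZMod p) ≠ (d * d : ℤ) := fun e =>
  n21 c (mul_right_cancel₀ (d0 c) (by simpa only [Int.cast_mul] using e))
theorem n2 : ((d * d : ℤ) : ZMod p) ≠ 1 := fun e => c.d2 (by rw [← e]; push_cast; ring)
theorem n3 : ((d * d * d : ℤ) : ZMod p) ≠ 1 := fun e => c.d3 (by rw [← e]; push_cast; ring)
theorem n5 : ((d * d * d * (d * d) : ℤ) : ZMod p) ≠ 1 := fun e => c.d5 (by rw [← e]; push_cast; ring)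

theorem lA : A ≤ N₂ := c.sA.le.trans c.s2.le
theorem lM : M ≤ N₂ := c.sM'.le.trans (lA c)
theorem lMN : M ≤ N := c.sM'.le.trans c.sA.le

theorem eM : E ⊓ A = M :=
  (Sp.eq_of_le c.sM (two_max c.sE c.sA fun e => c.ne e.le).1 (le_inf c.sM.le c.sM'.le)).symm
theorem tN : N ≤ Tv N M := eM c ▸ (two_max c.sE c.sA fun e => c.ne e.le).2.2.1.ab
theorem tNA : N₂ ≤ Tv N A := fun _ a => c.sA.tv c.s2.pg c.s2.le a (c.s2.nm a) (c.nA a)
theorem tAM : N₂ ≤ Tv A M := fun _ a => c.sM'.tv c.s2.pg (lA c) a (c.nA a) (c.nM a)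
theorem nE (a : y ∈ A) (n : y ∉ M) : y ∉ E := fun e => n (eM c ▸ ⟨e, a⟩)
theorem wA (a : y ∈ A) : W h y M (d * d) := eM c ▸ W.inf (c.wN y (c.sA.le a)) c.hA a

theorem w2 (g1 : g ∈ N₂) (g2 : g ∉ N) : W h g N (d * d * d) := by
  obtain ⟨a, a1, a2⟩ := c.sM.ex
  have aN := c.sE.le a1
  have b1 : ⁅g, a⁆ ∈ A := com_of_tv (tNA c g1) aN
  have b2 : ⁅g, a⁆ ∉ M := fun e => c.nn (c.s2.le_of c.sE.nm g1 g2
    (Nm_of_Tv (c.sM.tv_of (mem_Tv_self (c.nM g1)) c.sM.nm a1 a2 e) c.sM.le le_rfl))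
  obtain ⟨j, w⟩ := c.s2.wt c.h2 g1 g2
  have e := (w.comm (c.wE a a1) g1 aN (lMN c) (c.nM g1) (c.sM.nm a1) (tN c) (le_Tv_of_le_Nm c.nM)
    (com_of_tv (tAM c g1) b1) (com_of_tv (tN c aN) (c.sA.le b1))).uniq (wA c b1) b2 (c.sM'.pow b1)
  refine w.of_eq (c.s2.pow g1) ?_
  push_cast at e ⊢
  rw [← e, mul_assoc, mul_comm (l : ZMod p), c.dl, mul_one]

theorem tDT : N₂ ≤ Tv D T := fun g g1 => by
  by_cases g2 : g ∈ N
  · exact Tv_anti c.sD.le _ (c.tM g2)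
  refine tv_of_com (c.nT g1) fun w hw => ?_
  have wM := c.sD.le hw
  have m : ⁅g, w⁆ ∈ P := com_of_tv (tv_small c.s2.pg (lM c) c.lP c.nM c.nP' (by
    rw [c.sD.card, c.sP.card]; exact Nat.mul_le_mul_left _ c.cD) g1) wM
  have e : D ⊓ P = T := c.sP.eq_of' (le_inf c.lT c.sP.le) inf_le_right fun k => c.nP (k.trans inf_le_left)
  refine mem_of_wt ((w2 c g1 g2).comm (W.of_ct c.hD hw T) g1 wM (c.lT.trans c.sD.le) (c.nT g1) (c.nT (lM c wM))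
    c.tM (le_Tv_of_le_Nm c.nT) (com_of_tv (c.sP.tv c.s2.pg (c.lP.trans (lM c)) g1 (c.nP' g1) (c.nT g1)) m)
    (com_of_tv (c.tM (lMN c wM)) (c.lP m))) (e ▸ W.inf (c.wM _ (c.lP m)) c.hP m) (c.pw _ (c.lP m)) ?_
  rw [mul_one]; exact n31 c

theorem nD : N₂ ≤ Nm D := fun _ a => Nm_of_Tv (tDT c a) c.lT le_rfl
theorem tMD : N₂ ≤ Tv M D := fun _ a => c.sD.tv c.s2.pg (lM c) a (c.nM a) (nD c a)

/-- the subgroup `Y` -/
theorem exY : ∃ Y, Y ≤ N₂ ∧ Sp p Y A ∧ h ∈ Nm Y ∧ El p Y D ∧ ∀ y ∈ Y, W h y A (d * d * d) := by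
  have c1 := card_le_tv c.sD c.sM' ((lA c).trans (nD c)) (tMD c) (tAM c)
  have l1 : A ≤ N₂ ⊓ Tv A D := le_inf (lA c) (c.sM'.cyc ((lA c).trans (nD c)) ((lA c).trans (tMD c)))
  have e : N₂ ⊓ Tv A D ⊓ N = A := c.sA.eq_of' (le_inf l1 c.sA.le) inf_le_right fun k => by
    obtain ⟨a, a1, a2⟩ := c.sM.ex
    obtain ⟨b, b1, b2⟩ := c.sM'.ex
    exact c.nc b (c.sA.le b1) (nE c b1 b2) a a1 a2 (com_symm (com_of_tv (k (c.sE.le a1)).1.2 b1))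
  have n : ¬ N₂ ⊓ Tv A D ≤ N := fun k => by
    rw [inf_eq_left.2 k] at e
    rw [e, c.s2.card, c.sA.card] at c1
    have := Nat.le_of_mul_le_mul_left c1 (Fact.out : p.Prime).pos
    have := (Fact.out : p.Prime).two_le
    have : 0 < Nat.card A := Nat.card_pos
    nlinarith
  have s := c.s2.inf inf_le_left n
  have hY : h ∈ Nm (N₂ ⊓ Tv A D) := mem_Nm_inf c.h2 (mem_Nm_Tv c.hA (Ct_le_Nm _ c.hD))
  rw [e] at s
  obtain ⟨g, g1, g2⟩ := s.ex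
  have w : W h g A (d * d * d) := by
    have := W.inf (w2 c g1.1 fun k => g2 (e ▸ ⟨g1, k⟩)) hY g1
    rwa [inf_comm, e] at this
  have wY := fun y (a : y ∈ N₂ ⊓ Tv A D) => W.same s c.hA g1 g2 a w
  have t := s.cyc (inf_le_left.trans (nD c)) inf_le_right
  have pM : ∀ y ∈ M, y ^ p ∈ D := fun y a => c.sD.pow a
  have pA : ∀ y ∈ A, y ^ p ∈ D := fun y a => mem_of_wt (W.powp (wA c a) t (l1 a) (c.sM'.le.trans l1) pM)
    (c.wM _ (c.sM'.pow a)) (pM _ (c.sM'.pow a)) (n21 c)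
  refine ⟨_, inf_le_left, s, hY, ⟨c.sD.le.trans (c.sM'.le.trans l1), t, fun y a => ?_⟩, wY⟩
  have w' := W.powp (wY y a) t a l1 pA
  have m := mem_of_wt (w'.mono c.sD.le) (wA c (s.pow a)) (c.sM'.pow (s.pow a)) (n32 c)
  exact mem_of_wt w' (c.wM _ m) (pM _ m) (n31 c)

variable (l2 : Y ≤ N₂) (s : Sp p Y A) (hY : h ∈ Nm Y) (el : El p Y D) (wY : ∀ y ∈ Y, W h y A (d * d * d))
include l2 s el wY

theorem layer (k1 : K ≤ Y) (k2 : ∀ y ∈ Y, ⁅h, y⁆ ∈ K) : Y ≤ K := by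
  have l1 := c.sM'.le.trans s.le
  have k := fun y a => (le_sup_left : K ≤ K ⊔ D) (k2 y a)
  have q := fun y a => (le_sup_right : D ≤ K ⊔ D) (el.pw y a)
  have m1 : M ≤ K ⊔ D := fun y a => W.mem (c.wM y a) c.d1 (c.sD.nm a) (q y (l1 a)) le_sup_right (k y (l1 a))
  have m2 : A ≤ K ⊔ D := fun y a => W.mem (wA c a) (n2 c) (c.sM'.nm a) (q y (s.le a)) m1 (k y (s.le a))
  refine le_of_sup_phi ?_ k1
  rw [← eq_phi c.sr l2 s.pg el (Sp.three s c.sM' c.sD)]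
  exact fun y a => W.mem (wY y a) (n3 c) (s.nm a) (q y a) m2 (k y a)

include hY

theorem cD : Y ≤ Ct D := (layer c l2 s el wY inf_le_left fun y a => ⟨comm_mem_of_Nm hY a,
  comm_mem_of_Nm' (mem_Nm_Ct (nD c (l2 a))) c.hD⟩).trans inf_le_right

theorem ab : Y ≤ Ct Y := by
  have z := cD c l2 s hY el wY
  have z' := le_Ct_comm.1 z
  have l1 := c.sM'.le.trans s.le
  have cm : ∀ x ∈ Y, ∀ y ∈ Y, ⁅x, y⁆ ∈ D := fun x a y b => com_of_tv (el.ab a) b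
  have c1 : ∀ x ∈ Y, ∀ y ∈ D, ∀ B : Subgroup Ω, ⁅x, y⁆ ∈ B := fun x a y b B => com_ct (z a) b ▸ one_mem B
  have cz : ∀ x ∈ Y, ∀ y ∈ Y, ∀ i : ℤ, ⁅x, y ^ i⁆ = ⁅x, y⁆ ^ i := fun x a y b i =>
    H9.commutatorElement_zpow_right (commutatorElement_eq_one_iff_commute.1 (com_ct (z b) (cm x a y b))) i
  have cp : ∀ x ∈ Y, ∀ y ∈ Y, ∀ B : Subgroup Ω, ⁅x, y⁆ ^ p ∈ B := fun x a y b B => by
    rw [← zpow_natCast, ← cz x a y b, zpow_natCast]; exact c1 x a _ (el.pw y b) B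
  have aM : M ≤ Ct M := c.sD.cyc' (l1.trans z)
  obtain ⟨b, b1, b2⟩ := c.sM'.ex
  obtain ⟨m, m1, m2⟩ := c.sD.ex
  have bY := s.le b1
  have mY := l1 m1
  have aA : A ≤ Ct A := c.sM'.cyc' (c.sM'.le_of aM b1 b2 (c.sD.ct_of (z bY) m1 m2 (mem_bot.1 (W.fix
    ((wA c b1).comm (c.wM m m1) bY m1 c.sD.le (nm_bot _) (nm_bot _) (le_tv_bot aM) (le_tv_bot z')
      (c1 b bY _ (cm b bY m mY) _) (c1 m mY _ (cm b bY m mY) _)) (n3 c) (W.of_ct c.hD (cm b bY m mY) _)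
      (cp b bY m mY _)))))
  obtain ⟨g, g1, g2⟩ := s.ex
  have nz : Y ≤ Nm (zpowers ⁅g, m⁆) := z.trans ((Ct_anti (zpowers_le.2 (cm g g1 m mY))).trans (Ct_le_Nm _))
  obtain ⟨i, hi⟩ := mem_zpowers_iff.1 (W.fix ((wY g g1).comm (wA c b1) (mem_zpowers g) b1 c.sM'.le (nz g1) (nz bY)
    (fun x a => mem_Tv_of_Ct (aA a) (nz (s.le a))) (tv_symm (l1.trans nz) (zpowers_le.2
      (c.sD.tv_of (mem_Tv_of_Ct (z g1) (nz g1)) (l1.trans nz) m1 m2 (mem_zpowers _))))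
    (c1 g g1 _ (cm g g1 b bY) _) (c1 b bY _ (cm g g1 b bY) _)) (n5 c) (W.of_ct c.hD (cm g g1 b bY) _)
    (cp g g1 b bY _))
  rw [← cz g g1 m mY] at hi
  have b3 : (m ^ i)⁻¹ * b ∈ A := mul_mem (inv_mem (zpow_mem (c.sM'.le m1) i)) b1
  have b4 : (m ^ i)⁻¹ * b ∉ M := fun k => b2 ((M.mul_mem_cancel_left (inv_mem (zpow_mem m1 i))).1 k)
  have b5 : ⁅g, (m ^ i)⁻¹ * b⁆ = 1 := by
    rw [show ⁅g, (m ^ i)⁻¹ * b⁆ = (m ^ i)⁻¹ * ⁅g, m ^ i⁆⁻¹ * ⁅g, b⁆ * m ^ i by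
      simp only [commutatorElement_def]; group, hi]
    group
  generalize (m ^ i)⁻¹ * b = b' at b3 b4 b5
  obtain ⟨a, a1, a2⟩ := c.sM.ex
  have v := mem_Ct'.1 (aA (tv_apply (tNA c (l2 g1)) (c.sE.le a1))) _ b3
  have e : ⁅g, ⁅b', a⁆⁆ = 1 := by
    rw [commutatorElement_def g, conjugate_commutatorElement, mul_inv_eq_one.1 b5, mul_inv_eq_one,
      commutatorElement_def, commutatorElement_def]
    calc _ = b' * a * (a⁻¹ * (g * a * g⁻¹) * b'⁻¹) * (g * a * g⁻¹)⁻¹ := by group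
      _ = _ := by rw [← (Commute.inv_left v).eq]; group
  exact s.cyc' (s.le_of aA g1 g2 (c.sM'.ct_of (c.sD.ct_of (z g1) (com_of_tv (tN c (c.sA.le b3)) (c.sE.le a1))
    (c.nc _ (c.sA.le b3) (nE c b3 b4) a a1 a2) e) b3 b4 b5))

end CA2

theorem jobCA2 : JobCA2.{u} := by
  intro Ω _ _ p _ N₂ N E A M D P T h d l c
  obtain ⟨Y, l2, s, hY, el, wY⟩ := CA2.exY c
  have ab := CA2.ab c l2 s hY el wY
  have o := CA2.layer c l2 s el wY (OZ_le p Y) fun y a => by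
    have m := comm_mem_of_Nm hY a
    refine mem_OZ.2 ⟨m, ab m, ?_⟩
    rw [commutatorElement_def, Commute.mul_pow (Commute.inv_right (mem_Ct'.1 (ab a) _ (conj_mem_of_Nm hY a))),
      conj_pow, conj_eq_of_Ct c.hD (el.pw y a), inv_pow, mul_inv_cancel]
  have := c.sr.el l2 (el_bot ab fun y a => (mem_OZ.1 (o a)).2.2)
  rw [Sp.three s c.sM' c.sD] at this
  exact (card_le_one_iff_eq_bot D).1 (Nat.le_of_mul_le_mul_left (this.trans (mul_one _).ge)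
    (pow_pos (Fact.out : p.Prime).pos 3))

end H38.F3
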