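/- Fusion systems of sectional rank three: passage to the quotient by the core (blueprints/FUS3.md, Q). -/
import Cfsg.Agent.H87.F3Spec

set_option autoImplicit false
set_option linter.unusedSectionVars false

namespace H38.F3
open Cfsg H92 H93 Subgroup H92.Es H92.P5 H87.F3
open scoped commutatorElement

universe u
variable {Ω Ω' : Type u} [Group Ω] [Group Ω'] {H T X : Subgroup Ω} {f : H →* Ω'}
  {A A₁ A₂ B C E E₁ E₂ K L N : Subgroup Ω'} {p : ℕ}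

/-- the preimage in the ambient group -/
def pre (f : H →* Ω') (A : Subgroup Ω') : Subgroup Ω := (A.comap f).map H.subtype

theorem mem_pre (g : H) : g.1 ∈ pre f A ↔ f g ∈ A := mem_map_iff_mem H.subtype_injective

theorem pre_le (A : Subgroup Ω') : pre f A ≤ H := map_subtype_le _

theorem pre_mono (h : A ≤ B) : pre f A ≤ pre f B := map_mono (comap_mono h)

theorem pre_inf (A B : Subgroup Ω') : pre f (A ⊓ B) = pre f A ⊓ pre f B := by
  rw [pre, comap_inf, map_inf _ _ _ H.subtype_injective]; rfl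

theorem all_pre {P : Ω → Prop} : (∀ x ∈ pre f A, P x) ↔ ∀ g : H, f g ∈ A → P g :=
  ⟨fun h g a => h _ ((mem_pre g).2 a), by rintro h _ ⟨g, a, rfl⟩; exact h g a⟩

theorem pre_cj (g : H) (A : Subgroup Ω') : pre f (cj (f g) A) = cj g.1 (pre f A) := by
  ext x
  by_cases h : x ∈ H
  · rw [mem_pre ⟨x, h⟩, mem_cj, mem_cj, ← map_inv, ← map_mul, ← map_mul, ← mem_pre]; rfl
  · exact iff_of_false (fun a => h (pre_le _ a)) fun a => h (cj_le_of_mem g.2 (pre_le A) a)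

/-- a quotient map with kernel `T` -/
structure QD (f : H →* Ω') (T : Subgroup Ω) : Prop where
  sur : Function.Surjective f
  bot : pre f ⊥ = T

namespace QD
variable (q : QD f T)
include q

theorem le_iff : pre f A ≤ pre f B ↔ A ≤ B :=
  (map_le_map_iff_of_injective H.subtype_injective).trans (comap_le_comap_of_surjective q.sur)

theorem inj (h : pre f A = pre f B) : A = B := le_antisymm (q.le_iff.1 h.le) (q.le_iff.1 h.ge)

theorem T_le (A : Subgroup Ω') : T ≤ pre f A := q.bot ▸ pre_mono bot_le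

theorem all {P : Ω' → Prop} : (∀ x ∈ A, P x) ↔ ∀ g : H, f g ∈ A → P (f g) :=
  ⟨fun h _ a => h _ a, fun h x a => by obtain ⟨g, rfl⟩ := q.sur x; exact h g a⟩

theorem pre_bar (h1 : T ≤ X) (h2 : X ≤ H) : pre f ((X.subgroupOf H).map f) = X := by
  rw [pre, comap_map_eq_self, subgroupOf_map_subtype, inf_eq_left.2 h2]
  exact fun g a => h1 (q.bot ▸ (mem_pre g).2 a)

theorem ex (h1 : T ≤ X) (h2 : X ≤ H) : ∃ A, pre f A = X := ⟨_, q.pre_bar h1 h2⟩

theorem sup (A B : Subgroup Ω') : pre f (A ⊔ B) = pre f A ⊔ pre f B := by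
  rw [pre, ← comap_sup_eq f _ _ q.sur, Subgroup.map_sup]; rfl

theorem idx (A B : Subgroup Ω') : (pre f A).relIndex (pre f B) = A.relIndex B := by
  rw [pre, pre, relIndex_map_map_of_injective _ _ H.subtype_injective, relIndex_comap,
    map_comap_eq_self_of_surjective q.sur]

theorem card (A : Subgroup Ω') : Nat.card (pre f A) = Nat.card A * Nat.card T := by
  rw [← relIndex_bot_left A, ← q.idx, q.bot, ← Nat.card_congr (subgroupOfEquivOfLe (q.T_le A)).toEquiv]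
  exact (index_mul_card _).symm

theorem nm (g : H) : g.1 ∈ Nm (pre f A) ↔ f g ∈ Nm A := by
  rw [mem_Nm, mem_Nm, ← pre_cj]
  exact ⟨q.inj, congrArg _⟩

theorem tv (g : H) : g.1 ∈ Tv (pre f A) (pre f B) ↔ f g ∈ Tv A B := by
  rw [mem_Tv, mem_Tv, q.nm, all_pre, q.all]
  refine and_congr_right' (forall₂_congr fun x _ => ?_)
  rw [← map_inv, ← map_inv, ← map_mul, ← map_mul, ← map_mul, ← mem_pre]; rfl

theorem le_nm : pre f K ≤ Nm (pre f A) ↔ K ≤ Nm A :=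
  all_pre.trans ((forall₂_congr fun g _ => q.nm g).trans q.all.symm)

theorem le_tv : pre f K ≤ Tv (pre f A) (pre f B) ↔ K ≤ Tv A B :=
  all_pre.trans ((forall₂_congr fun g _ => q.tv g).trans q.all.symm)

theorem pre_tv (A B : Subgroup Ω') : pre f (Tv A B) = H ⊓ Tv (pre f A) (pre f B) :=
  le_antisymm (le_inf (pre_le _) (q.le_tv.2 le_rfl)) fun x a => (mem_pre ⟨x, a.1⟩).2 ((q.tv _).1 a.2)

theorem nmT : H ≤ Nm T := fun x a => q.bot ▸ (q.nm ⟨x, a⟩).2 (nm_bot _)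

theorem ct_le (A : Subgroup Ω') : H ⊓ Ct (pre f A) ≤ pre f (Ct A) := by
  rw [← Tv_bot A, q.pre_tv, q.bot]
  exact fun x a => ⟨a.1, mem_Tv_of_Ct a.2 (q.nmT a.1)⟩

theorem pw {n : ℕ} : (∀ y ∈ pre f A, y ^ n ∈ pre f B) ↔ ∀ y ∈ A, y ^ n ∈ B :=
  all_pre.trans ((forall₂_congr fun g _ => by rw [← map_pow, ← mem_pre]; rfl).trans q.all.symm)

theorem pMod : PMod p (pre f K) (pre f C) ↔ PMod p K C :=
  all_pre.trans ((forall₂_congr fun g _ => exists_congr fun n =>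
    (mem_pre (g ^ p ^ n)).trans (by rw [map_pow])).trans (q.all (P := fun x => ∃ n : ℕ, x ^ p ^ n ∈ C)).symm)

theorem el (h : El p A B) : El p (pre f A) (pre f B) := ⟨pre_mono h.le, q.le_tv.2 h.ab, q.pw.2 h.pw⟩

theorem irr (h : Irr L A B) : Irr (pre f L) (pre f A) (pre f B) := fun U h1 h2 h3 => by
  obtain ⟨U, rfl⟩ := q.ex ((q.T_le B).trans h1) (h2.trans (pre_le A))
  exact (h U (q.le_iff.1 h1) (q.le_iff.1 h2) (q.le_nm.1 h3)).imp (congrArg _) (congrArg _)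

theorem ncm (h : ∀ x ∈ N, x ∉ E → ∀ y ∈ A, y ∉ B → ⁅x, y⁆ ∉ C) :
    ∀ x ∈ pre f N, x ∉ pre f E → ∀ y ∈ pre f A, y ∉ pre f B → ⁅x, y⁆ ∉ pre f C :=
  all_pre.2 fun x a b => all_pre.2 fun y c d e =>
    h _ a (mt (mem_pre x).2 b) _ c (mt (mem_pre y).2 d) (map_commutatorElement f x y ▸ (mem_pre ⁅x, y⁆).1 e)

variable [Finite Ω] [Finite Ω'] [Fact p.Prime]

theorem pg (h : IsPGroup p (pre f A)) : IsPGroup p A := isPGroup_iff_forall.2 (q.all.2 fun g a =>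
  (isPGroup_iff_forall.1 h _ ((mem_pre g).2 a)).imp fun n e => by
    rw [← map_pow, show g ^ p ^ n = 1 from Subtype.ext e, map_one])

theorem pg' (hT : IsPGroup p T) (h : IsPGroup p A) : IsPGroup p (pre f A) := isPGroup_iff_forall.2 fun g a =>
  ((q.pMod.2 (PMod.of_isPGroup h ⊥)).trans (q.bot.symm ▸ PMod.of_isPGroup hT ⊥) g a).imp fun _ => mem_bot.1

theorem sp (h : Sp p (pre f A) (pre f B)) : Sp p A B :=
  ⟨q.le_iff.1 h.le, q.pg h.pg, Nat.eq_of_mul_eq_mul_right (Nat.card_pos (α := T)) (by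
    rw [← q.card, mul_assoc, ← q.card, h.card])⟩

theorem sp' (hT : IsPGroup p T) (h : Sp p A B) : Sp p (pre f A) (pre f B) :=
  ⟨pre_mono h.le, q.pg' hT h.pg, by rw [q.card, q.card, h.card, mul_assoc]⟩

theorem sr {k : ℕ} (h : SR p k (pre f N)) : SR p k N := fun A B h1 h2 =>
  Nat.le_of_mul_le_mul_right (by
    rw [← q.card, mul_assoc, ← q.card]; exact h _ _ (pre_mono h1) (q.el h2)) (Nat.card_pos (α := T))

theorem cub (hT : IsPGroup p T) (h : Cub p E N A A₂ A₁ B) :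
    Cub p (pre f E) (pre f N) (pre f A) (pre f A₂) (pre f A₁) (pre f B) :=
  ⟨q.sp' hT h.s3, q.sp' hT h.s2, q.sp' hT h.s1, q.le_tv.2 h.t3, q.le_tv.2 h.t2, q.le_tv.2 h.t1, q.ncm h.n3,
    q.ncm h.n2⟩

theorem be (hT : IsPGroup p T) (h : Be p N E₁ E₂ L A₂ A₁ B) :
    Be p (pre f N) (pre f E₁) (pre f E₂) (pre f L) (pre f A₂) (pre f A₁) (pre f B) :=
  ⟨q.cub hT h.cub, q.el h.el, q.irr h.irr, mt q.le_tv.1 h.na, q.pw.2 h.pw⟩

theorem loc (h : Loc p (pre f E) (pre f N) (pre f L)) (hT : IsPGroup p T) (c : PMod p (pre f L) (Ct T)) :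
    Loc p E N L := by
  have e : pre f L ⊓ Ct (pre f E) ≤ pre f (L ⊓ Ct E) := by
    rw [pre_inf]
    exact le_inf inf_le_left ((inf_le_inf_right _ (pre_le L)).trans (q.ct_le E))
  have l : N ⊔ (L ⊓ Ct E) ≤ L := sup_le (q.le_iff.1 h.le) inf_le_left
  refine ⟨q.sp h.sp, q.le_iff.1 h.le, q.le_nm.1 h.nm, ⟨l, ?_⟩, fun K h1 h2 => q.le_iff.1 (h.gen _
    (all_pre.2 fun a b => pre_cj a N ▸ pre_mono (h1 _ b)) (e.trans (pre_mono h2))), fun k => h.nn fun g a => ?_⟩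
  · rw [← q.idx]
    refine (h.syl.mono_left ?_ (pre_mono l)).2
    rw [q.sup]
    exact sup_le_sup_left e _
  · obtain ⟨n, hn⟩ := q.pMod.2 k g a
    rw [← Tv_bot E, q.pre_tv, q.bot] at hn
    obtain ⟨m, hm⟩ := c _ (pow_mem a (p ^ n))
    obtain ⟨j, hj⟩ := pMod_Tv_Ct hT _ ⟨pow_mem hn.2 (p ^ m), hm⟩
    exact ⟨n + m + j, by rwa [pow_add, pow_add, pow_mul, pow_mul]⟩

end QD

theorem le_of_nm [Finite Ω] [Fact p.Prime] {E N L : Subgroup Ω} (h : Loc p E N L) (h1 : T ≤ N) (h2 : L ≤ Nm T) :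
    T ≤ E := by
  by_contra n
  have e : E ⊔ T = N := h.sp.eq_of le_sup_left (sup_le h.sp.le h1) fun k => n (le_sup_right.trans k)
  have m : L ≤ Nm N := fun a b => e ▸ mem_Nm_sup (h.nm b) (h2 b)
  refine h.nn ((pMod_sup (PMod.of_isPGroup h.sp.pg (Ct E)) (h.sp.nm.trans (Nm_le_Nm_Ct E))).mono ?_ le_rfl)
  exact h.gen _ (fun a b => (cj_eq_of_Nm (m b)).le.trans le_sup_left) (inf_le_right.trans le_sup_right)

theorem jobQ : JobQ.{u} := by
  intro red Ω _ _ p _ N 𝓔 L T F c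
  have : (T.subgroupOf (Nm T)).Normal := normal_in_normalizer
  let f := QuotientGroup.mk' (T.subgroupOf (Nm T))
  have q : QD f T := ⟨QuotientGroup.mk'_surjective _, by
    rw [pre, MonoidHom.comap_bot, QuotientGroup.ker_mk', subgroupOf_map_subtype, inf_eq_left.2 (le_Nm T)]⟩
  obtain ⟨E₁, a₁, E₂, a₂, ne⟩ := F.two
  have hT : IsPGroup p T := (F.loc _ a₁).sp.pg.to_le c.le
  have nH : N ≤ Nm T := (F.loc _ a₁).le.trans (c.nm _ a₁)
  obtain ⟨N, rfl⟩ := q.ex c.le nH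
  have eE : ∀ E ∈ 𝓔, ∃ E', pre f E' = E := fun E a =>
    q.ex (le_of_nm (F.loc E a) c.le (c.nm E a)) ((F.loc E a).sp.le.trans nH)
  let L' := fun E' => ((L (pre f E')).subgroupOf (Nm T)).map f
  have eL : ∀ E', pre f E' ∈ 𝓔 → L (pre f E') = pre f (L' E') := fun E' a =>
    (q.pre_bar (c.le.trans (F.loc _ a).le) (c.nm _ a)).symm
  have cT : ∀ E ∈ 𝓔, PMod p (L E) (Ct T) := fun E a => by
    by_cases e : E = E₁
    · exact F.lk E a E₂ a₂ (e ▸ ne) T c.le (c.nm E a) (c.nm _ a₂)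
    · exact F.lk E a E₁ a₁ e T c.le (c.nm E a) (c.nm _ a₁)
  obtain ⟨E₁, rfl⟩ := eE _ a₁
  obtain ⟨E₂, rfl⟩ := eE _ a₂
  refine (red _ p N {E | pre f E ∈ 𝓔} L' ⟨F.odd, q.sr F.sr, fun E a => q.loc (eL E a ▸ F.loc _ a) hT (eL E a ▸ cT _ a),
    ⟨E₁, a₁, E₂, a₂, mt (congrArg _) ne⟩, fun A a B b n U u1 u2 u3 => q.pMod.1 fun g hg => ?_⟩
    ⟨bot_le, fun _ _ _ _ => nm_bot _, fun U u1 u2 => q.le_iff.1 (q.bot.symm ▸ c.max _ (pre_mono u1)
      fun E a => ?_)⟩).imp (fun h => ⟨?_, fun E a => ?_⟩) ?_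
  · exact (F.lk _ a _ b (mt q.inj n) _ (pre_mono u1) (eL A a ▸ q.le_nm.2 u2) (eL B b ▸ q.le_nm.2 u3) g
      (eL A a ▸ hg)).imp fun n e => q.ct_le U ⟨pow_mem (pre_le _ hg) _, e⟩
  · obtain ⟨E, rfl⟩ := eE E a
    exact eL E a ▸ q.le_nm.2 (u2 E a)
  · rw [show pre f N ⊓ Tv (pre f N) T = pre f (N ⊓ Tv N ⊥) by
      rw [pre_inf, q.pre_tv, q.bot, ← inf_assoc, inf_eq_left.2 nH], q.card, q.card, h.1, mul_assoc]
  · obtain ⟨E, rfl⟩ := eE E a
    simpa only [q.bot] using q.el (h.2 E a)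
  · rintro ⟨A, a, B, b, A₂, A₁, h⟩
    exact ⟨_, a, _, b, _, _, by simpa only [q.bot, ← eL B b] using q.be hT h⟩

end H38.F3
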