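import Cfsg.Agent.H74.FRed

/-! FUSMC-A: all terms of the chain are invariant under `Aut F (γ 1)`. -/

set_option autoImplicit false
set_option linter.unusedSectionVars false

namespace H38.Fm
open Cfsg H92 H92.Es H93 H92.P5 Subgroup H74.FT H74.FM Module
open scoped commutatorElement

universe u

/-- the alternating product of two vectors -/
def wd (k : Type) [Field k] (D : ℕ) : (Fin D → k) →ₗ[k] (Fin D → k) →ₗ[k] (Fin D → Fin D → k) :=
  LinearMap.mk₂ k (fun u v i j => u i * v j - v i * u j)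
    (fun _ _ _ => by funext i j; simp only [Pi.add_apply]; ring)
    (fun _ _ _ => by funext i j; simp only [Pi.smul_apply, smul_eq_mul]; ring)
    (fun _ _ _ => by funext i j; simp only [Pi.add_apply]; ring)
    (fun _ _ _ => by funext i j; simp only [Pi.smul_apply, smul_eq_mul]; ring)

theorem wd_self {k : Type} [Field k] {D : ℕ} (u : Fin D → k) : wd k D u u = 0 := by
  funext i j; simp [wd]

theorem wd_eq {k : Type} [Field k] {D : ℕ} {u v : Fin D → k} (hu : u ≠ 0) (h : wd k D u v = 0) :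
    ∃ c : k, v = c • u := by
  obtain ⟨i, hi⟩ := Function.ne_iff.1 hu
  have hi' : u i ≠ 0 := hi
  refine ⟨v i / u i, funext fun j => ?_⟩
  have : u i * v j - v i * u j = 0 := congrFun (congrFun h i) j
  rw [Pi.smul_apply, smul_eq_mul]
  field_simp
  linear_combination this

theorem dg_bil {k Q G M N P : Type*} [Field k] [Fintype Q] [Group G] [AddCommGroup M] [Module k M]
    [AddCommGroup N] [Module k N] [AddCommGroup P] [Module k P] {Γ : Gr k Q} {Y : Subgroup G} {τ : Q → G}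
    {r r' : ℕ} {f : G → M} {f' : G → N} (B : M →ₗ[k] N →ₗ[k] P) (d : Dg Γ Y τ r f) (d' : Dg Γ Y τ r' f') :
    Dg Γ Y τ (r + r') fun g => B (f g) (f' g) := fun u hu g hg => Gr.bil B (d u hu g hg) (d' u hu g hg)

theorem sem_wd {G : Type*} [Group G] {k : Type} [Field k] {D : ℕ} {Y : Subgroup G}
    {ρ : G → End k (Fin D → k)} (R : Rp Y ρ) {h : G} (a : h ∈ Y) {z w : Fin D → k} {b c c' : k}
    (e : ρ h z = c • z) (e' : ρ h w - c' • w = b • z) :
    Sem Y (fun g => wd k D (ρ g z) (ρ g w)) h (c * c') := fun g hg => by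
  simp only [R.app hg a, e, sub_eq_iff_eq_add.1 e', map_add, map_smul, LinearMap.smul_apply, wd_self,
    smul_zero, zero_add, smul_smul, mul_comm]

theorem arith1 {p c ε : ℕ} (hp : p.Prime) (p5 : 5 ≤ p) (hε : ε ≤ 2)
    (h : c + 1 + c ≡ ε * (c + 1) [MOD p - 1]) : c + 1 ≡ 1 [MOD p - 1] := by
  obtain ⟨a, ha⟩ : ∃ a, p - 1 = 2 * a := by
    obtain ⟨a, ha⟩ := hp.odd_of_ne_two (by omega); exact ⟨a, by omega⟩
  interval_cases ε
  · have := (Nat.modEq_zero_iff_dvd.1 (by simpa using h) : p - 1 ∣ c + 1 + c)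
    have := (Dvd.intro a ha.symm).trans this
    omega
  · have : c + 1 + c ≡ c + 1 + 0 [MOD p - 1] := by simpa using h
    exact (Nat.ModEq.add_left_cancel' _ this).add_right 1
  · have : c + 1 + c + 0 ≡ c + 1 + c + 1 [MOD p - 1] := by
      rwa [show 2 * (c + 1) = c + 1 + c + 1 by ring] at h
    have := Nat.le_of_dvd one_pos (Nat.modEq_zero_iff_dvd.1 (Nat.ModEq.add_left_cancel' _ this).symm)
    omega

theorem arith2 {p c ε e : ℕ} (p5 : 5 ≤ p) (hε : ε ≤ 2) (hc : c ≡ 1 [MOD p - 1])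
    (h : e ≡ ε * c [MOD p - 1]) (e3 : 3 ≤ e) (ep : e ≤ p - 1) : e = p - 1 := by
  by_contra r
  have := Nat.ModEq.eq_of_lt_of_lt (h.trans (hc.mul_left ε)) (by omega) (by omega)
  omega

section
variable {Ω : Type u} [Group Ω] [Finite Ω] {S E U : Subgroup Ω} {p n κ m j lo D : ℕ} [hp : Fact p.Prime]
  {F : FusionSystem S} {γ : ℕ → Subgroup Ω} {x : Ω} {π : Ω → Fin D → ZMod p}
  {ρ : Ω → End (ZMod p) (Fin D → ZMod p)} {t : Ω → Ω}
  (P : Pre p n F γ κ E) (q : Qd p n F γ E m (m + 1) U x D π ρ) (q' : Qe p n γ E m (m + 1) U x j lo)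
  (tN : ∀ h, t h ∈ Nm S) (ht : ∀ h, h ∈ XE F E → h⁻¹ * t h ∈ Ct E)
include P q

theorem xS : x ∈ S ⊓ Nm E := ⟨P.mx.le 1 q.x1.1, q.x1.2⟩

theorem xG : x ∈ Aut F E := Nm_le_Aut F E (xS P q)

omit P in
theorem GN : Aut F E ≤ Nm U ⊓ Nm (γ (m + 1)) := le_inf q.u3 q.g1

include tN ht

theorem kerN : ¬ ∀ g ∈ Aut F E, ∀ v, (ρ x - 1) v = 0 → (ρ x - 1) (ρ g v) = 0 := fun e => by
  have xN := GN q (xG P q)
  have k0 : ∀ y ∈ U, (ρ x - 1) (π y) = 0 ↔ ⁅x, y⁆ ∈ γ (m + 1) := fun y hy => by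
    rw [q.sec.sub_app xN hy, q.sec.co.ker _ (q.sec.com_mem xN hy)]
  exact q.g2 (le_Nm_of_tv P.sat P.ess.2.1 le_rfl (xS P q) q.x2 (xG P q)
    (A := q.sec.cm (LinearMap.ker (ρ x - 1)))
    (fun h a b => Nm_of_div_Ct (P.mx.nm _ (tN h)) (div_symm (Ct_anti (q.u1.trans q.u2) (ht h b))))
    (fun g hg => q.sec.nm_cm (GN q hg) (e g hg)) q.g1 (P.mx.succ _)
    (fun y hy => ⟨q.u1 hy, (k0 y (q.u1 hy)).2 (com_symm (P.mx.cS hy (xS P q).1))⟩)
    (tv_of_com xN.2 fun y hy => (k0 y hy.1).1 hy.2))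

include q'

theorem wtV {h : Ω} (a : h ∈ Aut F E) (b : h ∈ XE F E) {k : ℕ} (k1 : 1 ≤ k) (k2 : k ≤ m)
    {v : Fin D → ZMod p} (hv : v ∈ q.sec.sb (γ k)) :
    ρ h v - om p γ 0 (t h) ^ (k + κ) • v ∈ q.sec.sb (γ (k + 1)) := by
  have := q.le
  rw [← P.pw _ (tN h) k k1 (q'.ne.imp (by omega) fun e => ⟨by omega, e⟩)]
  exact q.sec.wt (P.mx.sp (by omega)) (GN q a) (Ct_anti q.u2 (ht h b)) (P.mx.nm _ (tN h))
    (P.mx.nm _ (tN h)) hv

theorem cjN {h : Ω} (a : h ∈ Aut F E) (b : h ∈ XE F E) :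
    ∃ β : ZMod p, ρ h * (ρ x - 1) = β • ((ρ x - 1) * ρ h) := by
  have := q.le
  have := q'.j3
  have := q'.jm
  have xN := GN q (xG P q)
  have sp := P.mx.sp (i := j - 1) (by omega)
  rw [show j - 1 + 1 = j by omega] at sp
  obtain ⟨k, e⟩ := sp.wt (P.mx.nm _ (tN h)) q'.x1 q'.x2
  have e' : (x ^ (k : ZMod p).val)⁻¹ * (t h * x * (t h)⁻¹) ∈ γ j := by
    have := e.of_eq (l := (k : ZMod p).val) (sp.pow q'.x1) (by simp)
    rwa [W, zpow_natCast] at this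
  have tU : t h ∈ Nm U ⊓ Nm (γ (m + 1)) :=
    ⟨Nm_of_div_Ct (q.u3 a) (Ct_anti q.u2 (ht h b)), P.mx.nm _ (tN h)⟩
  have e1 := q.sec.congr (pow_mem xN _) (q.u4 (q'.jE e'))
  have e2 : ρ (t h) = ρ h := q.sec.congr (GN q a)
    (mem_Tv_of_Ct (Ct_anti q.u2 (ht h b)) (mul_mem (inv_mem (q.g1 a)) tU.2))
  obtain ⟨Q, e3⟩ := one_add_pow (ρ x - 1) (k : ZMod p).val
  rw [sub_add_cancel, q.sq, zero_mul, add_zero] at e3
  have e4 := q.sec.rp.mul _ (mul_mem (mul_mem tU xN) (inv_mem tU)) _ tU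
  rw [inv_mul_cancel_right, q.sec.rp.mul _ tU _ xN, e1, q.sec.rp.pow xN, e3, e2] at e4
  exact ⟨_, by rw [mul_sub, e4, add_mul, one_mul, mul_one, add_sub_cancel_left, smul_mul_assoc]⟩

theorem wtN : ∃ e, 3 ≤ e ∧ e ≤ p - 1 ∧ ∀ h ∈ Aut F E, h ∈ XE F E →
    ρ h * (ρ x - 1) = om p γ 0 (t h) ^ e • ((ρ x - 1) * ρ h) := by
  classical
  have mn := q.le
  have j3 := q'.j3
  have jm := q'.jm
  have lo1 := q'.lo1
  have lo3 := q'.lo3
  have mx := P.mx
  have xN := GN q (xG P q)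
  have bot : q.sec.sb (γ (m + 1)) ≤ LinearMap.ker (ρ x - 1) := (q.sec.sb_bot inf_le_right).le.trans bot_le
  have ex : ∃ i, q.sec.sb (γ i) ≤ LinearMap.ker (ρ x - 1) := ⟨_, bot⟩
  have i1 := Nat.find_spec ex
  have i2 : Nat.find ex ≤ m + 1 := Nat.find_min' ex bot
  have i3 : lo < Nat.find ex := by
    by_contra r
    exact kerN P q tN ht fun g _ v _ => ((q.sec.sb_top q'.lo2).ge.trans
      ((q.sec.sb_mono (mx.anti (not_lt.1 r))).trans i1)) Submodule.mem_top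
  have i4 := Nat.find_min ex (m := Nat.find ex - 1) (by omega)
  obtain ⟨k, hk⟩ : ∃ k, Nat.find ex = k + 1 := ⟨Nat.find ex - 1, by omega⟩
  rw [hk] at i1 i2 i3 i4
  obtain ⟨_, ⟨y, yU, yk, rfl⟩, ny⟩ := SetLike.not_le_iff_exists.1 i4
  rw [Nat.add_sub_cancel] at yk
  have cU := q.sec.com_mem xN yU
  have eN := q.sec.sub_app xN yU
  have nc : ⁅x, y⁆ ∉ γ (m + 1) := fun r => ny (by rw [LinearMap.mem_ker, eN, q.sec.co.ker _ cU]; exact r)
  obtain ⟨k', -, c1, c2⟩ := mx.level (P.ess.1.1 (q.u2 cU)) fun r => nc (r ▸ one_mem _)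
  have b1 : k' ≤ m := by
    by_contra r
    exact nc (mx.anti (by omega) c1)
  have b2 : j - 1 + k + 1 ≤ k' := by
    by_contra r
    have cm := commutator_mem_commutator q'.x1 yk
    refine c2 (mx.anti (show k' + 1 ≤ j - 1 + k + 1 by omega) ?_)
    rcases q'.ne with e | e
    · by_cases f : j - 1 + k + 2 ≤ n
      · exact mx.ne (by omega) (by omega) f cm
      · exact (nc (mx.anti (by omega) (mx.com (by omega) (by omega) cm))).elim
    · exact mx.ne_of e (by omega) (by omega) cm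
  refine ⟨k' - k, by omega, by omega, fun h a b => ?_⟩
  obtain ⟨β, e⟩ := cjN P q q' tN ht a b
  have e1 := i1 (wtV P q q' tN ht a b (by omega) (by omega) (q.sec.mk_mem yU yk))
  have e2 := wtV P q q' tN ht a b (by omega) b1 (q.sec.mk_mem cU c1)
  rw [LinearMap.mem_ker, map_sub, map_smul, sub_eq_zero] at e1
  have e3 := LinearMap.congr_fun e (π y)
  rw [End.mul_apply, LinearMap.smul_apply, End.mul_apply, e1, eN, smul_smul] at e3
  rw [e3, ← sub_smul] at e2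
  have e4 : β * om p γ 0 (t h) ^ (k + κ) = om p γ 0 (t h) ^ (k' - k) * om p γ 0 (t h) ^ (k + κ) := by
    rw [← pow_add, show k' - k + (k + κ) = k' + κ by omega, ← sub_eq_zero]
    by_contra r
    exact c2 ((q.sec.mem_sb' (mx.anti (by omega)) cU).1 ((Submodule.smul_mem_iff _ r).1 e2))
  rw [e, mul_right_cancel₀ (pow_ne_zero _ (mx.om_ne (tN h) (by omega))) e4]

theorem final : False := by
  have mn := q.le
  have j3 := q'.j3
  have jm := q'.jm
  have mx := P.mx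
  have p5 := P.p5
  have s := seA1 P.sat P.ess.2.1 (xS P q) q.x2 q.x3
  have R := q.sec.rp.mono (GN q)
  have d : RD (g1 p) (t1 p x) ρ 1 := R.rd_nil (xG P q) q.sq
  have a0 : ∀ h ∈ Aut F E, h ∈ XE F E → om p γ 0 (t h) ≠ 0 := fun h _ _ => mx.om_ne (tN h) (by omega)
  obtain ⟨z, z1, z2⟩ := mx.ex (i := m) (by omega)
  have zU := q.u1 z1
  have z0 : π z ≠ 0 := fun e => z2 ((q.sec.co.ker z zU).1 e)
  have zs : ∀ v ∈ q.sec.sb (γ m), ∃ b : ZMod p, v = b • π z := by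
    rintro _ ⟨y, a, b, rfl⟩
    obtain ⟨k, e⟩ := (mx.sp (i := m) (by omega)).dec z1 z2 b
    exact ⟨k, by rw [q.sec.zsmul k zU, (q.sec.co.eq_iff (zpow_mem zU k) a).2 e]⟩
  have wz : ∀ h ∈ Aut F E, h ∈ XE F E → ρ h (π z) = om p γ 0 (t h) ^ (m + κ) • π z := fun h a b => by
    have := wtV P q q' tN ht a b (by omega) le_rfl (q.sec.mk_mem zU z1)
    rwa [q.sec.sb_bot inf_le_right, Submodule.mem_bot, sub_eq_zero] at this
  obtain ⟨g, hg, n1⟩ : ∃ g ∈ Aut F E, ρ g (π z) ∉ Submodule.span (ZMod p) {ρ 1 (π z)} := by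
    by_contra r
    push Not at r
    refine q.g2 fun g hg => q.sec.nm_of (mx.succ _) q.u1 (GN q hg) fun v hv => ?_
    obtain ⟨b, rfl⟩ := zs v hv
    obtain ⟨a, e⟩ := Submodule.mem_span_singleton.1 (r g hg)
    rw [map_smul, ← e, R.one]
    exact Submodule.smul_mem _ _ (Submodule.smul_mem _ _ (q.sec.mk_mem zU z1))
  have d1 := R.dg_vec s.mem d (π z)
  have s1 : ∀ h ∈ Aut F E, h ∈ XE F E → Sem (Aut F E) (fun g => ρ g (π z)) h
    (om p γ 0 (t h) ^ (m + κ)) := fun h a b => R.sem_vec a (wz h a b)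
  obtain ⟨w, w1, w2⟩ := mx.ex (i := m - 1) (by omega)
  rw [show m - 1 + 1 = m by omega] at w2
  have wU : w ∈ U := q'.u2 w1
  have d2 : Dg (g1 p) (Aut F E) (t1 p x) (1 + 1) fun g => wd (ZMod p) D (ρ g (π z)) (ρ g (π w)) :=
    dg_bil (wd (ZMod p) D) d1 (R.dg_vec s.mem d (π w))
  have n2 : ∀ g ∈ Aut F E, wd (ZMod p) D (ρ g (π z)) (ρ g (π w)) ≠ 0 := fun g hg e => by
    obtain ⟨b, e⟩ := wd_eq (R.ne hg z0) e
    rw [← map_smul] at e
    have e' := R.inj hg e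
    exact w2 ((q.sec.mem_sb' (mx.succ _) wU).1
      (by rw [e']; exact Submodule.smul_mem _ _ (q.sec.mk_mem zU z1)))
  have s2 : ∀ h ∈ Aut F E, h ∈ XE F E → Sem (Aut F E) (fun g => wd (ZMod p) D (ρ g (π z)) (ρ g (π w))) h
      (om p γ 0 (t h) ^ (m + κ + (m - 1 + κ))) := fun h a b => by
    have := wtV P q q' tN ht a b (k := m - 1) (by omega) (by omega) (q.sec.mk_mem wU w1)
    rw [show m - 1 + 1 = m by omega] at this
    obtain ⟨b', e⟩ := zs _ this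
    rw [pow_add]
    exact sem_wd R a (wz h a b) e
  obtain ⟨ε, hε, e1⟩ := s.rel le_rfl d1 hg n1 a0 s1 (by omega) d2 n2 s2
  rw [show m + κ = m - 1 + κ + 1 by omega] at e1
  have c1 := arith1 hp.out p5 hε e1
  rw [show m - 1 + κ + 1 = m + κ by omega] at c1
  obtain ⟨e, e3, ep, we⟩ := wtN P q q' tN ht
  have d3 := R.dg_end s.mem d (ρ x - 1)
  have N0 : ρ x - 1 ≠ 0 := fun e => kerN P q tN ht fun g _ v _ => by rw [e]; rfl
  have s3 : ∀ h ∈ Aut F E, h ∈ XE F E → Sem (Aut F E) (fun g => ρ g * (ρ x - 1) * ρ g⁻¹) h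
    (om p γ 0 (t h) ^ e) := fun h a b => R.sem_end a (we h a b)
  have n3 : ∀ g ∈ Aut F E, ρ g * (ρ x - 1) * ρ g⁻¹ ≠ 0 := fun g hg => R.conj_ne hg N0
  obtain ⟨ε', hε', e2⟩ := s.rel le_rfl d1 hg n1 a0 s1 (by omega) d3 n3 s3
  have e4 := arith2 p5 hε' c1 e2 e3 ep
  have s4 : ∀ h ∈ Aut F E, h ∈ XE F E → ∃ c : ZMod p, c ^ 1 = 1 ∧
      Sem (Aut F E) (fun g => ρ g * (ρ x - 1) * ρ g⁻¹) h c := fun h a b =>
    ⟨_, by rw [pow_one, e4]; exact pow_eq_one_of_dvd (a0 h a b) dvd_rfl, s3 h a b⟩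
  have lt : 1 * (1 + 1) < (g1 p).b := show 1 * (1 + 1) < p - 1 by omega
  refine kerN P q tN ht fun g hg => (R.end_inv hg ?_).2
  have := s.line1 d3 le_rfl lt s4 hg
  exact this

end

theorem jobA : JobA.{u} := by
  intro Ω _ _ S p n hp F γ c κ E P inv m' m U x D π ρ j lo q q'
  obtain rfl : m = m' + 1 := by
    by_contra r
    have := q.con.lt
    exact q.con.no (m' + 1) (by omega) (by omega) (inv _ (by omega))
  have ext : ∀ h, ∃ t ∈ Aut F S, h ∈ XE F E → h⁻¹ * t ∈ Ct E := fun h => by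
    by_cases hh : h ∈ XE F E
    · obtain ⟨t0, a, b⟩ := P.ext h hh
      obtain ⟨t, a', b'⟩ := (jobRed p n F γ c).1 t0 a fun k hk => inv k hk a
      exact ⟨t, a', fun _ => div_trans b (Ct_anti P.lt.le b')⟩
    · exact ⟨1, one_mem _, fun r => (hh r).elim⟩
  choose t tS ht using ext
  exact final P q q' (fun h => Aut_le_Nm F S (tS h)) ht

end H38.Fm
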