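import Cfsg.Agent.H74.FRed

/-! FUSMC-SET: construction of the quadratic element. -/

set_option autoImplicit false
set_option linter.unusedSectionVars false

namespace H38.Fm
open Cfsg H92 H92.Es H93 H92.P5 Subgroup H74.FT H74.FM Module
open scoped commutatorElement

universe u

variable {Ω : Type u} [Group Ω] [Finite Ω] {S A B C E U Y : Subgroup Ω} {p n κ m m' j k b D d : ℕ}
  {γ : ℕ → Subgroup Ω} {g x y z : Ω}

theorem mul_pow_mem (hy : y ∈ Nm B) (hz : z ∈ Nm B) (c : ⁅y, z⁆ ∈ B) (h1 : y ^ p ∈ B) (h2 : z ^ p ∈ B) :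
    (y * z) ^ p ∈ B := by
  let f := QuotientGroup.mk' (B.subgroupOf (Nm B))
  have k : ∀ w : Nm B, f w = 1 ↔ (w : Ω) ∈ B := fun w => QuotientGroup.eq_one_iff w
  have e : Commute (f ⟨y, hy⟩) (f ⟨z, hz⟩) := by
    rw [← commutatorElement_eq_one_iff_commute, ← map_commutatorElement, k]; exact c
  refine (k ((⟨y, hy⟩ * ⟨z, hz⟩) ^ p)).1 ?_
  rw [map_pow, map_mul, e.mul_pow, ← map_pow, ← map_pow, (k _).2 h1, (k _).2 h2, mul_one]

/-- the elements of `A` which are central of order `p` modulo `B` -/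
def Om (p : ℕ) (A B : Subgroup Ω) : Subgroup Ω where
  carrier := {y | y ∈ A ∧ y ∈ Tv A B ∧ y ^ p ∈ B}
  one_mem' := ⟨one_mem _, one_mem _, by rw [one_pow]; exact one_mem _⟩
  mul_mem' := fun hy hz => ⟨mul_mem hy.1 hz.1, mul_mem hy.2.1 hz.2.1,
    mul_pow_mem hy.2.1.1 hz.2.1.1 (com_of_tv hy.2.1 hz.1) hy.2.2 hz.2.2⟩
  inv_mem' := fun hy => ⟨inv_mem hy.1, inv_mem hy.2.1, by rw [inv_pow]; exact inv_mem hy.2.2⟩

theorem nm_Om (h1 : g ∈ Nm A) (h2 : g ∈ Nm B) : g ∈ Nm (Om p A B) := mem_Nm_of_conj fun _ hy =>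
  ⟨conj_mem_of_Nm h1 hy.1, conj_mem_Tv_of_Nm h1 h2 hy.2.1, by
    rw [conj_pow]; exact conj_mem_of_Nm h2 hy.2.2⟩

theorem le_Om (h1 : B ≤ A) (h2 : A ≤ Nm B) : B ≤ Om p A B := fun _ hy =>
  ⟨h1 hy, le_Tv_of_le_Nm h2 hy, pow_mem hy _⟩

theorem com_Om : ⁅Om p A B, Om p A B⁆ ≤ B :=
  commutator_le.2 fun _ hy _ hz => com_of_tv hy.2.1 hz.1

theorem ex_con {a : ℕ} (h1 : Y ≤ Nm (γ a)) (h2 : Y ≤ Nm (γ b)) (l : a < b) :
    ∃ c, a ≤ c ∧ Con γ Y c b := by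
  classical
  have e := Nat.findGreatest_le (P := fun c => Y ≤ Nm (γ c)) (b - 1)
  exact ⟨_, Nat.le_findGreatest (P := fun c => Y ≤ Nm (γ c)) (n := b - 1) (by omega) h1, by omega,
    Nat.findGreatest_spec (P := fun c => Y ≤ Nm (γ c)) (n := b - 1) (m := a) (by omega) h1, h2,
    fun c c1 c2 => Nat.findGreatest_is_greatest c1 (by omega)⟩

variable [hp : Fact p.Prime] {F : FusionSystem S} {π : Ω → Fin D → ZMod p}
  {ρ : Ω → End (ZMod p) (Fin D → ZMod p)}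

theorem rank_le (h : Sec p A B π ρ) {W : Submodule (ZMod p) (Fin D → ZMod p)} (l : B ≤ C)
    (e : B.relIndex C = p ^ d) (hW : W ≤ h.sb C) : finrank (ZMod p) W ≤ d := by
  have h1 : W ≤ h.sb (A ⊓ C) := fun v hv => let ⟨y, a, b, c⟩ := hW hv; ⟨y, a, ⟨a, b⟩, c⟩
  have h2 : Nat.card W ≤ Nat.card (h.sb (A ⊓ C)) :=
    Nat.card_le_card_of_injective _ (Submodule.inclusion_injective h1)
  rw [h.card_sb (le_inf h.le l) inf_le_left, Module.natCard_eq_pow_finrank (K := ZMod p),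
    Nat.card_zmod] at h2
  have h3 := h2.trans (relIndex_le_of_le_right (H := B) inf_le_right
    (e ▸ pow_ne_zero _ hp.out.ne_zero))
  rwa [e, Nat.pow_le_pow_iff_right hp.out.one_lt] at h3

theorem sq_zero (h : Sec p A B π ρ) (hx : x ∈ Nm A ⊓ Nm B) (h1 : ∀ y ∈ A, ⁅x, y⁆ ∈ C)
    (h2 : ∀ y ∈ C, ⁅x, y⁆ ∈ B) : (ρ x - 1) ^ 2 = 0 := h.co.lin_ext fun y hy => by
  have := h2 _ (h1 y hy)
  rw [sq, End.mul_apply, h.sub_app hx hy, h.sub_app hx (h.com_mem hx hy), (h.co.ker _ (h.le this)).2 this]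
  rfl

theorem two_rank {N : End (ZMod p) (Fin D → ZMod p)} (h : N ^ 2 = 0) :
    2 * finrank (ZMod p) (LinearMap.range N) ≤ D := by
  have h1 := N.finrank_range_add_finrank_ker
  have h2 : finrank (ZMod p) (LinearMap.range N) ≤ finrank (ZMod p) (LinearMap.ker N) :=
    Submodule.finrank_mono (LinearMap.range_le_ker_iff.2 (by rwa [sq] at h))
  rw [finrank_fin_fun] at h1
  omega

section
variable (mx : MX p n S γ)
include mx

theorem SA : S ≤ Aut F (γ 1) := fun _ hs => Nm_le_Aut F _ ⟨hs, mx.nmS 1 hs⟩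

theorem nm_top (h : n ≤ k) : Y ≤ Nm (γ k) := by rw [mx.bot h]; exact fun g _ => nm_bot g

theorem tvP (ha : 1 ≤ k) (hb : b ≤ n) (c : Con γ (Aut F (γ 1)) k b) : γ 1 ≤ Tv (γ k) (γ b) :=
  mx.tv_of_con (SA mx) (Aut_le_Nm F _) (mx.le 1) ha hb c

theorem ex_nx : ∃ ν : ℕ → ℕ, (∀ k, k ≤ ν k ∧ Y ≤ Nm (γ (ν k))) ∧
    ∀ k i, k ≤ i → Y ≤ Nm (γ i) → ν k ≤ i := by
  classical
  have ex : ∀ k, ∃ i, k ≤ i ∧ Y ≤ Nm (γ i) := fun k =>
    ⟨max k n, le_max_left _ _, nm_top mx (le_max_right _ _)⟩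
  exact ⟨fun k => Nat.find (ex k), fun k => Nat.find_spec (ex k), fun k i a b => Nat.find_min' _ ⟨a, b⟩⟩

theorem memE (hF : SatA p F) (hE : F.IsEssential p E) (h1 : 1 ≤ m) (h2 : Aut F (γ 1) ≤ Nm (γ m))
    (h3 : γ m ≤ E) (h4 : ∀ k, m ≤ k → Aut F (γ 1) ≤ Nm (γ k) → Aut F E ≤ Nm (γ k)) (hy : y ∈ γ 1)
    (ht : y ∈ Tv E (γ m)) : y ∈ E := by
  obtain ⟨ν, n1, n2⟩ := ex_nx mx (Y := Aut F (γ 1))
  have e0 : ν m = m := le_antisymm (n2 m m le_rfl h2) (n1 m).1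
  refine H70.FM.mem_chain hF hE (fun i => γ (ν (m + i))) (N := n) (fun i => ?_)
    (mx.bot ((Nat.le_add_left n m).trans (n1 _).1)) ⟨mx.le 1 hy, Nm_of_Tv ht h3 le_rfl⟩
    (by rwa [add_zero, e0]) fun i => ?_
  · have := (Nat.le_add_right m i).trans (n1 _).1
    exact ⟨(mx.anti this).trans h3, h4 _ this (n1 _).2⟩
  have a1 := n1 (m + i)
  have a2 := n1 (m + (i + 1))
  by_cases c : ν (m + i) = m + i
  · by_cases c' : n ≤ m + i
    · rw [c, mx.bot c']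
      exact tv_of_com (mx.nmS _ (mx.le 1 hy)) fun x hx => by rw [mem_bot.1 hx]; simp
    · refine tvP mx (by omega) (n2 _ n (by omega) (nm_top mx le_rfl)) ⟨by omega, a1.2, a2.2,
        fun k k1 k2 r => ?_⟩ hy
      have := n2 (m + (i + 1)) k (by omega) r
      omega
  · rw [show ν (m + (i + 1)) = ν (m + i) from
      le_antisymm (n2 _ _ (by omega) a1.2) (n2 _ _ (by omega) a2.2)]
    exact mem_Tv_self (mx.nmS _ (mx.le 1 hy))

theorem bound (hU : U ≤ E) (lt : E < γ 1) (hm : m ≤ n) (l : γ m ≤ U) (pw : ∀ y ∈ U, y ^ p ∈ γ m)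
    (e : (γ m).relIndex U = p ^ D) : ∃ lo, 1 ≤ lo ∧ U ≤ γ lo ∧ m ≤ lo + p ∧ D ≤ p - 1 ∧
      (D = p - 1 → U = γ lo ∨ (U = E ∧ Nat.card E = p ^ (n - 2))) := by
  have cU : Nat.card U = p ^ (D + (n - m)) := by
    rw [← H9.relIndex_mul_card_le l, e, mx.card, pow_add]
  by_cases c : m ≤ p + 1
  · obtain ⟨i, hi⟩ := card_pow mx.pg (lt.le.trans (mx.le 1))
    have h1 := pow_le_of_le hU cU hi
    have h2 := pow_lt_of_lt lt hi (mx.card 1)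
    refine ⟨1, le_rfl, hU.trans lt.le, by omega, by omega, fun r => Or.inr ⟨eq_of_le_of_card_ge hU ?_, ?_⟩⟩
    · rw [cU, hi, show i = D + (n - m) by omega]
    · rw [hi, show i = n - 2 by omega]
  have h0 : U ≤ γ (m + 1 - p) := by
    by_contra r
    obtain ⟨i, i1, i2, i3, i4⟩ := mx.levelK (hU.trans lt.le) r
    obtain ⟨y, a, b⟩ := SetLike.not_le_iff_exists.1 i4
    exact (mx.pow1 (by omega) i1 (i3 a)).2 b (by omega) (mx.anti (by omega) (pw y a))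
  have h1 := pow_le_of_le h0 cU (mx.card _)
  have := hp.out.two_le
  refine ⟨_, by omega, h0, by omega, by omega, fun r => Or.inl (eq_of_le_of_card_ge h0 ?_)⟩
  rw [cU, mx.card, show n - (m + 1 - p) = D + (n - m) by omega]

theorem caseI (p5 : 5 ≤ p) (j3 : 3 ≤ j) (hm : m ≤ n) (jm : j ≤ m) : ∃ x ∈ γ (j - 1), x ∉ γ j ∧
    ∃ b ≤ m, 2 * (m - b) < p - 1 ∧ (∀ y ∈ Om p (γ j) (γ m), ⁅x, y⁆ ∈ γ b) ∧
      ∀ y ∈ γ b, ⁅x, y⁆ ∈ γ m := by
  have hj : Om p (γ j) (γ m) ≤ γ j := fun _ hy => hy.1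
  have hm' : γ m ≤ Om p (γ j) (γ m) := le_Om (mx.anti jm) ((mx.le j).trans (mx.nmS m))
  obtain ⟨k, -, k2, e⟩ := mx.eq_of_normal (K := Om p (γ j) (γ m))
    (fun s hs => nm_Om (mx.nmS _ hs) (mx.nmS _ hs)) (hj.trans (mx.anti (by omega)))
  have km : k ≤ m := by
    by_contra r
    exact mx.nle (i := m) (j := k) (by omega) (by omega) (e ▸ hm')
  have jk : j ≤ k := by
    by_contra r
    exact mx.nle (i := k) (j := j) (by omega) (by omega) (e ▸ hj)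
  obtain ⟨L, rfl⟩ := Nat.exists_eq_add_of_le km
  have pw : ∀ y ∈ γ k, y ^ p ∈ γ (k + L) := fun y hy => (e.ge hy).2.2
  have hL : L ≤ p - 1 := by
    by_contra r
    obtain ⟨y, a, b⟩ := mx.ex (i := k) (by omega)
    exact (mx.pow2 (by omega) a).2 b (by omega) (mx.anti (by omega) (pw y a))
  obtain ⟨d, π, ρ, h, -⟩ := exists_sec (p := p) (mx.anti km) (e ▸ com_Om) pw
  obtain ⟨s, s1, s2, s3⟩ := mx.exists_unif
  have u := Sec.uni mx h hm s1 fun i a b w c d => mx.unif' s1 s2 s3 (by omega) (by omega) c d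
  obtain ⟨η, η1, η2⟩ := mx.ex (i := j - 2) (by omega)
  have x1 : ⁅s⁻¹, η⁆ ∈ γ (j - 1) := by
    have := com_symm (mx.cS η1 (inv_mem s1))
    rwa [show j - 2 + 1 = j - 1 by omega] at this
  have x2 : ⁅s⁻¹, η⁆ ∉ γ j := fun r => mx.unif' (inv_mem s1) (mt inv_mem_iff.1 s2) (mt inv_mem_iff.1 s3)
    (by omega) (by omega) η1 η2 (by rw [show j - 2 + 2 = j by omega]; exact com_symm r)
  have ex : η * s = s * ⁅s⁻¹, η⁆ * η := by rw [commutatorElement_def]; group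
  generalize ⁅s⁻¹, η⁆ = x at x1 x2 ex
  have xS := mx.le _ x1
  have SN : S ≤ Nm (γ k) ⊓ Nm (γ (k + L)) := le_inf (mx.nmS _) (mx.nmS _)
  have R := h.rp.mono SN
  have cm : ∀ a ∈ S, Commute (ρ a) (ρ x - 1) := fun a ha => by
    refine Commute.sub_right ?_ (Commute.one_right _)
    have := mx.cS (inv_mem x1) (inv_mem ha)
    rw [show j - 1 + 1 = j by omega] at this
    have := tv_symm ((mx.le j).trans (mx.nmS _)) (show γ k ≤ Tv (γ j) (γ (k + L)) from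
      fun y hy => (e.ge hy).2.1) this
    rw [commute_iff_eq, ← R.mul a ha x xS, ← R.mul x xS a ha, eq_comm]
    exact h.congr (SN (mul_mem ha xS)) (by convert this using 1; rw [commutatorElement_def]; group)
  have ηS := mx.le _ η1
  obtain ⟨μ, μ1, μ2⟩ := u.heis hp.out (by omega) (R.isUnit ηS)
    ((cm s s1).sub_left (Commute.one_left _))
    (h.sh (V := fun i => γ (k + i)) (SN xS) fun _ _ _ c => Or.inl (com_symm (mx.cS c xS)))
    (by rw [sub_add_cancel, sub_add_cancel, ← R.mul _ ηS _ s1, ← R.mul _ s1 _ xS,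
      ← R.mul _ (mul_mem s1 xS) _ ηS, ex]) (cm η ηS)
  have key : ∀ i, ∀ y ∈ γ (k + i), ⁅x, y⁆ ∈ γ (k + min (i + μ) L) := fun i y hy => by
    have a := mx.anti (Nat.le_add_right k i) hy
    have := μ2 i _ (h.mk_mem a hy)
    rw [h.sub_app (SN xS) a] at this
    exact (h.mem_sb' (mx.anti (by omega)) (h.com_mem (SN xS) a)).1
      (h.sb_mono (mx.anti (show k + min (i + μ) L ≤ k + (i + μ) by omega)) this)
  refine ⟨x, x1, x2, k + min (0 + μ) L, by omega, by omega, fun y hy => key 0 y (e.le hy),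
    fun y hy => mx.anti (by omega) (key _ y hy)⟩

theorem caseII (j3 : 3 ≤ j) (lt : E < γ 1) (jE : γ j ≤ E) (jn : j ≤ n) (hm : Aut F (γ 1) ≤ Nm (γ m))
    (i1 : Aut F (γ 1) ≤ Nm (γ m')) (hU : ¬ Om p E (γ m) ≤ γ j) (hx : x ∈ γ (j - 1)) :
    ∃ b, (∀ y ∈ γ 1, ⁅x, y⁆ ∈ γ b) ∧ ∀ y ∈ γ b, ⁅x, y⁆ ∈ γ m := by
  obtain ⟨ν, n1, n2⟩ := ex_nx mx (Y := Aut F (γ 1))
  obtain ⟨a1, a2⟩ := n1 j
  obtain ⟨i, i2, c⟩ := ex_con (Aut_le_Nm F (γ 1)) a2 (by omega)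
  have ij : i < j := by
    by_contra r
    have := n2 j i (by omega) c.n1
    have := c.lt
    omega
  obtain ⟨r, -, -, e⟩ := mx.eq_of_normal (K := γ 1 ⊓ Tv (γ (ν j)) (γ m))
    (fun s hs => mem_Nm_inf (mx.nmS _ hs) (mem_Nm_Tv (mx.nmS _ hs) (mx.nmS _ hs))) inf_le_left
  have rj : r < j := by
    by_contra r'
    exact hU fun y hy => mx.anti (not_lt.1 r')
      (e.le ⟨lt.le hy.1, Tv_anti ((mx.anti a1).trans jE) _ hy.2.1⟩)
  exact ⟨ν j, fun y hy => com_symm (com_of_tv (tvP mx i2 (n2 j n jn (nm_top mx le_rfl)) c hy)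
    (mx.anti (by omega) hx)), fun y hy => com_of_tv (e.ge (mx.anti (by omega) hx)).2 hy⟩

theorem rank_one (n5 : 5 ≤ n) (lt : E < γ 1) (h2 : ¬ γ 2 ≤ E) (hc : Nat.card E = p ^ (n - 2))
    (h : Sec p E (γ m) π ρ) (t : E ≤ Tv E (γ m)) (hx : x ∈ γ 1) :
    finrank (ZMod p) (LinearMap.range (ρ x - 1)) ≤ 1 := by
  have sp : Sp p (γ 1) E := sp_of mx.pg (mx.le 1) lt.le
    (by rw [mx.card, show n - 1 = n - 2 + 1 by omega]) hc
  obtain ⟨s, hs, ns⟩ : ∃ s ∈ S, s ∉ Nm E := SetLike.not_le_iff_exists.1 fun r => by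
    obtain ⟨i, -, i2, rfl⟩ := mx.eq_of_normal r lt.le
    rw [mx.card] at hc
    have := Nat.pow_right_injective hp.out.two_le hc
    exact h2 (mx.anti (by omega))
  have sp' : Sp p (γ 1) (cj s E) := cj_eq_of_Nm (mx.nmS 1 hs) ▸ sp.cj s
  obtain ⟨y0, a0, b0⟩ := SetLike.not_le_iff_exists.1 (mt mem_Nm_of_le ns)
  obtain ⟨y1, a1, b1⟩ : ∃ y ∈ E, y ∉ cj s E := SetLike.not_le_iff_exists.1 fun r =>
    ns (inv_mem_iff.1 (mem_Nm_of_le (le_cj_iff_cj_le.1 r)))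
  have T : γ 1 ≤ Tv (E ⊓ cj s E) (γ m) := by
    rw [sp.sup (sp'.le a0) b0]
    refine sup_le (t.trans (Tv_anti inf_le_left _)) (zpowers_le.2 (Tv_anti inf_le_right _ ?_))
    have := cj_mono s t a0
    rwa [cj_Tv, cj_eq_of_Nm (mx.nmS m hs)] at this
  have xN : x ∈ Nm E ⊓ Nm (γ m) := ⟨sp.nm hx, mx.nmS m (mx.le 1 hx)⟩
  refine finrank_le_one ⟨_, LinearMap.mem_range_self _ (π y1)⟩ ?_
  rintro ⟨_, v, rfl⟩
  obtain ⟨y, hy, rfl⟩ := h.co.surj v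
  obtain ⟨k, e⟩ := sp'.dec (lt.le a1) b1 (lt.le hy)
  have m1 := zpow_mem a1 k
  have m2 := mul_mem (inv_mem m1) hy
  have := com_of_tv (T hx) ⟨m2, e⟩
  refine ⟨k, Subtype.ext ?_⟩
  change (k : ZMod p) • (ρ x - 1) (π y1) = (ρ x - 1) (π y)
  rw [← map_smul, h.zsmul k a1, ← mul_inv_cancel_left (y1 ^ k) y, h.co.add _ m1 _ m2, map_add,
    h.sub_app xN m2, (h.co.ker _ (h.le this)).2 this, add_zero]

end

theorem base (P : Pre p n F γ κ E) (h2 : ¬ γ 2 ≤ E)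
    (z : γ 1 ≤ Ct (γ (n - 2)) ∨ Aut F E ≤ Nm (γ (n - 1))) : ∃ m' m, 3 ≤ m' ∧ m ≤ n ∧
      Con γ (Aut F (γ 1)) m' m ∧ Aut F E ≤ Nm (γ m) ∧ ¬ Aut F E ≤ Nm (γ m') ∧ γ m' ≤ Om p E (γ m) ∧
      γ (m - 2) ≤ Om p E (γ m) ∧ (m + 1 ≤ n ∨ γ 1 ≤ Ct (γ (n - 2))) := by
  classical
  have mx := P.mx
  have n5 := P.n5
  have p5 := P.p5
  have ex : ∃ m, 1 ≤ m ∧ Aut F (γ 1) ≤ Nm (γ m) ∧ γ m ≤ E ∧
      ∀ k, m ≤ k → Aut F (γ 1) ≤ Nm (γ k) → Aut F E ≤ Nm (γ k) :=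
    ⟨n, by omega, nm_top mx le_rfl, (mx.bot le_rfl).le.trans bot_le, fun k a _ => nm_top mx a⟩
  obtain ⟨m, ⟨a1, a2, a3, a4⟩, mn⟩ : ∃ m, (1 ≤ m ∧ Aut F (γ 1) ≤ Nm (γ m) ∧ γ m ≤ E ∧
      ∀ k, m ≤ k → Aut F (γ 1) ≤ Nm (γ k) → Aut F E ≤ Nm (γ k)) ∧ ∀ m', 1 ≤ m' →
      Aut F (γ 1) ≤ Nm (γ m') → γ m' ≤ E →
      (∀ k, m' ≤ k → Aut F (γ 1) ≤ Nm (γ k) → Aut F E ≤ Nm (γ k)) → m ≤ m' :=
    ⟨_, Nat.find_spec ex, fun m' a b c d => Nat.find_min' ex ⟨a, b, c, d⟩⟩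
  have hn : m ≤ n :=
    mn n (by omega) (nm_top mx le_rfl) ((mx.bot le_rfl).le.trans bot_le) fun k a _ => nm_top mx a
  have ne : m + 1 ≤ n ∨ γ 1 ≤ Ct (γ (n - 2)) := by
    refine or_iff_not_imp_right.2 fun e => ?_
    have := mn (n - 1) (by omega) ((Aut_le_Nm F _).trans (mx.nm_Z e)) (H70.FM.Z_le P.sat mx P.ess)
      fun k a _ => by
        rcases a.eq_or_lt with rfl | a
        exacts [z.resolve_left e, nm_top mx (by omega)]
    omega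
  have m1 : 1 < m := lt_of_le_of_ne a1 (by rintro rfl; exact P.lt.not_ge a3)
  obtain ⟨m', b1, c⟩ := ex_con (Aut_le_Nm F (γ 1)) a2 m1
  have key : ∀ k, 1 ≤ k → γ 1 ≤ Tv (γ k) (γ m) → (∀ y ∈ γ k, y ^ p ∈ γ m) → γ k ≤ Om p E (γ m) :=
    fun k k1 t pw y hy =>
      have t' := Tv_anti P.lt.le _ (tv_symm ((mx.le k).trans (mx.nmS m)) t hy)
      ⟨memE mx P.sat P.ess a1 a2 a3 a4 (mx.anti k1 hy) t', t', pw y hy⟩
  have u1 := key m' b1 (tvP mx b1 hn c) (mx.pow_of_con (SA mx) b1 hn c)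
  have u1' : γ m' ≤ E := fun y hy => (u1 hy).1
  have b3 : 3 ≤ m' := by
    by_contra r
    exact h2 ((mx.anti (by omega)).trans u1')
  have lt := c.lt
  refine ⟨m', m, b3, hn, c, a4 m le_rfl a2, fun r => ?_, u1, key _ (by omega)
    (tv_of_le ((mx.le 1).trans (mx.nmS m)) ?_) fun y hy =>
      mx.anti (by omega) (mx.pow2 (by omega) hy).1, ne⟩
  · have := mn m' b1 c.n1 u1' fun k a b => by
      rcases a.eq_or_lt with rfl | a
      exacts [r, a4 k (not_lt.1 fun q => c.no k a q b) b]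
    omega
  · refine le_trans ?_ (mx.anti (show m ≤ 1 + (m - 2) + 1 by omega))
    exact ne.elim (fun e => mx.ne le_rfl (by omega) (by omega)) fun e => mx.ne_of e le_rfl (by omega)

theorem jobSet : JobSet.{u} := by
  classical
  intro Ω _ _ S p n hp F γ _ κ E P h2 z
  have mx := P.mx
  have p5 := P.p5
  obtain ⟨m', m, b3, hn, c, g1, g2, u1, u2, ne⟩ := base P h2 z
  have lt := c.lt
  have UE : Om p E (γ m) ≤ E := fun _ hy => hy.1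
  have mU := (mx.anti lt.le).trans u1
  have u3 : Aut F E ≤ Nm (Om p E (γ m)) := fun g hg => nm_Om (Aut_le_Nm F E hg) (g1 hg)
  have u4 : E ≤ Tv (Om p E (γ m)) (γ m) := tv_symm (P.ess.1.1.trans (mx.nmS m)) fun _ hy => hy.2.1
  obtain ⟨D, π, ρ, h, hD⟩ := exists_sec (p := p) mU com_Om fun _ hy => hy.2.2
  obtain ⟨lo, l1, l2, l3, l4, l5⟩ := bound mx UE P.lt hn mU (fun _ hy => hy.2.2) hD
  obtain ⟨j, jE, jn⟩ : ∃ j, γ j ≤ E ∧ ∀ i, γ i ≤ E → j ≤ i :=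
    have ex : ∃ j, γ j ≤ E := ⟨_, u1.trans UE⟩
    ⟨_, Nat.find_spec ex, fun i a => Nat.find_min' ex a⟩
  have jm := jn _ (u1.trans UE)
  have j3 : 3 ≤ j := by
    by_contra r
    exact h2 ((mx.anti (by omega)).trans jE)
  have sp := mx.sp (i := j - 1) (by omega)
  have cS : ∀ x ∈ γ (j - 1), ∀ s ∈ S, ⁅x, s⁆ ∈ γ (j - 1 + 1) := fun x hx s hs => mx.cS hx hs
  rw [show j - 1 + 1 = j by omega] at sp cS
  have xE : ∀ x ∈ γ (j - 1), x ∈ Nm E := fun x hx => Nm_of_Tv (A := E) (B := γ j)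
    (tv_of_com (mx.nmS j (mx.le _ hx)) fun y hy => cS x hx y (P.ess.1.1 hy)) jE le_rfl
  have xN : ∀ x ∈ γ (j - 1), x ∈ Nm (Om p E (γ m)) ⊓ Nm (γ m) := fun x hx =>
    ⟨u3 (Nm_le_Aut F E ⟨mx.le _ hx, xE x hx⟩), mx.nmS m (mx.le _ hx)⟩
  obtain ⟨x, x1, x2, sq, rk⟩ : ∃ x ∈ γ (j - 1), x ∉ γ j ∧ (ρ x - 1) ^ 2 = 0 ∧
      2 * finrank (ZMod p) (LinearMap.range (ρ x - 1)) < p - 1 := by
    by_cases e : Om p E (γ m) ≤ γ j
    · obtain ⟨x, x1, x2, b, b1, b2, b3, b4⟩ := caseI mx p5 j3 hn (by omega)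
      have b5 : ∀ y ∈ Om p E (γ m), ⁅x, y⁆ ∈ γ b := fun y hy =>
        b3 y ⟨e hy, Tv_anti jE _ hy.2.1, hy.2.2⟩
      refine ⟨x, x1, x2, sq_zero h (xN x x1) b5 b4, lt_of_le_of_lt (Nat.mul_le_mul_left 2 ?_) b2⟩
      obtain ⟨L, rfl⟩ := Nat.exists_eq_add_of_le b1
      refine rank_le h (mx.anti b1) (by rw [mx.relIndex hn, Nat.add_sub_cancel_left]) ?_
      rintro _ ⟨v, rfl⟩
      obtain ⟨y, hy, rfl⟩ := h.co.surj v
      rw [h.sub_app (xN x x1) hy]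
      exact h.mk_mem (h.com_mem (xN x x1) hy) (b5 y hy)
    · obtain ⟨x, x1, x2⟩ := sp.ex
      obtain ⟨b, b1, b2⟩ := caseII mx j3 P.lt jE (by omega) c.n2 c.n1 e x1
      have sq := sq_zero h (xN x x1) (fun y hy => b1 y (P.lt.le (UE hy))) b2
      refine ⟨x, x1, x2, sq, ?_⟩
      have := two_rank sq
      by_cases f : D = p - 1
      · rcases l5 f with r | ⟨r, r'⟩
        · exact (e (r.le.trans (mx.anti (jn _ (r.ge.trans UE))))).elim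
        · rw [r] at h u4
          have := rank_one mx P.n5 P.lt h2 r' h u4 (mx.anti (by omega) x1)
          omega
      · omega
  exact ⟨m', m, _, x, D, π, ρ, j, lo, ⟨by omega, hn, c, g1, g2, u1, UE, u3, u4, h, l4,
    ⟨mx.anti (by omega) x1, xE x x1⟩, fun r => by
      have := jn _ (sp.le_of jE x1 x2 r)
      omega, jE (sp.pow x1), sq, rk⟩, j3, jm, jE, x1, x2, ne, u2, l1, l2, l3⟩

end H38.Fm
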