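import Cfsg.Agent.H7.HKSSpec2
import Cfsg.Agent.H3.HkKit2
import Cfsg.Agent.H44.HkK

/-! HKS chapter II: the frame given by an involution `k ≠ t` of the two-point stabiliser. -/

set_option autoImplicit false

namespace H38.HK2

open MulAction Cfsg Subgroup H89.K H65 H7.HKS H31.HK

universe u

section Fld

variable {F : Type} [Field F] [Fintype F] {l m θ : F}

theorem rc (h2 : (2 : F) ≠ 0) : ringChar F ≠ 2 := fun h =>
  h2 (by simpa [h] using ringChar.Nat.cast_ringChar (R := F))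

theorem half_eq (h2 : (2 : F) ≠ 0) : (Fintype.card F - 1) / 2 = Fintype.card F / 2 := by
  have := FiniteField.odd_card_of_char_ne_two (rc h2)
  omega

theorem one_ne (h2 : (2 : F) ≠ 0) : (1 : F) ≠ -1 := fun e => h2 (by linear_combination e)

theorem nsq_pow (h2 : (2 : F) ≠ 0) (hl : l ≠ 0) (n : ¬ IsSquare l) :
    l ^ ((Fintype.card F - 1) / 2) = -1 := by
  rw [half_eq h2]
  exact (FiniteField.pow_dichotomy (rc h2) hl).resolve_left fun e =>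
    n ((FiniteField.isSquare_iff (rc h2) hl).2 e)

theorem pow_pm (h2 : (2 : F) ≠ 0) (hl : l ≠ 0) :
    l ^ ((Fintype.card F - 1) / 2) * l ^ ((Fintype.card F - 1) / 2) = 1 := by
  rw [half_eq h2]
  rcases FiniteField.pow_dichotomy (rc h2) hl with e | e <;> simp [e]

theorem sq_div (h2 : (2 : F) ≠ 0) (hl : l ≠ 0) (hm : m ≠ 0) (n : ¬ IsSquare l) (n' : ¬ IsSquare m) :
    IsSquare (l / m) := by
  rw [FiniteField.isSquare_iff (rc h2) (div_ne_zero hl hm), ← half_eq h2, div_pow, nsq_pow h2 hl n,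
    nsq_pow h2 hm n']
  simp

omit [Fintype F] in
theorem nsq_div (hm : m ≠ 0) (s : IsSquare m) (n : ¬ IsSquare l) : ¬ IsSquare (l / m) := fun e =>
  n (by simpa [hm] using e.mul s)

omit [Fintype F] in
theorem nsq_div' (hl : l ≠ 0) (s : IsSquare l) (n : ¬ IsSquare m) : ¬ IsSquare (l / m) := fun e =>
  n (by simpa [hl] using (e.inv.mul s))

theorem sq_pow_iff (h2 : (2 : F) ≠ 0) (hl : l ≠ 0) (n : ¬ IsSquare l) (j : ℕ) :
    IsSquare (l ^ j) ↔ Even j := by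
  refine ⟨fun e => ?_, fun e => e.isSquare_pow l⟩
  by_contra h
  obtain ⟨i, rfl⟩ := Nat.not_even_iff_odd.1 h
  refine nsq_div (pow_ne_zero (2 * i + 1) hl) e n ?_
  have : l / l ^ (2 * i + 1) = (l ^ i)⁻¹ * (l ^ i)⁻¹ := by field_simp; ring
  exact this ▸ IsSquare.mul_self _

theorem gen_ne (h : orderOf θ = Fintype.card F - 1) : θ ≠ 0 := by
  rintro rfl
  have h1 := pow_orderOf_eq_one (0 : F)
  have := Fintype.one_lt_card (α := F)
  rw [h, zero_pow (by omega)] at h1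
  exact zero_ne_one h1

theorem gen_pow (h : orderOf θ = Fintype.card F - 1) (hl : l ≠ 0) : ∃ j : ℕ, l = θ ^ j := by
  classical
  have e : zpowers (Units.mk0 θ (gen_ne h)) = ⊤ := by
    refine eq_top_of_card_eq _ ?_
    rw [Nat.card_zpowers, ← orderOf_units, Units.val_mk0, h, Nat.card_eq_fintype_card,
      Fintype.card_units]
  obtain ⟨j, hj⟩ := mem_powers_iff_mem_zpowers.2 (e ▸ mem_top (Units.mk0 l hl))
  exact ⟨j, by simpa using (congrArg Units.val hj).symm⟩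

theorem gen_nsq (h2 : (2 : F) ≠ 0) (h : orderOf θ = Fintype.card F - 1) : ¬ IsSquare θ := fun e => by
  have h1 := orderOf_dvd_of_pow_eq_one ((FiniteField.isSquare_iff (rc h2) (gen_ne h)).1 e)
  have := FiniteField.odd_card_of_char_ne_two (rc h2)
  have := Fintype.one_lt_card (α := F)
  have := Nat.le_of_dvd (by omega) h1
  omega

theorem exists_gen (F : Type) [Field F] [Fintype F] : ∃ θ : F, orderOf θ = Fintype.card F - 1 := by
  classical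
  obtain ⟨g, hg⟩ := IsCyclic.exists_ofOrder_eq_natCard (α := Fˣ)
  exact ⟨g, by rw [orderOf_units, hg, Nat.card_eq_fintype_card, Fintype.card_units]⟩

omit [Fintype F] in
theorem aut_pm (h2 : (2 : F) ≠ 0) (σ : F ≃+* F) (h : ∀ c, c ≠ 0 → σ c ^ 2 = c ^ 2) (c : F) :
    σ c = c := by
  have h' : ∀ c, σ c = c ∨ σ c = -c := fun c => by
    by_cases hc : c = 0
    · simp [hc]
    · exact sq_eq_sq_iff_eq_or_eq_neg.1 (h c hc)
  rcases h' c with e | e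
  · exact e
  · rcases h' (1 + c) with e' | e' <;> rw [map_add, map_one, e] at e'
    · rw [e]; linear_combination e'
    · exact absurd (by linear_combination e') h2

end Fld

variable {G Ω : Type u} [Group G] [MulAction G Ω] {U : Ω → Subgroup G} {a b p : Ω}
  {t k k' g g' s s' w : G}

/-- `g` acts on the root group as the scalar `l`. -/
def Ac {F : Type} [Field F] (x : F → G) (g : G) (l : F) : Prop := ∀ c, g * x c * g⁻¹ = x (l * c)

/-- `s` acts on the points as `c ↦ -μ/c`. -/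
def As {F : Type} [Field F] (x : F → G) (b : Ω) (s : G) (μ : F) : Prop :=
  μ ≠ 0 ∧ ∀ c, c ≠ 0 → s • x c • b = x (-(μ / c)) • b

section One

variable {F : Type} [Field F] {x y : F → G} {A B : Subgroup G} {l l' μ μ' : F}

theorem Ac.one : Ac x 1 1 := fun c => by simp

theorem Ac.mul (h : Ac x g l) (h' : Ac x g' l') : Ac x (g * g') (l * l') := fun c => by
  rw [mul_assoc l, ← h, ← h']; group

theorem Ac.pow (h : Ac x g l) (n : ℕ) : Ac x (g ^ n) (l ^ n) := by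
  induction n with
  | zero => simpa using Ac.one
  | succ n ih => rw [pow_succ, pow_succ]; exact ih.mul h

theorem Ac.inv (h : Ac x g l) (hl : l ≠ 0) : Ac x g⁻¹ l⁻¹ := fun c => by
  have := h (l⁻¹ * c)
  rw [mul_inv_cancel_left₀ hl] at this
  rw [← this]; group

theorem Ac.uniq (hx : Function.Injective x) (h : Ac x g l) (h' : Ac x g l') : l = l' := by
  simpa using hx ((h 1).symm.trans (h' 1))

theorem Ac.smul (h : Ac x g l) (hb : g • b = b) (c : F) : g • x c • b = x (l * c) • b := by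
  rw [← h, mul_smul, mul_smul, inv_smul_eq_iff.2 hb.symm]

theorem As.mul_ac (h : As x b s μ) (h' : Ac x g l) (hb : g • b = b) (hl : l ≠ 0) :
    As x b (s * g) (μ / l) := ⟨div_ne_zero h.1 hl, fun c hc => by
  rw [mul_smul, h'.smul hb, h.2 _ (mul_ne_zero hl hc), div_div]⟩

theorem As.uniq (X : Cx U x y A B a b) (h : As x b s μ) (h' : As x b s μ') : μ = μ' := by
  simpa using X.x_inj X.ne.symm ((h.2 1 one_ne_zero).symm.trans (h'.2 1 one_ne_zero))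

theorem sw_mul (h : Sw s a b) (h' : Sw s' a b) : s * s' ∈ St G a b :=
  mem_St.2 ⟨by rw [mul_smul, h'.1, h.2], by rw [mul_smul, h'.2, h.1]⟩

theorem sw_mul_st (h : Sw s a b) (h' : g ∈ St G a b) : Sw (s * g) a b :=
  ⟨by rw [mul_smul, (mem_St.1 h').1, h.1], by rw [mul_smul, (mem_St.1 h').2, h.2]⟩

variable [Finite G]

theorem conj_of (hU : Rg U) (hab : a ≠ b) (hg : g ∈ St G a b) {u v : G} (hu : u ∈ U a)
    (hv : v ∈ U a) (e : g • u • b = v • b) : g * u * g⁻¹ = v := by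
  refine H72.HKS.reg_eq hU hab (by simpa [(mem_St.1 hg).1] using hU.conj g a u hu) hv ?_
  rw [mul_smul, mul_smul, inv_smul_eq_iff.2 (mem_St.1 hg).2.symm, e]

theorem As.mul (hU : Rg U) (X : Cx U x y A B a b) (hg : s * s' ∈ St G a b) (h : As x b s μ)
    (h' : As x b s' μ') : Ac x (s * s') (μ / μ') := fun c => by
  by_cases hc : c = 0
  · simp [hc, X.rel.x_zero]
  refine conj_of hU X.ne hg (X.hA (X.xA _)) (X.hA (X.xA _)) ?_
  have := h'.1
  rw [mul_smul, h'.2 c hc, h.2 _ (by simp [hc, this])]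
  congr 2; field_simp

end One

section CII

variable [Finite G] (c : CII U a b t)
include c

theorem t2 : t * t = 1 := by rw [← sq, ← c.ord, pow_orderOf_eq_one]

theorem t1 : t ≠ 1 := fun e => by simpa [e] using c.ord

theorem ht (hg : g ∈ St G a b) : g * t = t * g := (c.cent g).2 (.inl hg)

theorem fin : Finite Ω := Nat.finite_of_card_ne_zero (by rw [H72.HKS.card_eq c.toRg a]; omega)

theorem fixt (h : t • p = p) : p = a ∨ p = b := by
  rcases (H72.HKS.fx_mem c.toRg c.ne (X := {t}) (by simpa using c.st) p).1 (by simpa using h) with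
    e | ⟨u, hu, e⟩
  · exact .inl e
  · rw [c.cu, mem_bot] at hu
    exact .inr (by rw [← e, hu, one_smul])

theorem j2 (h : IsConj t w) : w * w = 1 := by
  obtain ⟨g, rfl⟩ := isConj_iff.1 h
  rw [conj_mul, t2 c]; simp

theorem jst (h : IsConj t w) (hw : w ∈ St G a b) : w = t := by
  refine c.uniq w hw (j2 c h) (card_eq_one.1 ?_)
  obtain ⟨d, e, hde, he⟩ := c.fixJ w h
  have := H72.HKS.fx_card c.toRg c.ne (X := {w}) (by simpa using hw)
  rw [he, Set.ncard_pair hde] at this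
  omega

theorem faith (hg : g ∈ St G a b) (h : ∀ u ∈ U a, g * u * g⁻¹ = u) : g = 1 := by
  refine c.t2.faith g fun p => ?_
  by_cases hp : p = a
  · rw [hp, (mem_St.1 hg).1]
  obtain ⟨u, hu, rfl⟩ := c.tr c.ne.symm hp
  conv_rhs => rw [← h u hu, mul_smul, mul_smul, inv_smul_eq_iff.2 (mem_St.1 hg).2.symm]

end CII

/-- The frame. -/
structure Fr (U : Ω → Subgroup G) (a b : Ω) (t k k' : G) {F₁ F₂ : Type} [Field F₁] [Field F₂]
    (x₁ y₁ : F₁ → G) (x₂ y₂ : F₂ → G) : Prop where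
  c : CII U a b t
  kst : k ∈ St G a b
  k2 : k * k = 1
  k1 : k ≠ 1
  kt : k ≠ t
  kk : k' = k * t
  ld₁ : LD x₁ y₁ (CU U {k} a) (CU U {k} b) a b
  ld₂ : LD x₂ y₂ (CU U {k'} a) (CU U {k'} b) a b
  psl₁ : sl2h x₁ y₁ (-1) = 1
  psl₂ : sl2h x₂ y₂ (-1) = 1

variable {F₁ F₂ : Type} [Field F₁] [Field F₂] {x₁ y₁ : F₁ → G} {x₂ y₂ : F₂ → G}
  {l l' μ μ' : F₁} {m m' ν ν' : F₂}

/-- Elements of the two-point stabiliser acting as scalars on both root groups. -/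
structure Ah (a b : Ω) (x₁ : F₁ → G) (x₂ : F₂ → G) (g : G) (l : F₁) (m : F₂) : Prop where
  st : g ∈ St G a b
  l0 : l ≠ 0
  m0 : m ≠ 0
  a₁ : Ac x₁ g l
  a₂ : Ac x₂ g m

/-- Elements interchanging `a` and `b` and acting projectively on both lines. -/
structure Sv (a b : Ω) (x₁ : F₁ → G) (x₂ : F₂ → G) (s : G) (μ : F₁) (ν : F₂) : Prop where
  sw : Sw s a b
  s₁ : As x₁ b s μ
  s₂ : As x₂ b s ν

/-- `s` has a fixed point outside `a, b` in common with `k`. -/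
def Ty (a b : Ω) (k s : G) : Prop := ∃ p, p ≠ a ∧ p ≠ b ∧ s • p = p ∧ k • p = p

theorem Ah.symm (h : Ah a b x₁ x₂ g l m) : Ah a b x₂ x₁ g m l := ⟨h.st, h.m0, h.l0, h.a₂, h.a₁⟩

theorem Sv.symm (h : Sv a b x₁ x₂ s μ ν) : Sv a b x₂ x₁ s ν μ := ⟨h.sw, h.s₂, h.s₁⟩

theorem Ah.one : Ah a b x₁ x₂ 1 1 1 := ⟨one_mem _, one_ne_zero, one_ne_zero, .one, .one⟩

theorem Ah.mul (h : Ah a b x₁ x₂ g l m) (h' : Ah a b x₁ x₂ g' l' m') :
    Ah a b x₁ x₂ (g * g') (l * l') (m * m') :=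
  ⟨mul_mem h.st h'.st, mul_ne_zero h.l0 h'.l0, mul_ne_zero h.m0 h'.m0, h.a₁.mul h'.a₁, h.a₂.mul h'.a₂⟩

theorem Ah.pow (h : Ah a b x₁ x₂ g l m) (n : ℕ) : Ah a b x₁ x₂ (g ^ n) (l ^ n) (m ^ n) :=
  ⟨pow_mem h.st n, pow_ne_zero n h.l0, pow_ne_zero n h.m0, h.a₁.pow n, h.a₂.pow n⟩

theorem Ah.inv (h : Ah a b x₁ x₂ g l m) : Ah a b x₁ x₂ g⁻¹ l⁻¹ m⁻¹ :=
  ⟨inv_mem h.st, inv_ne_zero h.l0, inv_ne_zero h.m0, h.a₁.inv h.l0, h.a₂.inv h.m0⟩

theorem Sv.mul_ah (h : Sv a b x₁ x₂ s μ ν) (h' : Ah a b x₁ x₂ g l m) :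
    Sv a b x₁ x₂ (s * g) (μ / l) (ν / m) :=
  ⟨sw_mul_st h.sw h'.st, h.s₁.mul_ac h'.a₁ (mem_St.1 h'.st).2 h'.l0,
    h.s₂.mul_ac h'.a₂ (mem_St.1 h'.st).2 h'.m0⟩

namespace Fr

variable [Finite G] (f : Fr U a b t k k' x₁ y₁ x₂ y₂)
include f

theorem tk : k * t = t * k := ht f.c f.kst

theorem symm : Fr U a b t k' k x₂ y₂ x₁ y₁ := by
  refine ⟨f.c, f.kk ▸ mul_mem f.kst f.c.st, ?_, fun e => f.kt ?_, fun e => f.k1 ?_, ?_, f.ld₂, f.ld₁,
    f.psl₂, f.psl₁⟩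
  · rw [f.kk, mul_assoc, ← mul_assoc t, ← f.tk, mul_assoc, t2 f.c, mul_one, f.k2]
  · rw [f.kk, ← t2 f.c] at e; exact mul_right_cancel e
  · rw [f.kk] at e; simpa using e
  · rw [f.kk, mul_assoc, t2 f.c, mul_one]

theorem X : Cx U x₁ y₁ (CU U {k} a) (CU U {k} b) a b :=
  ⟨f.c.toRg.sr, f.c.ne, inf_le_left, inf_le_left, f.ld₁⟩

theorem sub : ({k} : Set G) ⊆ St G a b := by simpa using f.kst

theorem xk (e : F₁) : x₁ e * k = k * x₁ e := H44.HK.mem_c1.1 (f.X.xA e).2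

theorem lx : LX U {k} = CU U {k} a ⊔ CU U {k} b := lx_eq f.c.toRg f.c.ne f.sub

theorem lk (h : g ∈ CU U {k} a ⊔ CU U {k} b) : g * k = k * g :=
  H44.HK.mem_c1.1 (sup_le (c := centralizer {k}) inf_le_right inf_le_right h)

theorem ck' (h1 : g * k = k * g) (h2 : g * t = t * g) : g * k' = k' * g := by
  rw [f.kk, ← mul_assoc, h1, mul_assoc, h2, mul_assoc]

theorem fixk (hp : p ≠ a) (hb : p ≠ b) (h : k • p = p) : ∃ e, e ≠ 0 ∧ p = x₁ e • b := by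
  rcases (H72.HKS.fx_mem f.c.toRg f.c.ne f.sub p).1 (by simpa using h) with e | ⟨u, hu, e⟩
  · exact absurd e hp
  · obtain ⟨d, rfl⟩ := (f.ld₁.rx u).1 hu
    exact ⟨d, fun h0 => hb (by rw [← e, h0, f.X.rel.x_zero, one_smul]), e.symm⟩

theorem kx (e : F₁) : k • x₁ e • b = x₁ e • b := by
  rw [← mul_smul, ← f.xk, mul_smul, (mem_St.1 f.kst).2]

theorem xb_ne {e : F₁} (he : e ≠ 0) : x₁ e • b ≠ b := fun h => he (f.X.x_fix f.c.ne.symm h)

theorem nU (hg : g ∈ St G a b) : g ∈ normalizer (U a : Set G) :=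
  H44.HK.nr_of_conj f.c.conj a (mem_St.1 hg).1

theorem dec {u : G} (hu : u ∈ U a) : ∃ c d, u = x₁ c * x₂ d := by
  obtain ⟨w₁, h₁, w₂, h₂, w₃, h₃, e⟩ := H72.HKS.wie_prod (f.c.odd a) (f.nU f.kst) (f.nU f.symm.kst)
    f.k2 f.symm.k2 (f.ck' rfl f.tk) hu (f.c.nil a)
  rw [f.kk, ← mul_assoc, f.k2, one_mul, show U a ⊓ centralizer {t} = ⊥ from f.c.cu, mem_bot] at h₃
  obtain ⟨c, rfl⟩ := (f.ld₁.rx w₁).1 h₁
  obtain ⟨d, rfl⟩ := (f.ld₂.rx w₂).1 h₂
  exact ⟨c, d, by rw [e, h₃, mul_one]⟩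

theorem cardU : Nat.card (U a) = Nat.card F₁ * Nat.card F₂ := by
  have h := H72.HKS.wie_card (f.c.odd a) (f.nU f.kst) (f.nU f.symm.kst) f.k2 f.symm.k2
    (f.ck' rfl f.tk)
  have e : k * k' = t := by rw [f.kk, ← mul_assoc, f.k2, one_mul]
  have h0 : U a ⊓ centralizer {k, k'} = ⊥ := by
    refine eq_bot_iff.2 (f.c.cu ▸ fun u hu => ⟨hu.1, H44.HK.mem_c1.2 ?_⟩)
    rw [← e, ← mul_assoc, ← hu.2 k (by simp), mul_assoc, ← hu.2 k' (by simp), mul_assoc]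
  rw [h0, e, show U a ⊓ centralizer {t} = ⊥ from f.c.cu, f.X.card_A, f.symm.X.card_A] at h
  simpa using h

theorem mod [Fintype F₁] : Fintype.card F₁ % 4 = 1 := by
  have h1 := (H72.HKS.par f.c.toCore.pre).2.2 k f.k2
  rw [H72.HKS.fx_card f.c.toRg f.c.ne f.sub, f.X.card_A, Nat.card_eq_fintype_card (α := F₁),
    Nat.ModEq, f.c.mod] at h1
  omega

theorem sq_neg [Fintype F₁] : IsSquare (-1 : F₁) :=
  FiniteField.isSquare_neg_one_iff.2 (by rw [f.mod]; omega)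

theorem two [Fintype F₁] : (2 : F₁) ≠ 0 := f.X.two_ne

theorem ah_eq (h : Ah a b x₁ x₂ g l m) (h' : Ah a b x₁ x₂ g' l m) : g = g' := by
  have h1 := h.mul h'.inv
  rw [mul_inv_cancel₀ h.l0, mul_inv_cancel₀ h.m0] at h1
  refine mul_inv_eq_one.1 (faith f.c h1.st fun u hu => ?_)
  obtain ⟨c, d, rfl⟩ := f.dec hu
  rw [← conj_mul, h1.a₁, h1.a₂, one_mul, one_mul]

theorem ah_l (h : Ah a b x₁ x₂ g l m) (h' : Ah a b x₁ x₂ g l' m') : l = l' :=
  h.a₁.uniq f.ld₁.inj h'.a₁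

theorem ac_t : Ac x₁ t (-1) := fun c => by
  rw [neg_one_mul, x_neg f.X.rel, ← f.c.inv _ (f.X.xA c).1, inv_eq_of_mul_eq_one_right (t2 f.c)]

theorem ac_k : Ac x₁ k 1 := fun c => by rw [← f.xk, one_mul, mul_inv_cancel_right]

theorem ah_t : Ah a b x₁ x₂ t (-1) (-1) := ⟨f.c.st, by simp, by simp, f.ac_t, f.symm.ac_t⟩

theorem ah_k : Ah a b x₁ x₂ k 1 (-1) := ⟨f.kst, by simp, by simp, f.ac_k, by
  simpa [← f.symm.kk] using f.symm.ac_k.mul f.symm.ac_t⟩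

theorem ah_comm (h : Ah a b x₁ x₂ g l m) (h' : Ah a b x₁ x₂ g' l' m') : g * g' = g' * g :=
  f.ah_eq (h.mul h') (by rw [mul_comm l, mul_comm m]; exact h'.mul h)

theorem sv_mul (h : Sv a b x₁ x₂ s μ ν) (h' : Sv a b x₁ x₂ s' μ' ν') :
    Ah a b x₁ x₂ (s * s') (μ / μ') (ν / ν') :=
  ⟨sw_mul h.sw h'.sw, div_ne_zero h.s₁.1 h'.s₁.1, div_ne_zero h.s₂.1 h'.s₂.1,
    h.s₁.mul f.c.toRg f.X (sw_mul h.sw h'.sw) h'.s₁,
    h.s₂.mul f.c.toRg f.symm.X (sw_mul h.sw h'.sw) h'.s₂⟩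

theorem sv_inv (h : Sv a b x₁ x₂ s μ ν) (h' : Ah a b x₁ x₂ g l m) : s * g * s = g⁻¹ := by
  have h1 := f.sv_mul (h.mul_ah h') h
  rw [div_right_comm, div_self h.s₁.1, div_right_comm, div_self h.s₂.1, one_div, one_div] at h1
  exact f.ah_eq h1 h'.inv

theorem swp [Fintype F₁] (hs : Sw s a b) (s2 : s * s = 1) (hk : s * k = k * s)
    (h : (Fx Ω {s, k}).ncard ≤ 2) : ∃ μ, As x₁ b s μ ∧
      ∀ c, c ≠ 0 → s * sl2h x₁ y₁ c * s⁻¹ = sl2h x₁ y₁ c⁻¹ := by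
  obtain ⟨μ, h0, h1, h2, -⟩ := H3.HK2.kit2.swp f.c.toRg f.c.ne f.sub f.ld₁ s
    (centralizer_le_normalizer _ (H44.HK.mem_c1.2 hk)) hs
    (fun c _ => by rw [← mul_smul, s2, one_smul]) h
  exact ⟨μ, ⟨h0, h1⟩, h2⟩

theorem jk_as [Fintype F₁] (hs : s ∈ Jsw t a b) (hk : s * k = k * s) : ∃ μ, As x₁ b s μ := by
  obtain ⟨d, e, hde, he⟩ := f.c.fixJ s hs.1
  have := fin f.c
  obtain ⟨μ, h, -⟩ := f.swp hs.2 (j2 f.c hs.1) hk ((Set.ncard_le_ncard (t := Fx Ω {s})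
    fun p hp => by simpa using hp s (by simp)).trans (by rw [he, Set.ncard_pair hde]))
  exact ⟨μ, h⟩

theorem jk' (hs : s ∈ Jsw t a b) (hk : s * k = k * s) : s * k' = k' * s :=
  f.ck' hk ((f.c.cent s).2 (.inr hs.2))

theorem jk_sv [Fintype F₁] [Fintype F₂] (hs : s ∈ Jsw t a b) (hk : s * k = k * s) :
    ∃ μ ν, Sv a b x₁ x₂ s μ ν := by
  obtain ⟨μ, h⟩ := f.jk_as hs hk
  obtain ⟨ν, h'⟩ := f.symm.jk_as hs (f.jk' hs hk)
  exact ⟨μ, ν, hs.2, h, h'⟩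

theorem ty_or (hs : s ∈ Jsw t a b) (hk : s * k = k * s) : Ty a b k s ∨ Ty a b k' s := by
  obtain ⟨p, ha, hb, e⟩ := f.c.sc' s hs
  have hp : s • p = p := (e.symm ▸ Set.mem_insert p _ : p ∈ Fx Ω {s}) s rfl
  have : k • p ∈ Fx Ω {s} := by simpa using fix_of_comm hk.symm hp
  rw [e] at this
  rcases this with h | h
  · exact .inl ⟨p, ha, hb, hp, h⟩
  · refine .inr ⟨p, ha, hb, hp, ?_⟩
    rw [f.kk, f.tk, mul_smul, h, ← mul_smul, t2 f.c, one_smul]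

theorem ty_not (hs : s ∈ Jsw t a b) (h : Ty a b k s) : ¬ Ty a b k' s := by
  rintro ⟨q, ha, hb, hq, hq'⟩
  obtain ⟨p, -, -, hp, hp'⟩ := h
  obtain ⟨r, -, -, e⟩ := f.c.sc' s hs
  have h1 : p ∈ Fx Ω {s} := by simpa using hp
  have h2 : q ∈ Fx Ω {s} := by simpa using hq
  have tt : t • t • r = r := by rw [← mul_smul, t2 f.c, one_smul]
  have h3 : k • t • p = t • p := fix_of_comm f.tk.symm hp'
  have h4 : k • q = q := by
    rw [e] at h1 h2
    rcases h1 with rfl | rfl <;> rcases h2 with rfl | rfl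
    exacts [hp', h3, by rwa [tt] at h3, hp']
  rw [f.kk, f.tk, mul_smul, h4] at hq'
  exact (fixt f.c hq').elim ha hb

theorem ty_iff [Fintype F₁] (h : As x₁ b s μ) : Ty a b k s ↔ IsSquare μ := by
  obtain ⟨i, hi⟩ := f.sq_neg
  constructor
  · rintro ⟨p, ha, hb, hp, hp'⟩
    obtain ⟨e, he, rfl⟩ := f.fixk ha hb hp'
    rw [h.2 e he] at hp
    have := f.X.x_inj f.c.ne.symm hp
    exact ⟨i * e, by field_simp at this; linear_combination -this + e ^ 2 * hi⟩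
  · rintro ⟨d, rfl⟩
    have h0 : i * d ≠ 0 := mul_ne_zero (fun e => by simp [e] at hi) fun e => h.1 (by simp [e])
    refine ⟨x₁ (i * d) • b, f.X.xb_ne _, f.xb_ne h0, ?_, f.kx _⟩
    rw [h.2 _ h0]
    congr 2
    rw [← neg_div, div_eq_iff h0]
    linear_combination d ^ 2 * hi

/-- The two types. -/
theorem sv_or [Fintype F₁] [Fintype F₂] (hs : s ∈ Jsw t a b) (hk : s * k = k * s)
    (h : Sv a b x₁ x₂ s μ ν) : IsSquare μ ↔ ¬ IsSquare ν := by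
  rw [← f.ty_iff h.s₁, ← f.symm.ty_iff h.s₂]
  exact ⟨f.ty_not hs, (f.ty_or hs hk).resolve_right⟩

end Fr

end H38.HK2
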