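import Cfsg.Agent.H38.HK2a

/-! HKS chapter II: the structure of `C_H(k)` (job IIc). -/

set_option autoImplicit false

namespace H38.HK2

open MulAction Cfsg Subgroup H89.K H65 H7.HKS H31.HK

universe u

variable {G Ω : Type u} [Group G] [MulAction G Ω] {U : Ω → Subgroup G} {a b p : Ω}
  {t k k' g g' s s' w : G}

theorem conj_pow (s2 : s * s = 1) (inv : s * g * s = g⁻¹) (h0 : IsConj t s) (h1 : IsConj t (s * g))
    (j : ℕ) : IsConj t (s * g ^ j) := by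
  induction j using Nat.twoStepInduction with
  | zero => simpa using h0
  | one => simpa using h1
  | more j ih _ =>
    refine ih.trans (isConj_iff.2 ⟨g⁻¹, ?_⟩)
    rw [inv_inv, ← mul_assoc g⁻¹, ← inv, mul_assoc (s * g) s s, s2]
    group

theorem inv_pow' (s2 : s * s = 1) (inv : s * g * s = g⁻¹) (j : ℕ) : s * g ^ j * s = (g ^ j)⁻¹ := by
  have := inv_eq_of_mul_eq_one_right s2
  rw [← inv_pow, ← inv]
  nth_rewrite 2 4 [← this]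
  rw [_root_.conj_pow]

theorem mul_sw (s2 : s * s = 1) (inv : s * g * s = g⁻¹) (i j : ℕ) :
    s * g ^ i * (s * g ^ j) = (g ^ i)⁻¹ * g ^ j := by
  rw [← inv_pow' s2 inv, mul_assoc (s * g ^ i)]

theorem oJ [Finite G] (c : CII U a b t) (h : IsConj t w) : orderOf w = 2 :=
  orderOf_eq_prime (by rw [sq, j2 c h]) fun e => t1 c (by simpa [e] using h)

variable {F₁ F₂ : Type} [Field F₁] [Field F₂] {x₁ y₁ : F₁ → G} {x₂ y₂ : F₂ → G}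
  {l l' μ μ' : F₁} {m m' ν ν' : F₂}

namespace Fr

variable [Finite G] [Fintype F₁] [Fintype F₂] (f : Fr U a b t k k' x₁ y₁ x₂ y₂)
include f

theorem sc₁ : ∃ s ∈ Jsw t a b, s * k = k * s ∧ Ty a b k s ∧
    ∀ h ∈ St G a b, h • x₁ 1 • b = x₁ 1 • b → h * s = s * h := by
  obtain ⟨s, hs, e, h⟩ := f.c.sc _ (f.X.xb_ne 1) (f.xb_ne one_ne_zero)
  exact ⟨s, hs, (h k f.kst (f.kx 1)).symm, ⟨_, f.X.xb_ne 1, f.xb_ne one_ne_zero,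
    (e.symm ▸ Set.mem_insert _ _ : x₁ 1 • b ∈ Fx Ω {s}) s rfl, f.kx 1⟩, h⟩

theorem l1 (h : Ah a b x₁ x₂ g 1 m) : g = 1 ∨ g = k := by
  obtain ⟨s, hs, hk, -, hc⟩ := f.sc₁
  obtain ⟨μ, ν, hv⟩ := f.jk_sv hs hk
  have e := f.sv_inv hv h
  rw [← hc g h.st (by rw [h.a₁.smul (mem_St.1 h.st).2, one_mul]), mul_assoc, j2 f.c hs.1,
    mul_one] at e
  have e' := f.symm.ah_l h.symm (l' := m⁻¹) (m' := 1⁻¹) (by rw [e]; exact h.inv.symm)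
  rcases mul_self_eq_one_iff.1 (show m * m = 1 by nth_rewrite 1 [e']; exact inv_mul_cancel₀ h.m0)
    with rfl | rfl
  exacts [.inl (f.ah_eq h .one), .inr (f.ah_eq h f.ah_k)]

theorem ln (h : Ah a b x₁ x₂ g (-1) m) : g = t ∨ g = k' := by
  have h1 := h.mul f.ah_t
  rw [neg_mul_neg, one_mul] at h1
  rcases f.l1 h1 with e | e
  · exact .inl (mul_right_cancel (e.trans (t2 f.c).symm))
  · exact .inr (by rw [f.kk, ← e, mul_assoc, t2 f.c, mul_one])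

theorem pm (h : Ah a b x₁ x₂ g l m) (hl : l * l = 1) : m * m = 1 := by
  rcases mul_self_eq_one_iff.1 hl with rfl | rfl
  · rcases f.l1 h with rfl | rfl
    · simp [f.symm.ah_l h.symm .one]
    · simp [f.symm.ah_l h.symm f.ah_k.symm]
  · rcases f.ln h with rfl | rfl
    · simp [f.symm.ah_l h.symm f.ah_t.symm]
    · simp [f.symm.ah_l h.symm f.symm.ah_k]

theorem t_pow (h : Ah a b x₁ x₂ g l m) (hl : ¬ IsSquare l) (hm : ¬ IsSquare m) :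
    ∃ j : ℕ, g ^ j = t := by
  have h1 := h.pow ((Fintype.card F₁ - 1) / 2)
  have h2 := h.symm.pow ((Fintype.card F₂ - 1) / 2)
  rw [nsq_pow f.two h.l0 hl] at h1
  rw [nsq_pow f.symm.two h.m0 hm] at h2
  rcases f.ln h1 with e | e
  · exact ⟨_, e⟩
  rcases f.symm.ln h2 with e' | e'
  · exact ⟨_, e'⟩
  exact ⟨(Fintype.card F₂ - 1) / 2 + (Fintype.card F₁ - 1) / 2,
    by rw [pow_add, e', e, f.kk, ← mul_assoc, f.k2, one_mul]⟩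

theorem st_J (hs : s ∈ Jsw t a b) (hk : s * k = k * s) (ty : Ty a b k s) : IsConj t (s * t) := by
  obtain ⟨s', hs', hk', ty', -⟩ := f.symm.sc₁
  obtain ⟨μ, ν, hv⟩ := f.jk_sv hs hk
  obtain ⟨μ', ν', hv'⟩ := f.jk_sv hs' (f.symm.jk' hs' hk')
  have h1 := (f.ty_iff hv.s₁).1 ty
  have h2 := (f.symm.ty_iff hv'.s₂).1 ty'
  obtain ⟨j, e⟩ := f.t_pow (f.sv_mul hv hv')
    (nsq_div' hv.s₁.1 h1 ((f.symm.sv_or hs' hk' hv'.symm).1 h2))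
    (nsq_div hv'.s₂.1 h2 ((f.sv_or hs hk hv).1 h1))
  rw [← e]
  refine e ▸ conj_pow (j2 f.c hs.1) (f.sv_inv hv (f.sv_mul hv hv')) hs.1 ?_ j
  rw [← mul_assoc, j2 f.c hs.1, one_mul]
  exact hs'.1

theorem ac_h {c : F₁} (hc : c ≠ 0) : Ac x₁ (sl2h x₁ y₁ c) (c ^ 2) := h_x f.X.rel hc

theorem h_st {c : F₁} (hc : c ≠ 0) : sl2h x₁ y₁ c ∈ St G a b := mem_St.2 ⟨f.X.ha hc, f.X.hb hc⟩

theorem cu_ne : CU U {k} a ≠ ⊥ := fun e => by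
  have := f.X.xA 1
  rw [e, mem_bot, ← f.X.rel.x_zero] at this
  exact one_ne_zero (f.ld₁.inj this)

theorem t_mem : t ∈ CU U {k} a ⊔ CU U {k} b := by
  obtain ⟨s, hs, hk, ty, -⟩ := f.sc₁
  have hJ := f.st_J hs hk ty
  obtain ⟨p, pa, pb, hp, hp'⟩ := ty
  obtain ⟨i, hi⟩ := f.sq_neg
  have i0 : i ≠ 0 := fun e => by simp [e] at hi
  obtain ⟨l, hl, la, lb⟩ := H72.HKS.lx_two f.c.toRg f.c.ne f.sub f.cu_ne p (by simpa using hp') (t • p)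
    (by simpa using fix_of_comm f.tk.symm hp') fun e => (fixt f.c e.symm).elim pa pb
  have e1 : l⁻¹ * s * l⁻¹⁻¹ = t := jst f.c (hs.1.trans (isConj_iff.2 ⟨_, rfl⟩)) (by
    have := conj_mem_St l⁻¹ (mem_St.2 ⟨hp, fix_of_comm ((f.c.cent s).2 (.inr hs.2)).symm hp⟩)
    rwa [← lb, ← la, inv_smul_smul, inv_smul_smul] at this)
  have hh := f.X.h_mem i0
  have h2 : sl2h x₁ y₁ i ^ 2 = 1 := by rw [H44.HK.h_pow f.X.rel i0, sq, ← hi, f.psl₁]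
  have ha := f.ac_h i0
  rw [sq, ← hi] at ha
  have hst := f.h_st i0
  generalize sl2h x₁ y₁ i = h at hh h2 ha hst
  have h3 := mul_mem f.c.st hst
  have h4 : ∀ l ∈ LX U {k}, t * h * l = l * (t * h) := by
    refine H72.HKS.lx_comm f.c.toRg f.c.ne f.sub _ fun q hq => ?_
    by_cases qa : q = a
    · rw [qa, (mem_St.1 h3).1]
    by_cases qb : q = b
    · rw [qb, (mem_St.1 h3).2]
    obtain ⟨e, -, rfl⟩ := f.fixk qa qb (hq k rfl)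
    simpa using (f.ac_t.mul ha).smul (mem_St.1 h3).2 e
  have h5 : s * t = l * h * l⁻¹ * h := by
    have e2 : s = l * t * l⁻¹ := by rw [← e1]; group
    have e3 : t * l⁻¹ = h * l⁻¹ * h * t := by
      rw [mul_assoc, ht f.c hst, mul_assoc, ← h4 _ (inv_mem hl), ← mul_assoc, ← mul_assoc, ht f.c hst,
        mul_assoc t, ← sq, h2, mul_one]
    rw [e2, mul_assoc l, e3, mul_assoc, mul_assoc _ t, t2 f.c]
    group
  rw [f.lx] at hl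
  obtain ⟨l', -, e⟩ := f.X.inv_psl f.psl₁ (g := s * t) (k := h)
    (h5 ▸ mul_mem (mul_mem (mul_mem hl hh) (inv_mem hl)) hh) hh (oJ f.c hJ)
    (orderOf_eq_prime h2 fun e => one_ne f.two (Ac.uniq f.ld₁.inj .one (e ▸ ha)))
  exact jst f.c (hJ.trans (isConj_iff.2 ⟨_, e⟩)) hst ▸ hh

theorem inv_L (hw : w ∈ CU U {k} a ⊔ CU U {k} b) (h : orderOf w = 2) : IsConj t w := by
  obtain ⟨l, -, e⟩ := f.X.inv_psl f.psl₁ f.t_mem hw f.c.ord h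
  exact isConj_iff.2 ⟨l, e⟩

theorem n_jk {d : F₁} (hd : d ≠ 0) :
    sl2n x₁ y₁ d ∈ Jsw t a b ∧ sl2n x₁ y₁ d * k = k * sl2n x₁ y₁ d :=
  ⟨⟨f.inv_L (f.X.n_mem hd) (orderOf_eq_prime (by rw [sq, n_sq f.X.rel hd, f.psl₁]) fun e =>
    f.c.ne (by simpa [e] using f.X.na hd)), f.ld₁.sw d hd⟩, f.lk (f.X.n_mem hd)⟩

theorem n_as {d : F₁} (hd : d ≠ 0) : As x₁ b (sl2n x₁ y₁ d) (d ^ 2) :=
  ⟨pow_ne_zero 2 hd, fun _ hc => f.X.n_x_b hc hd⟩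

theorem n_iff (hs : s ∈ Jsw t a b) (h : As x₁ b s μ) :
    (∃ d, d ≠ 0 ∧ s = sl2n x₁ y₁ d) ↔ IsSquare μ := by
  refine ⟨?_, fun hμ => ?_⟩
  · rintro ⟨d, hd, rfl⟩
    exact h.uniq f.X (f.n_as hd) ▸ ⟨d, sq d⟩
  obtain ⟨p, pa, pb, hp, hp'⟩ := (f.ty_iff h).2 hμ
  obtain ⟨e, he, rfl⟩ := f.fixk pa pb hp'
  obtain ⟨i, hi⟩ := f.sq_neg
  have h0 : i * e ≠ 0 := mul_ne_zero (fun e => by simp [e] at hi) he
  refine ⟨_, h0, f.c.scu s hs _ (f.n_jk h0).1 _ hp ?_⟩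
  rw [f.X.n_x_b he h0]
  congr 2
  rw [← neg_div, div_eq_iff he]
  linear_combination e ^ 2 * hi

theorem n_sv {d : F₁} (hd : d ≠ 0) :
    ∃ ν, ¬ IsSquare ν ∧ Sv a b x₁ x₂ (sl2n x₁ y₁ d) (d ^ 2) ν := by
  obtain ⟨μ, ν, h⟩ := f.jk_sv (f.n_jk hd).1 (f.n_jk hd).2
  obtain rfl := h.s₁.uniq f.X (f.n_as hd)
  exact ⟨ν, (f.sv_or (f.n_jk hd).1 (f.n_jk hd).2 h).1 ⟨d, sq d⟩, h⟩

theorem exists_g (h0 : m ≠ 0) (hm : ¬ IsSquare m) : ∃ d l, d ≠ 0 ∧ ¬ IsSquare l ∧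
    Ah a b x₁ x₂ (sl2n x₁ y₁ 1 * sl2n x₂ y₂ d) l m := by
  obtain ⟨ν, hν, hv⟩ := f.n_sv one_ne_zero
  obtain ⟨d, hd⟩ := sq_div f.symm.two hv.s₂.1 h0 hν hm
  have d0 : d ≠ 0 := fun e => div_ne_zero hv.s₂.1 h0 (by simpa [e] using hd)
  obtain ⟨μ, hμ, hv'⟩ := f.symm.n_sv d0
  have h := f.sv_mul hv hv'.symm
  rw [sq d, ← hd, div_div_cancel₀ hv.s₂.1] at h
  exact ⟨d, _, d0, nsq_div' (by simp) ⟨1, sq 1⟩ hμ, h⟩

theorem card_dvd : Fintype.card F₂ - 1 ∣ Fintype.card F₁ - 1 := by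
  obtain ⟨θ, hθ⟩ := exists_gen F₂
  obtain ⟨d, l, -, -, h⟩ := f.exists_g (gen_ne hθ) (gen_nsq f.symm.two hθ)
  have := f.pm (h.pow _) (pow_pm f.two h.l0)
  have h4 := f.mod
  rw [← pow_add, show (Fintype.card F₁ - 1) / 2 + (Fintype.card F₁ - 1) / 2 = Fintype.card F₁ - 1 by
    omega] at this
  exact hθ ▸ orderOf_dvd_of_pow_eq_one this

theorem card_eq : Fintype.card F₂ = Fintype.card F₁ := by
  have := Nat.dvd_antisymm f.card_dvd f.symm.card_dvd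
  have := f.mod
  have := f.symm.mod
  omega

theorem not_k (hs : s ∈ Jsw t a b) (hk : s * k = k * s) : s * k ∉ Jsw t a b := fun h => by
  have hk' : s * k * k = k * (s * k) := by rw [← mul_assoc, hk]
  obtain ⟨μ, ν, hv⟩ := f.jk_sv hs hk
  have hv' := hv.mul_ah f.ah_k
  rw [div_one] at hv'
  have e : s * (s * k) = k := by rw [← mul_assoc, j2 f.c hs.1, one_mul]
  have ok : orderOf k = 2 := orderOf_eq_prime (by rw [sq, f.k2]) f.k1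
  by_cases hμ : IsSquare μ
  · obtain ⟨d, hd, e1⟩ := (f.n_iff hs hv.s₁).2 hμ
    obtain ⟨d', hd', e2⟩ := (f.n_iff h hv'.s₁).2 hμ
    have := mul_mem (f.X.n_mem hd) (f.X.n_mem hd')
    rw [← e1, ← e2, e] at this
    exact f.kt (jst f.c (f.inv_L this ok) f.kst)
  · obtain ⟨d, hd, e1⟩ := (f.symm.n_iff hs hv.s₂).2 (by simpa [hμ] using f.sv_or hs hk hv)
    obtain ⟨d', hd', e2⟩ := (f.symm.n_iff h hv'.s₂).2 (by simpa [hμ] using f.sv_or h hk' hv')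
    have := mul_mem (f.symm.X.n_mem hd) (f.symm.X.n_mem hd')
    rw [← e1, ← e2, e] at this
    exact f.kt (jst f.c (f.symm.inv_L this ok) f.kst)

/-- An element centralising the torus acts by scalars. -/
theorem ac_of_comm (hg : g ∈ St G a b) (hk : g * k = k * g)
    (h : ∀ c, c ≠ 0 → g * sl2h x₁ y₁ c = sl2h x₁ y₁ c * g) : ∃ l, l ≠ 0 ∧ Ac x₁ g l := by
  have hn := centralizer_le_normalizer _ (H44.HK.mem_c1.2 hk)
  obtain ⟨l, σ, l0, h1, -, -, h2⟩ := f.X.semi hg (H3.HK2.norm_CU f.X.sr hn (mem_St.1 hg).1)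
    (H3.HK2.norm_CU f.X.sr hn (mem_St.1 hg).2)
  suffices e : ∀ c, c ≠ 0 → σ c ^ 2 = c ^ 2 from ⟨l, l0, fun c => by rw [h1, aut_pm f.two σ e]⟩
  intro c hc
  have := h2 c hc
  rw [h c hc, mul_inv_cancel_right] at this
  exact Ac.uniq f.ld₁.inj (f.ac_h (by simpa using hc)) (this ▸ f.ac_h hc)

theorem hasCK : HasCK U a b t k := by
  obtain ⟨θ, hθ⟩ := exists_gen F₂
  have θn := gen_nsq f.symm.two hθ
  obtain ⟨d, l, d0, ln, hg⟩ := f.exists_g (gen_ne hθ) θn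
  obtain ⟨ν, hν, hv⟩ := f.n_sv one_ne_zero
  obtain ⟨hs, hk⟩ := f.n_jk one_ne_zero
  have s2 := j2 f.c hs.1
  have hq := f.card_eq
  have sg : sl2n x₁ y₁ 1 * (sl2n x₁ y₁ 1 * sl2n x₂ y₂ d) = sl2n x₂ y₂ d := by
    rw [← mul_assoc, s2, one_mul]
  generalize sl2n x₁ y₁ 1 * sl2n x₂ y₂ d = g at hg sg
  have inv := f.sv_inv hv hg
  have og : orderOf g = orderOf θ := orderOf_eq_orderOf_iff.2 fun n => ⟨fun e =>
    f.symm.ah_l (hg.pow n).symm (e ▸ Ah.one), fun e => by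
      obtain ⟨j, rfl⟩ := orderOf_dvd_of_pow_eq_one e
      have h1 := hg.pow (orderOf θ)
      rw [pow_orderOf_eq_one, hθ, hq, FiniteField.pow_card_sub_one_eq_one l hg.l0] at h1
      rw [pow_mul, hθ, hq, f.ah_eq h1 .one, one_pow]⟩
  have half : g ^ ((Fintype.card F₁ - 1) / 2) = t := by
    have h1 := hg.pow ((Fintype.card F₁ - 1) / 2)
    rw [nsq_pow f.two hg.l0 ln, ← hq, nsq_pow f.symm.two hg.m0 θn, hq] at h1
    exact f.ah_eq h1 f.ah_t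
  have kn : ∀ j : ℕ, g ^ j ≠ k := fun j e => f.kt (by
    have h1 := f.symm.ah_l (hg.pow j).symm (e ▸ f.ah_k.symm)
    rw [← nsq_pow f.symm.two hg.m0 θn, (isOfFinOrder_iff_pow_eq_one.2 ⟨_, og ▸ orderOf_pos g,
      pow_orderOf_eq_one θ⟩).pow_eq_pow_iff_modEq, ← og, ← pow_eq_pow_iff_modEq,
      hq, half] at h1
    rw [← e, h1])
  have ol : orderOf l = orderOf g := orderOf_eq_orderOf_iff.2 fun n => ⟨fun e =>
    (f.l1 (e ▸ hg.pow n)).resolve_right (kn n), fun e => f.ah_l (hg.pow n) (e ▸ Ah.one)⟩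
  have all : ∀ u l' m', Ah a b x₁ x₂ u l' m' → ∃ i : ℕ, u = g ^ i ∨ u = g ^ i * k := by
    intro u l' m' hu
    obtain ⟨j, rfl⟩ := gen_pow (ol.trans (og.trans (hθ.trans (by rw [hq])))) hu.l0
    have h1 := (hg.pow j).inv.mul hu
    rw [inv_mul_cancel₀ hu.l0] at h1
    exact ⟨j, (f.l1 h1).imp (fun e => (inv_mul_eq_one.1 e).symm) inv_mul_eq_iff_eq_mul.1⟩
  have gk := f.ah_comm hg f.ah_k
  have jk : ∀ i : ℕ, sl2n x₁ y₁ 1 * g ^ i ∈ Jsw t a b ∧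
      sl2n x₁ y₁ 1 * g ^ i * k = k * (sl2n x₁ y₁ 1 * g ^ i) := fun i =>
    ⟨⟨conj_pow s2 inv hs.1 (sg ▸ (f.symm.n_jk d0).1.1) i, sw_mul_st hs.2 (hg.pow i).st⟩,
      (Commute.mul_left hk (Commute.pow_left gk i)).eq⟩
  have js : ∀ w, (w ∈ Jsw t a b ∧ w * k = k * w) ↔ ∃ i : ℕ, w = sl2n x₁ y₁ 1 * g ^ i := by
    refine fun w => ⟨fun ⟨hw, wk⟩ => ?_, fun ⟨i, e⟩ => e ▸ jk i⟩
    obtain ⟨μ', ν', hv'⟩ := f.jk_sv hw wk
    obtain ⟨i, e | e⟩ := all _ _ _ (f.sv_mul hv hv')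
    · exact ⟨i, by rw [← e, ← mul_assoc, s2, one_mul]⟩
    · exact absurd (by rwa [mul_assoc, ← e, ← mul_assoc, s2, one_mul]) (f.not_k (jk i).1 (jk i).2)
  have sqi : ∀ i : ℕ, IsSquare (1 ^ 2 / l ^ i) ↔ Even i := fun i => by
    rw [one_pow, one_div, isSquare_inv, sq_pow_iff f.two hg.l0 ln]
  have ni : ∀ i : ℕ, ((∃ c, c ≠ 0 ∧ sl2n x₁ y₁ 1 * g ^ i = sl2n x₁ y₁ c) ↔ Even i) ∧
      ((∃ c, c ≠ 0 ∧ sl2n x₁ y₁ 1 * g ^ i = sl2n x₂ y₂ c) ↔ Odd i) := fun i => by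
    have h1 := hv.mul_ah (hg.pow i)
    rw [f.n_iff (jk i).1 h1.s₁, f.symm.n_iff (jk i).1 h1.s₂, ← Nat.not_even_iff_odd, ← sqi,
      f.sv_or (jk i).1 (jk i).2 h1, not_not]
    exact ⟨.rfl, .rfl⟩
  have n₁ : ∀ w, (∃ c, c ≠ 0 ∧ w = sl2n x₁ y₁ c) ↔ ∃ i : ℕ, w = sl2n x₁ y₁ 1 * g ^ (2 * i) := by
    refine fun w => ⟨fun ⟨c, hc, e⟩ => ?_, fun ⟨i, e⟩ => e ▸ (ni _).1.2 (even_two_mul i)⟩
    obtain ⟨i, rfl⟩ := (js w).1 (e ▸ f.n_jk hc)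
    obtain ⟨j, rfl⟩ := (ni i).1.1 ⟨c, hc, e⟩
    exact ⟨j, by rw [two_mul]⟩
  have n₂ : ∀ w, (∃ c, c ≠ 0 ∧ w = sl2n x₂ y₂ c) ↔ ∃ i : ℕ, w = sl2n x₁ y₁ 1 * g ^ (2 * i + 1) := by
    refine fun w => ⟨fun ⟨c, hc, e⟩ => ?_, fun ⟨i, e⟩ => e ▸ (ni _).2.2 (odd_two_mul_add_one i)⟩
    obtain ⟨i, rfl⟩ := (js w).1
      (e ▸ ⟨(f.symm.n_jk hc).1, f.symm.jk' (f.symm.n_jk hc).1 (f.symm.n_jk hc).2⟩)
    obtain ⟨j, rfl⟩ := (ni i).2.1 ⟨c, hc, e⟩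
    exact ⟨j, rfl⟩
  have zp : ∀ i j : ℕ, (g ^ (2 * i))⁻¹ * g ^ (2 * j) ∈ zpowers (g ^ 2) := fun i j => by
    rw [pow_mul, pow_mul]
    exact mul_mem (inv_mem (npow_mem_zpowers _ _)) (npow_mem_zpowers _ _)
  have h₁ : ∀ w, w ∈ zpowers (g ^ 2) ↔ ∃ c, c ≠ 0 ∧ w = sl2h x₁ y₁ c := by
    refine fun w => ⟨fun h => ?_, fun ⟨c, hc, e⟩ => ?_⟩
    · obtain ⟨i, rfl⟩ := mem_powers_iff_mem_zpowers.2 h
      obtain ⟨c, hc, e⟩ := (n₁ _).2 ⟨i, rfl⟩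
      refine ⟨1 / -c, by simpa using hc, ?_⟩
      rw [← n_n f.X.rel one_ne_zero (neg_ne_zero.2 hc), neg_neg, ← e, ← mul_assoc, s2, one_mul,
        pow_mul]
    · obtain ⟨i, hi⟩ := (n₁ _).1 ⟨c, hc, rfl⟩
      obtain ⟨j, hj⟩ := (n₁ _).1 ⟨-1, by simp, rfl⟩
      rw [e, sl2h, hi, hj, mul_sw s2 inv]
      exact zp i j
  have h₂ : ∀ w, w ∈ zpowers (g ^ 2) ↔ ∃ c, c ≠ 0 ∧ w = sl2h x₂ y₂ c := by
    refine fun w => ⟨fun h => ?_, fun ⟨c, hc, e⟩ => ?_⟩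
    · obtain ⟨i, rfl⟩ := mem_powers_iff_mem_zpowers.2 h
      obtain ⟨c, hc, e⟩ := (n₂ _).2 ⟨i, rfl⟩
      refine ⟨d / -c, by simpa using ⟨d0, hc⟩, ?_⟩
      rw [← n_n f.symm.X.rel d0 (neg_ne_zero.2 hc), neg_neg, ← e, ← sg, ← mul_assoc, inv]
      group
    · obtain ⟨i, hi⟩ := (n₂ _).1 ⟨c, hc, rfl⟩
      obtain ⟨j, hj⟩ := (n₂ _).1 ⟨-1, by simp, rfl⟩
      rw [e, sl2h, hi, hj, mul_sw s2 inv]
      convert zp i j using 1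
      group
  obtain rfl := f.kk
  refine ⟨g, _, F₁, F₂, _, _, _, _, x₁, y₁, x₂, y₂, l, θ, f.ld₁, f.ld₂, f.psl₁, f.psl₂, rfl, hq, f.mod,
    ?_, fun _ => f.dec, hg.st, gk, by rw [og, hθ, hq], half, by rw [ol, og, hθ, hq], by rw [hθ, hq],
    hg.a₁, hg.a₂, h₁, h₂, by rw [inv_eq_of_mul_eq_one_right s2, inv], js, n₁, n₂,
    fun u hu uk ug => ?_, fun h => ?_⟩
  · rw [f.cardU, Nat.card_eq_fintype_card, Nat.card_eq_fintype_card, hq, sq]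
  · have cm : ∀ w ∈ zpowers (g ^ 2), u * w = w * u := by
      rintro _ ⟨n, rfl⟩
      exact (Commute.zpow_right ug n).eq
    obtain ⟨l', l0, h1⟩ := f.ac_of_comm hu uk fun c hc => cm _ ((h₁ _).2 ⟨c, hc, rfl⟩)
    obtain ⟨m', m0, h2⟩ := f.symm.ac_of_comm hu (f.ck' uk (ht f.c hu))
      fun c hc => cm _ ((h₂ _).2 ⟨c, hc, rfl⟩)
    exact all u l' m' ⟨hu, l0, m0, h1, h2⟩
  · obtain ⟨j, e⟩ := mem_powers_iff_mem_zpowers.2 h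
    exact kn j e

end Fr

theorem jobIIc : JobIIc.{u} := by
  intro G Ω _ _ _ U a b t k c hk ok kt
  have k2 : k * k = 1 := by rw [← sq, ← ok, pow_orderOf_eq_one]
  have k1 : k ≠ 1 := fun e => by simp [e] at ok
  have hk' := mul_mem hk c.st
  have k2' : k * t * (k * t) = 1 := by
    rw [mul_assoc, ← mul_assoc t, ← ht c hk, mul_assoc, t2 c, mul_one, k2]
  obtain ⟨F₁, _, _, x₁, y₁, l₁, p₁⟩ := c.typ {k} (by simpa using hk) ⟨k, rfl, k1⟩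
    fun e => kt (c.uniq k hk k2 e)
  obtain ⟨F₂, _, _, x₂, y₂, l₂, p₂⟩ := c.typ {k * t} (by simpa using hk')
    ⟨_, rfl, fun e => kt (mul_right_cancel (e.trans (t2 c).symm))⟩
    fun e => k1 (by simpa using c.uniq _ hk' k2' e)
  exact Fr.hasCK ⟨c, hk, k2, k1, kt, rfl, l₁, l₂, p₁, p₂⟩

end H38.HK2
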