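import Cfsg.Agent.H38.HK2p
import Cfsg.Agent.H98.Sylow

/-! HKS chapter II: the Sylow `2`-subgroup (job IId). -/

set_option autoImplicit false

namespace H38.HK2

open MulAction Cfsg Subgroup H89.K H65 H7.HKS H31.HK

universe u

variable {G Ω : Type u} [Group G] [MulAction G Ω] {U : Ω → Subgroup G} {a b : Ω}
  {t k g h s u v w : G} {S : Subgroup G} {q m o n : ℕ}

/-- Semilinear action on a root group. -/
def Sm {F : Type} [Field F] (x : F → G) (u : G) (l : F) (σ : RingAut F) : Prop :=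
  ∀ c, u * x c * u⁻¹ = x (l * σ c)

section Sm

variable {F : Type} [Field F] {x : F → G} {l l' : F} {σ σ' : RingAut F}

theorem Sm.mul (h : Sm x u l σ) (h' : Sm x v l' σ') : Sm x (u * v) (l * σ l') (σ * σ') := fun c => by
  rw [RingAut.mul_apply, mul_assoc l, ← map_mul, ← h, ← h']; group

theorem Sm.uniq (hx : Function.Injective x) (h0 : l ≠ 0) (h : Sm x u l σ) (h' : Sm x u l' σ') :
    l = l' ∧ σ = σ' := by
  obtain rfl : l = l' := by simpa using hx ((h 1).symm.trans (h' 1))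
  exact ⟨rfl, RingEquiv.ext fun c => mul_left_cancel₀ h0 (hx ((h c).symm.trans (h' c)))⟩

theorem Ac.sm (h : Ac x u l) : Sm x u l 1 := h

theorem Sm.conj (h0 : l ≠ 0) (h : Sm x u l σ) (h' : Ac x v l') : Ac x (u * v * u⁻¹) (σ l') :=
  fun c => by
    obtain ⟨d, rfl⟩ : ∃ d, c = l * σ d := ⟨σ.symm (c / l), by simp [mul_div_cancel₀ _ h0]⟩
    rw [mul_left_comm, ← map_mul, ← h, ← h, ← h']; group

end Sm

variable {F₁ F₂ : Type} [Field F₁] [Fintype F₁] [Field F₂] [Fintype F₂] {x₁ y₁ : F₁ → G}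
  {x₂ y₂ : F₂ → G} {θ₁ : F₁} {θ₂ : F₂}

/-- The hypotheses of job IId. -/
structure Dd (U : Ω → Subgroup G) (a b : Ω) (t k g h s : G) (S : Subgroup G) (q m o : ℕ)
    (x₁ y₁ : F₁ → G) (x₂ y₂ : F₂ → G) (θ₁ : F₁) (θ₂ : F₂) : Prop where
  f : Fr U a b t k (k * t) x₁ y₁ x₂ y₂
  K : CK U a b t k g q x₁ y₁ x₂ y₂ θ₁ θ₂
  R : ∀ v ∈ St G a b, v * v = 1 → v * k = k * v → v = 1 ∨ v = t ∨ v = k ∨ v = k * t
  pS : IsPGroup 2 S
  oS : Odd S.index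
  tS : S ≤ centralizer {t}
  kS : k ∈ S
  sS : s ∈ S
  sJ : s ∈ Jsw t a b
  sk : s * k = k * s
  nk : ∀ g ∈ S, g * k * g⁻¹ = k ∨ g * k * g⁻¹ = k * t
  qm : q = 2 ^ (m + 2) * o + 1
  odd : Odd o
  hh : h = g ^ o

namespace Dd

variable [Finite G] (D : Dd U a b t k g h s S q m o x₁ y₁ x₂ y₂ θ₁ θ₂)
include D

theorem o₁ : orderOf θ₁ = Fintype.card F₁ - 1 := by rw [D.K.c₁, D.K.o₁]

theorem ag : Ah a b x₁ x₂ g θ₁ θ₂ :=
  ⟨D.K.gst, gen_ne D.o₁, gen_ne (by rw [D.K.c₂, D.K.o₂]), D.K.a₁, D.K.a₂⟩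

theorem ah : Ah a b x₁ x₂ h (θ₁ ^ o) (θ₂ ^ o) := D.hh ▸ D.ag.pow o

theorem geq {i j : ℕ} (e : θ₁ ^ i = θ₁ ^ j) : g ^ i = g ^ j := by
  rwa [(isOfFinOrder_iff_pow_eq_one.2 ⟨_, D.K.o₁ ▸ D.K.ord ▸ orderOf_pos g,
    pow_orderOf_eq_one θ₁⟩).pow_eq_pow_iff_modEq, D.K.o₁, ← D.K.ord, ← pow_eq_pow_iff_modEq] at e

theorem oh : orderOf h = 2 ^ (m + 2) := by
  have h0 := D.odd.pos
  rw [D.hh, orderOf_pow_of_dvd h0.ne' (by rw [D.K.ord, D.qm]; simp), D.K.ord, D.qm]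
  simp [h0]

theorem h_t : h ^ 2 ^ (m + 1) = t := by
  rw [D.hh, ← pow_mul, ← D.K.half, D.qm]
  congr 1
  rw [Nat.add_sub_cancel, pow_succ 2 (m + 1), mul_right_comm, Nat.mul_div_cancel _ two_pos, mul_comm]

theorem hk : h * k = k * h := D.f.ah_comm D.ah D.f.ah_k

theorem h_t' : h * t = t * h := ht D.f.c D.ah.st

theorem hg : h ∈ zpowers g := D.hh ▸ npow_mem_zpowers g o

theorem tg : t ∈ zpowers g := D.K.half ▸ npow_mem_zpowers g _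

theorem zinv (hv : v ∈ zpowers g) (v2 : v * v = 1) : v = 1 ∨ v = t := by
  obtain ⟨i, rfl⟩ := mem_powers_iff_mem_zpowers.2 hv
  rcases D.R _ (D.ag.pow i).st v2 (D.f.ah_comm (D.ag.pow i) D.f.ah_k) with e | e | e | e
  exacts [.inl e, .inr e, absurd (e ▸ hv) D.K.kn,
    absurd ((mul_mem_cancel_right D.tg).1 (e ▸ hv)) D.K.kn]

theorem Rh (hv : v ∈ St G a b) (v2 : v * v = 1) (vk : v * k = k * v) : v * h = h * v := by
  rcases D.R v hv v2 vk with rfl | rfl | rfl | rfl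
  exacts [by simp, D.h_t'.symm, D.hk.symm, (Commute.mul_right D.hk D.h_t').symm.eq]

theorem inv (hw : w ∈ Jsw t a b) (wk : w * k = k * w) (hv : v ∈ zpowers g) : w * v * w = v⁻¹ := by
  obtain ⟨i, rfl⟩ := mem_powers_iff_mem_zpowers.2 hv
  obtain ⟨μ, ν, hs⟩ := D.f.jk_sv hw wk
  exact D.f.sv_inv hs (D.ag.pow i)

theorem n1 : sl2n x₁ y₁ 1 ∈ Jsw t a b ∧ sl2n x₁ y₁ 1 * k = k * sl2n x₁ y₁ 1 :=
  (D.K.js _).2 ⟨0, by simp⟩

theorem jk_mul (hw : w ∈ Jsw t a b ∧ w * k = k * w) (hv : v ∈ Jsw t a b ∧ v * k = k * v) :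
    w * v ∈ zpowers g := by
  obtain ⟨i, rfl⟩ := (D.K.js _).1 hw
  obtain ⟨j, rfl⟩ := (D.K.js _).1 hv
  rw [← mul_assoc, D.inv D.n1.1 D.n1.2 (npow_mem_zpowers g i)]
  exact mul_mem (inv_mem (npow_mem_zpowers g i)) (npow_mem_zpowers g j)

theorem mul_jk (hw : w ∈ Jsw t a b ∧ w * k = k * w) (hv : v ∈ zpowers g) :
    w * v ∈ Jsw t a b ∧ w * v * k = k * (w * v) := by
  obtain ⟨i, rfl⟩ := (D.K.js _).1 hw
  obtain ⟨j, e⟩ := mem_powers_iff_mem_zpowers.2 (mul_mem (npow_mem_zpowers g i) hv)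
  exact (D.K.js _).2 ⟨j, by rw [mul_assoc, ← e]⟩

theorem sw_or (hw : w ∈ S) : w ∈ St G a b ∨ Sw w a b :=
  (D.f.c.cent w).1 (H44.HK.mem_c1.1 (D.tS hw))

theorem jk_conj (hw : w ∈ S) (hv : v ∈ Jsw t a b ∧ v * k = k * v) :
    w * v * w⁻¹ ∈ Jsw t a b ∧ w * v * w⁻¹ * k = k * (w * v * w⁻¹) := by
  refine ⟨⟨hv.1.1.trans (isConj_iff.2 ⟨w, rfl⟩), ?_⟩, ?_⟩
  · have h1 := (conj_smul_eq (g := w)).2 hv.1.2.1
    have h2 := (conj_smul_eq (g := w)).2 hv.1.2.2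
    rcases D.sw_or hw with e | e
    · rw [(mem_St.1 e).1, (mem_St.1 e).2] at h1 h2; exact ⟨h1, h2⟩
    · rw [e.1, e.2] at h1 h2; exact ⟨h2, h1⟩
  · have : v * (w⁻¹ * k * w⁻¹⁻¹) = w⁻¹ * k * w⁻¹⁻¹ * v := by
      rcases D.nk _ (inv_mem hw) with e | e <;> rw [e]
      exacts [hv.2, D.f.jk' hv.1 hv.2]
    calc _ = w * (v * (w⁻¹ * k * w⁻¹⁻¹)) * w⁻¹ := by group
      _ = _ := by rw [this]; group

theorem ng (hw : w ∈ S) : ∃ n : ℕ, w * g * w⁻¹ = g ^ n := by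
  obtain ⟨n, e⟩ := mem_powers_iff_mem_zpowers.2 (D.jk_mul (D.jk_conj hw D.n1)
    (D.jk_conj hw (D.mul_jk D.n1 (mem_zpowers g))))
  exact ⟨n, by rw [show g ^ n = _ from e, conj_mul, ← mul_assoc _ _ g, j2 D.f.c D.n1.1.1, one_mul]⟩

theorem nh (e : w * g * w⁻¹ = g ^ n) : w * h * w⁻¹ = h ^ n := by
  rw [D.hh, ← _root_.conj_pow, e, ← pow_mul, ← pow_mul, mul_comm]

theorem hS : h ∈ S := by
  refine (H72.HKS.isSyl_top D.pS D.oS).le_of_le_normalizer (Q := zpowers h)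
    (.of_card (by rw [Nat.card_zpowers, D.oh])) le_top (fun w hw => ?_) (mem_zpowers h)
  refine mem_normalizer_fintype ?_
  rintro _ ⟨i, rfl⟩
  obtain ⟨n, e⟩ := D.ng hw
  rw [← conj_zpow, D.nh e]
  exact zpow_mem (npow_mem_zpowers h n) i

theorem two_el (hv : v ∈ zpowers g) (vS : v ∈ S) : ∃ j : ℕ, v = h ^ j := by
  obtain ⟨i, rfl⟩ := mem_powers_iff_mem_zpowers.2 hv
  obtain ⟨e, he⟩ := D.pS ⟨_, vS⟩
  have h1 : orderOf g ∣ i * 2 ^ e :=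
    orderOf_dvd_of_pow_eq_one (by rw [pow_mul]; exact congrArg Subtype.val he)
  rw [D.K.ord, D.qm, Nat.add_sub_cancel] at h1
  obtain ⟨j, rfl⟩ := (Nat.Coprime.pow_right e (Nat.coprime_two_right.2 D.odd)).dvd_of_dvd_mul_right
    ((dvd_mul_left _ _).trans h1)
  exact ⟨j, by rw [D.hh, ← pow_mul]⟩

theorem A2 (uS : u ∈ S) (hu : u ∈ St G a b) (uk : u * k = k * u) (ug : u * g ^ 2 = g ^ 2 * u) :
    ∃ j : ℕ, u = h ^ j ∨ u = h ^ j * k := by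
  obtain ⟨i, rfl | rfl⟩ := D.K.lin u hu uk ug
  · exact (D.two_el (npow_mem_zpowers g i) uS).imp fun _ => .inl
  · exact (D.two_el (npow_mem_zpowers g i) ((mul_mem_cancel_right D.kS).1 uS)).imp
      fun _ e => .inr (by rw [e])

theorem ns (hw : w ∈ S ⊓ St G a b) : ∃ i : ℕ, w * s * w⁻¹ = s * h ^ i ∧ (w * k = k * w ∨ Odd i) := by
  have h1 := D.jk_conj hw.1 ⟨D.sJ, D.sk⟩
  obtain ⟨i, e⟩ := D.two_el (D.jk_mul ⟨D.sJ, D.sk⟩ h1)
    (mul_mem D.sS (mul_mem (mul_mem hw.1 D.sS) (inv_mem hw.1)))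
  refine ⟨i, by rw [← e, ← mul_assoc, j2 D.f.c D.sJ.1, one_mul], ?_⟩
  rcases D.nk w hw.1 with e1 | e1
  · exact .inl (mul_inv_eq_iff_eq_mul.1 e1)
  have e2 : w * (k * t) * w⁻¹ = k := by
    rw [← conj_mul, e1, ht D.f.c hw.2, mul_inv_cancel_right, mul_assoc, t2 D.f.c, mul_one]
  have cj : ∀ z, Ty a b z s → Ty a b (w * z * w⁻¹) (w * s * w⁻¹) := fun z ⟨p, pa, pb, h2, h3⟩ =>
    ⟨w • p, fun e => pa (by rwa [← (mem_St.1 hw.2).1, smul_left_cancel_iff] at e),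
      fun e => pb (by rwa [← (mem_St.1 hw.2).2, smul_left_cancel_iff] at e),
      conj_smul_eq.2 h2, conj_smul_eq.2 h3⟩
  obtain ⟨μ, ν, hv⟩ := D.f.jk_sv D.sJ D.sk
  obtain ⟨μ', ν', hv'⟩ := D.f.jk_sv h1.1 h1.2
  have h4 := D.f.ah_l (D.f.sv_mul hv hv') (e ▸ D.ah.pow i)
  refine .inr (Nat.not_even_iff_odd.1 fun h5 => ?_)
  have h6 := h4 ▸ h5.isSquare_pow (θ₁ ^ o)
  rcases D.f.ty_or D.sJ D.sk with ty | ty
  · exact nsq_div' hv.s₁.1 ((D.f.ty_iff hv.s₁).1 ty) (fun h7 => D.f.ty_not h1.1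
      ((D.f.ty_iff hv'.s₁).2 h7) (e1 ▸ cj _ ty)) h6
  · exact nsq_div hv'.s₁.1 ((D.f.ty_iff hv'.s₁).1 (e2 ▸ cj _ ty))
      (fun h7 => D.f.ty_not D.sJ ((D.f.ty_iff hv.s₁).2 h7) ty) h6

theorem sm (hu : u ∈ St G a b) (uk : u * k = k * u) : ∃ l σ, l ≠ 0 ∧ Sm x₁ u l σ := by
  have hn := centralizer_le_normalizer _ (H44.HK.mem_c1.2 uk)
  obtain ⟨l, σ, l0, h1, -⟩ := D.f.X.semi hu (H3.HK2.norm_CU D.f.X.sr hn (mem_St.1 hu).1)
    (H3.HK2.norm_CU D.f.X.sr hn (mem_St.1 hu).2)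
  exact ⟨l, σ, l0, h1⟩

variable {l : F₁} {σ : RingAut F₁}

theorem sm_g (l0 : l ≠ 0) (hs : Sm x₁ u l σ) (e : u * g * u⁻¹ = g ^ n) : σ θ₁ = θ₁ ^ n :=
  (hs.conj l0 D.K.a₁).uniq D.f.ld₁.inj (e ▸ (D.ag.pow n).a₁)

theorem sm_A2 (uS : u ∈ S ⊓ St G a b) (uk : u * k = k * u) (l0 : l ≠ 0) (hs : Sm x₁ u l 1) :
    ∃ j : ℕ, u = h ^ j ∨ u = h ^ j * k := by
  obtain ⟨n, e⟩ := D.ng uS.1
  rw [← D.geq ((pow_one _).trans (D.sm_g l0 hs e)), pow_one, mul_inv_eq_iff_eq_mul] at e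
  exact D.A2 uS.1 uS.2 uk (Commute.pow_right e 2).eq

theorem sm_one (uS : u ∈ S) (l0 : l ≠ 0) (hs : Sm x₁ u l σ) (uh : u * h = h * u) : σ = 1 := by
  have h1 := hs.conj l0 D.ah.a₁
  rw [uh, mul_inv_cancel_right] at h1
  obtain ⟨e, he⟩ := D.pS ⟨u, uS⟩
  have h2 : ∀ n : ℕ, ∃ l', l' ≠ 0 ∧ Sm x₁ (u ^ n) l' (σ ^ n) := fun n => by
    induction n with
    | zero => exact ⟨1, one_ne_zero, by simpa using Ac.one.sm⟩
    | succ n ih =>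
      obtain ⟨l', h0, h3⟩ := ih
      exact ⟨l' * (σ ^ n) l, mul_ne_zero h0 ((map_ne_zero _).2 l0),
        by rw [pow_succ, pow_succ]; exact h3.mul hs⟩
  obtain ⟨l', h0, h3⟩ := h2 (2 ^ e)
  rw [show u ^ 2 ^ e = 1 from congrArg Subtype.val he] at h3
  exact aut_one D.f.two D.o₁ D.odd (h1.uniq D.f.ld₁.inj D.ah.a₁)
    (h3.uniq D.f.ld₁.inj h0 Ac.one.sm).2

theorem ch (uS : u ∈ S ⊓ St G a b) (uk : u * k = k * u) (uh : u * h = h * u) :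
    ∃ j : ℕ, u = h ^ j ∨ u = h ^ j * k := by
  obtain ⟨l, σ, l0, hs⟩ := D.sm uS.2 uk
  obtain rfl := D.sm_one uS.1 l0 hs uh
  exact D.sm_A2 uS uk l0 hs

/-- The sign of an element of order four over `k`. -/
theorem sgn {i : F₁} (hu : u ∈ St G a b) (u2 : u * u = k) (l0 : l ≠ 0) (hs : Sm x₁ u l σ)
    (hi : i * i = -1) (hσ : σ i = -i) : False := by
  have := fin D.f.c
  obtain ⟨e1, e2⟩ := (hs.mul hs).uniq D.f.ld₁.inj (by simpa using l0) (u2 ▸ D.f.ac_k.sm)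
  have h1 := card_sq D.f.two hi hσ e2 e1
  obtain ⟨α, β, h2, h3, h4⟩ := fx4 (Ω := Ω) (H72.HKS.par D.f.c.toCore.pre).2.1 (y := u)
    (by rw [show 4 = 2 * 2 from rfl, pow_mul, sq, sq, u2, D.f.k2])
  have h5 : Nat.card (CU U {u} a) = {c | l * σ c = c}.ncard := by
    rw [← Set.ncard_image_of_injective _ D.f.ld₁.inj, ← Nat.card_coe_set_eq]
    refine congrArg (fun X : Set G => Nat.card X) (Set.ext fun z => ⟨fun hz => ?_, ?_⟩)
    · have h6 := H44.HK.mem_c1.1 hz.2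
      obtain ⟨c, rfl⟩ := (D.f.ld₁.rx z).1 ⟨hz.1, H44.HK.mem_c1.2 (u2 ▸ (Commute.mul_right h6 h6).eq)⟩
      exact ⟨c, D.f.ld₁.inj (by rw [← hs, ← h6, mul_inv_cancel_right]), rfl⟩
    · rintro ⟨c, hc, rfl⟩
      exact ⟨(D.f.X.xA c).1, H44.HK.mem_c1.2 (mul_inv_eq_iff_eq_mul.1 (by rw [hs, hc])).symm⟩
  rw [H72.HKS.fx_card D.f.c.toRg D.f.c.ne (by simpa using hu), h5] at h2
  rw [sq, u2, H72.HKS.fx_card D.f.c.toRg D.f.c.ne D.f.sub, D.f.X.card_A,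
    Nat.card_eq_fintype_card (α := F₁), h1] at h3
  rw [H72.HKS.card_eq D.f.c.toRg a, D.K.cardU, ← D.K.c₁, h1] at h2 h3
  exact num4 (card_mod D.f.two hi hσ e2 e1) h2 h3 h4

theorem hz {j r : ℕ} (hr : Odd r) (e : h ^ (2 * j * r) = 1) : h ^ j = 1 ∨ h ^ j = t := by
  refine D.zinv (pow_mem D.hg j) ?_
  rw [← orderOf_dvd_iff_pow_eq_one, D.oh] at e
  rw [← pow_add, ← two_mul, ← orderOf_dvd_iff_pow_eq_one, D.oh]
  exact dvd_of_odd hr e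

theorem fld (uS : u ∈ S ⊓ St G a b) (uk : u * k = k * u) (uh : u * h ≠ h * u)
    (u2 : u * u * h = h * (u * u)) : 1 ≤ m ∧ u * h * u⁻¹ = h * t := by
  obtain ⟨l, σ, l0, hs⟩ := D.sm uS.2 uk
  obtain ⟨n, e⟩ := D.ng uS.1
  have e1 := D.nh e
  have e2 : ∀ j : ℕ, u * h ^ j * u⁻¹ = h ^ (n * j) := fun j => by rw [← _root_.conj_pow, e1, pow_mul]
  have e3 : h ^ (n * n) = h := by
    rw [← e2, ← e1, show u * (u * h * u⁻¹) * u⁻¹ = u * u * h * (u * u)⁻¹ by group, u2,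
      mul_inv_cancel_right]
  have e4 : σ (θ₁ ^ o) = (θ₁ ^ o) ^ n := by rw [map_pow, D.sm_g l0 hs e]; ring
  have hn : n % 4 = 1 ∨ n % 4 = 3 := by
    have h1 : n * n ≡ 1 [MOD 2 ^ (m + 2)] := by rw [← D.oh, ← pow_eq_pow_iff_modEq, e3, pow_one]
    have h2 := h1.of_dvd (dvd_pow_self 2 (by omega))
    have := (Nat.odd_mul.1 (Nat.odd_iff.2 h2)).1
    rw [Nat.odd_iff] at this
    omega
  rcases hn with hn | hn
  · obtain ⟨j, rfl⟩ : ∃ j, n = 4 * j + 1 := ⟨n / 4, by omega⟩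
    have h1 : h ^ (4 * j) = t := (D.hz (odd_two_mul_add_one j) (by
      rw [← mul_left_inj h, ← pow_succ, one_mul]
      exact (congrArg _ (by ring)).trans e3)).resolve_left fun h2 => uh (by
        rwa [pow_succ, h2, one_mul, mul_inv_eq_iff_eq_mul] at e1)
    refine ⟨?_, by rw [e1, pow_succ', h1]⟩
    rcases m with _ | m
    · exact absurd (by rw [← h1, pow_mul, show 4 = orderOf h from D.oh.symm, pow_orderOf_eq_one,
        one_pow]) (t1 D.f.c)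
    · omega
  exfalso
  obtain ⟨j, rfl⟩ : ∃ j, n = 4 * j + 3 := ⟨n / 4, by omega⟩
  have fx : ∀ i : ℕ, u * h ^ i * u⁻¹ = h ^ i → h ^ i = 1 ∨ h ^ i = t := fun i h1 =>
    D.hz (odd_two_mul_add_one j) (by
      rw [← mul_left_inj (h ^ i), ← pow_add, one_mul]
      exact (congrArg _ (by ring)).trans ((e2 i).symm.trans h1))
  have hi : (θ₁ ^ o) ^ 2 ^ m * (θ₁ ^ o) ^ 2 ^ m = -1 := by
    rw [← pow_add, ← two_mul, ← pow_succ']
    exact D.f.ah_l (D.ah.pow _) (D.h_t ▸ D.f.ah_t)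
  have hσ : σ ((θ₁ ^ o) ^ 2 ^ m) = -(θ₁ ^ o) ^ 2 ^ m := by
    rw [map_pow, e4, ← pow_mul, mul_comm, pow_mul, show 4 * j + 3 = 2 * (2 * j + 1) + 1 by ring,
      pow_succ, pow_mul _ 2, sq, hi, (odd_two_mul_add_one j).neg_one_pow, neg_one_mul]
  have h1 : h ^ (4 * j + 3 + 1) = t := (fx _ (by
      rw [e2, mul_add, pow_add, e3, mul_one, ← pow_succ'])).resolve_left fun h2 => by
    obtain ⟨c, hc⟩ := norm_neg hi hσ
    obtain ⟨r, hr⟩ := pow_o D.o₁ (l := c) (fun e => by simp [e] at hc) o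
    have h3 := congrArg (· ^ o) hc
    simp only [mul_pow, D.odd.neg_one_pow] at h3
    rw [← map_pow, hr, map_pow, e4, ← mul_pow, ← pow_succ',
      D.f.ah_l (D.ah.pow _) (h2 ▸ Ah.one), one_pow] at h3
    exact one_ne D.f.two h3
  have h2 : h * u * (h * u) = t * (u * u) := by rw [← h1, pow_succ', ← e1]; group
  have hS : h * u ∈ St G a b := mul_mem D.ah.st uS.2
  have hk : h * u * k = k * (h * u) := (Commute.mul_left D.hk uk).eq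
  have hs' : Sm x₁ (h * u) (θ₁ ^ o * l) σ := by simpa using D.ah.a₁.sm.mul hs
  obtain ⟨i, h3 | h3⟩ := D.ch (mul_mem uS uS) (Commute.mul_left uk uk).eq u2
  · rcases fx i (by rw [← h3]; group) with h4 | h4 <;> rw [← h3] at h4
    · exact uh (D.Rh uS.2 h4 uk)
    · have := D.Rh hS (by rw [h2, h4, t2 D.f.c]) hk
      exact uh (mul_left_cancel (a := h) (by rw [← mul_assoc, this]))
  · have h5 : h ^ i = u * u * k := by rw [h3, mul_assoc, D.f.k2, mul_one]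
    rcases fx i (by rw [h5, mul_assoc u u k, uk, ← mul_assoc, ← mul_assoc, mul_inv_cancel_right,
      mul_assoc, uk]) with h4 | h4 <;> rw [h4] at h3
    · exact D.sgn uS.2 (by rw [h3, one_mul]) l0 hs hi hσ
    · exact D.sgn hS (by rw [h2, h3, ← mul_assoc, t2 D.f.c, one_mul])
        (mul_ne_zero D.ah.l0 l0) hs' hi hσ

theorem gen : ∃ y ∈ S ⊓ St G a b, y * k = k * y ∧
    ∀ u ∈ S ⊓ St G a b, u * k = k * u → ∃ i j : ℕ, u = y ^ i * h ^ j := by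
  let P := S ⊓ St G a b ⊓ centralizer {k}
  choose l σ l0 hs using fun u : P => D.sm u.2.1.2 (H44.HK.mem_c1.1 u.2.2)
  let φ : P →* RingAut F₁ := MonoidHom.mk' σ fun u v =>
    ((hs (u * v)).uniq D.f.ld₁.inj (l0 _) ((hs u).mul (hs v))).2
  have := cyc_aut (F := F₁)
  have := Finite.of_surjective _ φ.rangeRestrict_surjective
  obtain ⟨⟨_, y, rfl⟩, hy⟩ := IsCyclic.exists_monoid_generator (α := φ.range)
  have ker : ∀ u : P, φ u = 1 → ∃ j : ℕ, (u : G) = h ^ j ∨ (u : G) = h ^ j * k := fun u e =>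
    D.sm_A2 u.2.1 (H44.HK.mem_c1.1 u.2.2) (l0 u) (e ▸ hs u)
  have dec : ∀ u ∈ S ⊓ St G a b, u * k = k * u → ∃ i j : ℕ,
      u = y ^ i * h ^ j ∨ u = y ^ i * (h ^ j * k) := fun u hu uk => by
    obtain ⟨i, e⟩ := hy ⟨_, ⟨u, hu, H44.HK.mem_c1.2 uk⟩, rfl⟩
    obtain ⟨j, h1⟩ := ker ((y ^ i)⁻¹ * ⟨u, hu, H44.HK.mem_c1.2 uk⟩) (by
      rw [map_mul, map_inv, map_pow, inv_mul_eq_one]; exact congrArg Subtype.val e)
    exact ⟨i, j, by simpa [inv_mul_eq_iff_eq_mul] using h1⟩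
  have kh : ∀ j : ℕ, h ^ j * k = k * h ^ j := fun j => (Commute.pow_left D.hk j).eq
  by_cases h0 : φ y = 1
  · refine ⟨k, ⟨D.kS, D.f.kst⟩, rfl, fun u hu uk => ?_⟩
    obtain ⟨i, e⟩ := hy ⟨_, ⟨u, hu, H44.HK.mem_c1.2 uk⟩, rfl⟩
    obtain ⟨j, e | e⟩ := ker ⟨u, hu, H44.HK.mem_c1.2 uk⟩ (by
      simpa [h0] using (congrArg Subtype.val e).symm)
    exacts [⟨0, j, by simpa using e⟩, ⟨1, j, by simpa [kh] using e⟩]
  obtain ⟨e, he⟩ := D.pS.to_le (show P ≤ S from fun _ h => h.1.1) y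
  obtain ⟨e, h1, h2⟩ := exists_step h0 (e := e) (by rw [← map_pow, he, map_one])
  rw [← map_pow, ← map_mul] at h2
  rw [← map_pow] at h1
  have h3 : ((y ^ 2 ^ e : P) : G) * h ≠ h * (y ^ 2 ^ e : P) := fun h3 =>
    h1 (D.sm_one (y ^ 2 ^ e).2.1.1 (l0 _) (hs _) h3)
  have hv := (y ^ 2 ^ e).2
  have vk := H44.HK.mem_c1.1 hv.2
  obtain ⟨j, h4 | h4⟩ := ker _ h2 <;> rw [coe_mul] at h4
  · exfalso
    generalize ((y ^ 2 ^ e : P) : G) = v at h3 hv vk h4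
    obtain ⟨hm, h5⟩ := D.fld hv.1 vk h3 (h4 ▸ (Commute.pow_self h j).eq)
    have h6 : ∀ i : ℕ, v * h ^ i * v⁻¹ = h ^ i * t ^ i := fun i => by
      rw [← _root_.conj_pow, h5, Commute.mul_pow D.h_t']
    obtain ⟨j, rfl⟩ : 2 ∣ j := by
      have := h6 j
      rw [← h4, mul_assoc v, mul_inv_cancel_right, left_eq_mul] at this
      exact D.f.c.ord ▸ orderOf_dvd_of_pow_eq_one this
    obtain ⟨m, rfl⟩ : ∃ n, m = n + 1 := ⟨m - 1, by omega⟩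
    obtain ⟨w, hw⟩ : ∃ w, 2 ^ m = w + 1 := ⟨2 ^ m - 1, by have := Nat.two_pow_pos m; omega⟩
    have h7 := D.Rh (v := h ^ (j * (6 * w + 5)) * v) (mul_mem (D.ah.pow _).st hv.1.2) (by
      rw [show ∀ z : G, z * v * (z * v) = z * (v * z * v⁻¹) * (v * v) from fun z => by group, h6, h4,
        ← D.h_t, ← pow_mul, ← pow_add, ← pow_add, ← pow_add, ← orderOf_dvd_iff_pow_eq_one, D.oh]
      exact ⟨j * (3 * w + 4), by simp only [pow_succ, hw]; ring⟩)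
      (Commute.mul_left (kh _) vk).eq
    rw [← mul_assoc, ← pow_succ', pow_succ, mul_assoc, mul_assoc] at h7
    exact h3 (mul_left_cancel h7)
  refine ⟨y, y.2.1, H44.HK.mem_c1.1 y.2.2, fun u hu uk => ?_⟩
  obtain ⟨j', h5⟩ := mem_powers_iff_mem_zpowers.2 (inv_mem (npow_mem_zpowers h j))
  have h6 : k = y ^ (2 ^ e + 2 ^ e) * h ^ j' := by
    rw [pow_add, ← coe_pow, h4, kh, show h ^ j' = _ from h5, mul_inv_cancel_right]
  obtain ⟨i, j, h7 | h7⟩ := dec u hu uk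
  · exact ⟨i, j, h7⟩
  · exact ⟨i + (2 ^ e + 2 ^ e), j' + j, by rw [h7, kh, pow_add _ i, pow_add h, mul_assoc,
      ← mul_assoc _ (h ^ j'), ← h6]⟩

theorem fx2 (hw : Sw w a b) (w2 : w * w = 1) (wk : w * k = k * w) : (Fx Ω {w, k}).ncard ≤ 2 := by
  have := fin D.f.c
  by_contra h0
  obtain ⟨c, hc, d, hd, e, he, cd, ce, de⟩ := (Set.two_lt_ncard (Set.toFinite _)).1 (not_le.1 h0)
  obtain ⟨z, hz, za, zb⟩ := H72.HKS.lx_two D.f.c.toRg D.f.c.ne D.f.sub D.f.cu_ne c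
    (H3.HK2.mem_ins.1 hc).2 d (H3.HK2.mem_ins.1 hd).2 cd
  have zk : z * k = k * z := H44.HK.mem_c1.1 (H72.HKS.lx_le hz)
  have h1 := conj_mem_St z⁻¹ (mem_St.2 ⟨hc w (by simp), hd w (by simp)⟩)
  rw [← za, ← zb, inv_smul_smul, inv_smul_smul] at h1
  have h2 : (z⁻¹ * w * z⁻¹⁻¹) • z⁻¹ • e = z⁻¹ • e := conj_smul_eq.2 (he w (by simp))
  have h3 : k • z⁻¹ • e = z⁻¹ • e := fix_of_comm (Commute.inv_left zk).eq (he k (by simp))
  have h4 : t • z⁻¹ • e ≠ z⁻¹ • e := fun h => (fixt D.f.c h).elim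
    (fun h => ce (by rw [← za, ← h, smul_inv_smul])) fun h => de (by rw [← zb, ← h, smul_inv_smul])
  have h5 : w • a ≠ a := hw.1 ▸ D.f.c.ne.symm
  rcases D.R _ h1 (by rw [conj_mul, w2]; simp)
    (Commute.mul_left (Commute.mul_left (Commute.inv_left zk) wk)
      (Commute.inv_left (Commute.inv_left zk))).eq with h | h | h | h
  · exact h5 (by rw [show w = z * (z⁻¹ * w * z⁻¹⁻¹) * z⁻¹ by group, h]; simp)
  · exact h4 (h ▸ h2)
  · exact h5 (by rw [show w = z * (z⁻¹ * w * z⁻¹⁻¹) * z⁻¹ by group, h, zk, mul_inv_cancel_right,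
      (mem_St.1 D.f.kst).1])
  · rw [h, D.f.tk, mul_smul, h3] at h2
    exact h4 h2

theorem iv₁ (hw : w ∈ S) (w2 : w * w = 1) (wk : w * k = k * w) :
    w ∈ closure {h, s} ∨ w * k ∈ closure {h, s} := by
  have hD : ∀ j : ℕ, h ^ j ∈ closure {h, s} := fun j => pow_mem (subset_closure (by simp)) j
  have sD : s ∈ closure {h, s} := subset_closure (by simp)
  rcases D.sw_or hw with e | e
  · rcases D.R w e w2 wk with rfl | rfl | rfl | rfl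
    exacts [.inl (one_mem _), .inl (D.h_t ▸ hD _), .inr (D.f.k2 ▸ one_mem _),
      .inr (by rw [D.f.tk, mul_assoc, D.f.k2, mul_one, ← D.h_t]; exact hD _)]
  have s2 := j2 D.f.c D.sJ.1
  obtain ⟨-, -, h1⟩ := D.f.swp e w2 wk (D.fx2 e w2 wk)
  obtain ⟨-, -, h2⟩ := D.f.swp D.sJ.2 s2 D.sk (D.fx2 D.sJ.2 s2 D.sk)
  obtain ⟨c, hc, h3⟩ := (D.K.h₁ _).1 (mem_zpowers _)
  obtain ⟨j, h4 | h4⟩ := D.A2 (mul_mem D.sS hw) (sw_mul D.sJ.2 e) (Commute.mul_left D.sk wk).eq (by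
    rw [h3, ← mul_inv_eq_iff_eq_mul, show ∀ z : G, s * w * z * (s * w)⁻¹ = s * (w * z * w⁻¹) * s⁻¹
      from fun z => by group, h1 c hc, h2 _ (inv_ne_zero hc), inv_inv])
  · exact .inl ((mul_mem_cancel_left sD).1 (h4 ▸ hD j))
  · exact .inr ((mul_mem_cancel_left sD).1 (by
      rw [← mul_assoc, h4, mul_assoc, D.f.k2, mul_one]; exact hD j))

theorem clo (hw : w ∈ closure {h, s}) : w ∈ zpowers g ∨ s * w ∈ zpowers g := by
  have s2 := j2 D.f.c D.sJ.1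
  have iv : ∀ z ∈ zpowers g, s * z * s ∈ zpowers g := fun z hz =>
    D.inv D.sJ D.sk hz ▸ inv_mem hz
  induction hw using closure_induction_left with
  | one => exact .inl (one_mem _)
  | mul_left z hz w _ ih =>
    rcases hz with rfl | rfl
    · refine ih.imp (mul_mem D.hg) fun h1 => ?_
      simpa [mul_assoc, ← mul_assoc s s, s2] using mul_mem (iv _ D.hg) h1
    · exact ih.symm.imp id fun h1 => by rwa [← mul_assoc, s2, one_mul]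
  | inv_mul_cancel z hz w _ ih =>
    rcases hz with rfl | rfl
    · refine ih.imp (mul_mem (inv_mem D.hg)) fun h1 => ?_
      simpa [mul_assoc, ← mul_assoc s s, s2] using mul_mem (iv _ (inv_mem D.hg)) h1
    · rw [inv_eq_of_mul_eq_one_right s2]
      exact ih.symm.imp id fun h1 => by rwa [← mul_assoc, s2, one_mul]

end Dd

theorem jobIId : JobIId.{u} := by
  intro G Ω _ _ _ U a b t k s S c ⟨g, q, F₁, F₂, _, _, _, _, x₁, y₁, x₂, y₂, θ₁, θ₂, K⟩ R pS oS tS kS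
    hk ok kt sS sJ nk iv tp
  have k2 : k * k = 1 := by rw [← sq, ← ok, pow_orderOf_eq_one]
  have s2 := j2 c sJ.1
  have h4 := K.mod
  obtain ⟨m, o, ho, e⟩ := Nat.exists_eq_two_pow_mul_odd (n := q - 1) (K.ord ▸ (orderOf_pos g).ne')
  obtain ⟨m, rfl⟩ : ∃ n, m = n + 2 := by
    rw [Nat.odd_iff] at ho
    rcases m with _ | _ | m
    exacts [by omega, by omega, ⟨m, rfl⟩]
  have D : Dd U a b t k g (g ^ o) s S q m o x₁ y₁ x₂ y₂ θ₁ θ₂ :=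
    ⟨⟨c, hk, k2, fun e => by simp [e] at ok, kt, rfl, K.ld₁, K.ld₂, K.psl₁, K.psl₂⟩, K, R, pS, oS, tS,
      kS, sS, sJ, iv s sS sJ.2 s2, nk, by omega, ho, rfl⟩
  generalize g ^ o = h at D
  obtain ⟨y, hy, yk, gen⟩ := D.gen
  have ns : ∀ w, Sw w a b → w ∉ S ⊓ St G a b := fun w h1 h2 =>
    c.ne ((mem_St.1 h2.2).1.symm.trans h1.1)
  have ht : h ^ 2 ^ (m + 2 - 1) = t := D.h_t
  refine ⟨h, y, m + 2, ⟨pS, inf_le_left, ?_, by omega, D.oh, ⟨D.hS, D.ah.st⟩,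
    ⟨kS, hk⟩, sS, ns s sJ.2, k2, fun h1 => K.kn (zpowers_le.2 D.hg h1), s2, D.hk, D.sk,
    D.inv sJ D.sk D.hg, fun w hw => (D.ng hw).imp fun _ => D.nh, ht ▸ nk, fun w => D.ns, hy, yk, gen,
    fun w => D.ch, fun w hw h1 h2 h3 => ht ▸ (D.fld hw h1 h2 h3).imp_left (by omega),
    fun w hw => ht ▸ tp _ (fun h1 => ?_) w hw.2, fun w => D.iv₁,
    fun w hw h1 => iv w hw ((D.sw_or hw).resolve_left fun h2 => h1 ⟨hw, h2⟩)⟩, fun w hw ow => ?_⟩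
  · refine relIndex_eq_two_iff.2 ⟨s, sS, fun w hw => ?_⟩
    rcases D.sw_or hw with h1 | h1
    · refine .inr ⟨⟨hw, h1⟩, ns _ ⟨?_, ?_⟩⟩
      · rw [mul_smul, sJ.2.1, (mem_St.1 h1).2]
      · rw [mul_smul, sJ.2.2, (mem_St.1 h1).1]
    · exact .inl ⟨⟨mul_mem hw sS, sw_mul h1 sJ.2⟩, ns _ h1⟩
  · rw [K.cardU, D.qm, show (2 ^ (m + 2) * o + 1) ^ 2 = 2 ^ (m + 3) * (o * (2 * (2 ^ m * o) + 1)) + 1
      by ring, Nat.add_sub_cancel, pow_succ 2 (m + 3), Nat.mul_dvd_mul_iff_left (by positivity)] at h1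
    exact (ho.mul (odd_two_mul_add_one _)).not_two_dvd_nat h1
  · have w2 : w * w = 1 := by rw [← sq, ← ow, pow_orderOf_eq_one]
    rcases D.clo hw with h1 | h1
    · rw [(D.zinv h1 w2).resolve_left fun e => by simp [e] at ow]
    · simpa [← mul_assoc, s2] using (D.mul_jk ⟨sJ, D.sk⟩ h1).1.1

end H38.HK2
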