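import Cfsg.Agent.H38.HK2c

/-! HKS chapter II: signs of elements of order four and automorphisms of finite fields. -/

set_option autoImplicit false

namespace H38.HK2

open MulAction Cfsg Subgroup H89.K H65 H7.HKS H31.HK Equiv

universe u

theorem sign4 {α : Type*} [Fintype α] [DecidableEq α] (σ : Perm α) (h : σ ^ 4 = 1) :
    ∃ a b, σ.support.card = 2 * a + 4 * b ∧ (σ ^ 2).support.card = 4 * b ∧
      Perm.sign σ = (-1) ^ (a + b) := by
  induction σ using Perm.cycle_induction_on with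
  | base_one => exact ⟨0, 0, by simp⟩
  | base_cycles σ hσ =>
    have h1 := orderOf_dvd_of_pow_eq_one h
    have h2 := hσ.two_le_card_support
    have h3 := hσ.orderOf
    have h4 := Nat.le_of_dvd (by norm_num) h1
    have h5 := hσ.sign
    rw [h3] at h1 h4
    have : σ.support.card = 2 ∨ σ.support.card = 4 := by
      generalize σ.support.card = n at h1 h2 h4
      interval_cases n <;> omega
    rcases this with e | e <;> rw [e] at h3 h5
    · exact ⟨1, 0, e, by rw [← h3, pow_orderOf_eq_one]; simp, by simpa using h5⟩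
    · exact ⟨0, 1, e, by rw [hσ.support_pow_eq_iff.2 (by rw [h3]; norm_num), e], by
        rw [h5]; decide⟩
  | induction_disjoint σ τ d _ h1 h2 =>
    rw [d.commute.mul_pow, (d.pow_disjoint_pow 4 4).mul_eq_one_iff] at h
    obtain ⟨a, b, e1, e2, e3⟩ := h1 h.1
    obtain ⟨a', b', e1', e2', e3'⟩ := h2 h.2
    refine ⟨a + a', b + b', by rw [d.card_support_mul]; omega, ?_, ?_⟩
    · rw [d.commute.mul_pow, (d.pow_disjoint_pow 2 2).card_support_mul]; omega
    · rw [map_mul, e3, e3', ← pow_add]; congr 1; ring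

theorem fx4 {G Ω : Type*} [Group G] [MulAction G Ω] [Finite Ω] (h : ∀ (f : G →* ℤˣ) g, f g = 1)
    {y : G} (hy : y ^ 4 = 1) : ∃ a b, Nat.card Ω = (Fx Ω {y}).ncard + 2 * a + 4 * b ∧
      Nat.card Ω = (Fx Ω {y ^ 2}).ncard + 4 * b ∧ Even (a + b) := by
  classical
  have := Fintype.ofFinite Ω
  have key : ∀ g : G, Nat.card Ω = (Fx Ω {g}).ncard + (toPermHom G Ω g).support.card := fun g => by
    rw [show Fx Ω {g} = ↑((toPermHom G Ω g).supportᶜ) by ext; simp, Set.ncard_coe_finset, add_comm,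
      Finset.card_add_card_compl, Nat.card_eq_fintype_card]
  obtain ⟨a, b, e1, e2, e3⟩ := sign4 (toPermHom G Ω y) (by rw [← map_pow, hy, map_one])
  refine ⟨a, b, by rw [key y, e1, add_assoc], by rw [key (y ^ 2), map_pow, e2], ?_⟩
  have := h (Perm.sign.comp (toPermHom G Ω)) y
  rw [MonoidHom.comp_apply, e3] at this
  by_contra h0
  rw [(Nat.not_even_iff_odd.1 h0).neg_one_pow] at this
  exact absurd this (by decide)

theorem num4 {r a b : ℕ} (hr : r % 4 = 3) (h1 : (r ^ 2) ^ 2 + 1 = r + 1 + 2 * a + 4 * b)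
    (h2 : (r ^ 2) ^ 2 + 1 = r ^ 2 + 1 + 4 * b) : ¬ Even (a + b) := by
  obtain ⟨j, rfl⟩ : ∃ j, r = 4 * j + 3 := ⟨r / 4, by omega⟩
  obtain ⟨n, hn⟩ : ∃ n, n = 2 * j * j + 3 * j + 1 := ⟨_, rfl⟩
  have e : (4 * j + 3) ^ 2 = 8 * n + 1 := by rw [hn]; ring
  have e' : (8 * n + 1) ^ 2 = 64 * (n * n) + 16 * n + 1 := by ring
  rw [e, e'] at h1 h2
  rw [Nat.even_iff]
  omega

theorem dvd_of_odd {m j o : ℕ} (ho : Odd o) (h : 2 ^ m ∣ j * o) : 2 ^ m ∣ j :=
  (Nat.Coprime.pow_left m (Nat.coprime_two_left.2 ho)).dvd_of_dvd_mul_right h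

theorem exists_step {H : Type*} [Group H] {σ : H} (h1 : σ ≠ 1) {e : ℕ} (h : σ ^ 2 ^ e = 1) :
    ∃ j, σ ^ 2 ^ j ≠ 1 ∧ σ ^ 2 ^ j * σ ^ 2 ^ j = 1 := by
  induction e with
  | zero => exact absurd (by simpa using h) h1
  | succ e ih =>
    by_cases h' : σ ^ 2 ^ e = 1
    · exact ih h'
    · exact ⟨e, h', by rw [← h, pow_succ 2, pow_mul, sq]⟩

section Fld

variable {F : Type} [Field F] [Fintype F] {θ i l : F} {o : ℕ} {σ : RingAut F}

theorem cyc_aut : IsCyclic (RingAut F) := by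
  have : Fact (ringChar F).Prime := ⟨CharP.char_is_prime F _⟩
  let _ := ZMod.algebra F (ringChar F)
  refine isCyclic_of_surjective
    (MonoidHom.mk' (fun σ : F ≃ₐ[ZMod (ringChar F)] F => (σ.toRingEquiv : RingAut F))
      fun _ _ => rfl) fun σ => ⟨AlgEquiv.ofRingEquiv (f := σ) fun a => ?_, rfl⟩
  exact RingHom.congr_fun (RingHom.ext_zmod ((σ : F →+* F).comp (algebraMap _ F)) (algebraMap _ F)) a

theorem pow_o (h : orderOf θ = Fintype.card F - 1) (hl : l ≠ 0) (o : ℕ) :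
    ∃ j : ℕ, l ^ o = (θ ^ o) ^ j := by
  obtain ⟨j, rfl⟩ := gen_pow h hl
  exact ⟨j, by ring⟩

theorem aut_one (h2 : (2 : F) ≠ 0) (h : orderOf θ = Fintype.card F - 1) (ho : Odd o)
    (hσ : σ (θ ^ o) = θ ^ o) {e : ℕ} (he : σ ^ 2 ^ e = 1) : σ = 1 := by
  by_contra h1
  obtain ⟨j, h3, h4⟩ := exists_step h1 he
  have h5 : (σ ^ 2 ^ j) (θ ^ o) = θ ^ o := by
    generalize 2 ^ j = n
    induction n with
    | zero => rfl
    | succ n ih => rw [pow_succ, RingAut.mul_apply, hσ, ih]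
  generalize σ ^ 2 ^ j = τ at h3 h4 h5
  refine h3 (RingEquiv.ext fun c => ?_)
  by_contra h6
  have h7 : c - τ c ≠ 0 := fun e => h6 (sub_eq_zero.1 e).symm
  obtain ⟨n, e⟩ := pow_o h h7 o
  have h8 := congrArg τ e
  rw [map_pow, map_pow τ (θ ^ o), h5, ← e, map_sub, ← RingAut.mul_apply, h4, RingAut.one_apply,
    ← neg_sub, ho.neg_pow] at h8
  exact mul_ne_zero h2 (pow_ne_zero o h7) (by linear_combination -h8)

theorem card_sq (h2 : (2 : F) ≠ 0) (hi : i * i = -1) (hσ : σ i = -i) (s2 : σ * σ = 1)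
    (hl : l * σ l = 1) : Fintype.card F = {c | l * σ c = c}.ncard ^ 2 := by
  have ss : ∀ c, σ (σ c) = c := fun c => by rw [← RingAut.mul_apply, s2, RingAut.one_apply]
  have i0 : i ≠ 0 := fun e => by simp [e] at hi
  rw [← Nat.card_coe_set_eq, sq, ← Nat.card_prod, ← Nat.card_eq_fintype_card]
  refine (Nat.card_eq_of_bijective (fun p => p.1.1 + i * p.2.1) ⟨?_, fun c => ?_⟩).symm
  · rintro ⟨⟨c, hc⟩, d, hd⟩ ⟨⟨c', hc'⟩, d', hd'⟩ e
    have e' := congrArg (fun z => l * σ z) e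
    simp only [map_add, map_mul, hσ, Set.mem_ofPred_eq] at e e' hc hd hc' hd'
    have h1 : c = c' := mul_left_cancel₀ h2 (by
      linear_combination e + e' - hc + hc' + i * hd - i * hd')
    subst h1
    obtain rfl : d = d' := mul_left_cancel₀ i0 (add_left_cancel e)
    rfl
  · refine ⟨⟨⟨(c + l * σ c) / 2, ?_⟩, ⟨(c - l * σ c) / (2 * i), ?_⟩⟩, ?_⟩
    · simp only [Set.mem_ofPred_eq, map_div₀, map_add, map_mul, map_ofNat, ss]
      field_simp
      linear_combination c * hl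
    · simp only [Set.mem_ofPred_eq, map_div₀, map_sub, map_mul, map_ofNat, ss, hσ]
      field_simp
      linear_combination c * hl
    · field_simp
      ring

theorem card_mod (h2 : (2 : F) ≠ 0) (hi : i * i = -1) (hσ : σ i = -i) (s2 : σ * σ = 1)
    (hl : l * σ l = 1) : {c | l * σ c = c}.ncard % 4 = 3 := by
  classical
  have h1 := (card_sq h2 hi hσ s2 hl).symm.trans (card_sq h2 hi hσ s2 (l := 1) (by simp))
  rw [Nat.pow_left_injective two_ne_zero h1]
  let K := RingHom.eqLocusField (σ : F →+* F) (RingHom.id F)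
  have := Fintype.ofFinite K
  have e : {c | 1 * σ c = c}.ncard = Fintype.card K := by
    rw [← Nat.card_eq_fintype_card, ← Nat.card_coe_set_eq]
    simp only [one_mul]
    rfl
  by_contra h3
  obtain ⟨⟨j, hj⟩, h4⟩ := FiniteField.isSquare_neg_one_iff.2 (e ▸ h3)
  have h5 : -1 = j * j := by simpa using congrArg Subtype.val h4
  have h6 : σ j = j := hj
  have i0 : i ≠ 0 := fun e => by simp [e] at hi
  rcases mul_self_eq_mul_self_iff.1 (hi.trans h5) with rfl | rfl
  · exact mul_ne_zero h2 i0 (by linear_combination hσ - h6)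
  · rw [map_neg, h6] at hσ
    exact mul_ne_zero h2 i0 (by linear_combination hσ)

theorem norm_neg (hi : i * i = -1) (hσ : σ i = -i) : ∃ c, c * σ c = -1 := by
  have : Fact (ringChar F).Prime := ⟨CharP.char_is_prime F _⟩
  obtain ⟨a, b, e⟩ := CharP.sq_add_sq F (ringChar F) (-1)
  refine ⟨a + b * i, ?_⟩
  simp only [map_add, map_mul, map_natCast, hσ]
  push_cast at e
  linear_combination e - (b : F) ^ 2 * hi

end Fld

end H38.HK2
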