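import Cfsg.Agent.H82.HRKit
import Cfsg.Agent.S1169
import Cfsg.Agent.H99.BenderB
import Cfsg.Agent.H82.Hub
import Cfsg.Agent.H24.Walter
import Cfsg.Agent.H42.ReeFinal
import Cfsg.Agent.H70.TPF
import Cfsg.Agent.H29.TPFV

/-! HR tower: job SC (the strongly closed case). -/

set_option autoImplicit false
set_option linter.unusedSectionVars false

namespace H38.HR

open MulAction Cfsg Subgroup H89.K H98 H82.TP H82.HR

universe u v

variable {G : Type u} {Ω : Type v} [Group G] [Finite G] [MulAction G Ω] {N : Ω → Subgroup G} {q : ℕ}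
  {L S V : Subgroup G} {a : Ω} (H : Hy N q) (hL : Soc N L) (sc : SC N) (hS : IsSyl 2 S L)
  (ha : S ≤ stabilizer G a) (B : BF (N a) (S ⊓ N a) V q)

include H sc B ha in
theorem closed {z g : G} (hz : z ∈ ZZ (S ⊓ N a)) (m : g * z * g⁻¹ ∈ S) :
    g * z * g⁻¹ ∈ ZZ (S ⊓ N a) := by
  have e : g * z * g⁻¹ * (g * z * g⁻¹) = 1 := by rw [conj_mul, hz.2.1, mul_one, mul_inv_cancel]
  exact B.cent _ ⟨m, sc a _ _ (H.conj_mem g hz.1.2) e (ha m)⟩ e

include hL B in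
theorem L_ne : L ≠ ⊥ := fun e => by
  obtain ⟨y, hy, -, -, n, -⟩ := B.two
  exact n (mem_bot.1 (e ▸ hL.le a hy.1.2))

include H hL hS ha B in
theorem not_bender (bg : JobBG.{u}) : ¬ H99.BenderGroup L := fun h => by
  obtain ⟨q', h⟩ := bg G L h
  obtain ⟨W, h⟩ := h.frame hS
  have := hL.normal
  have l := h.le_nor (A := L ⊓ stabilizer G a) inf_le_left (le_inf hS.le ha) fun e => by
    obtain ⟨b, hb, -⟩ := H.t2.exists_third a a
    obtain ⟨g, hg, e'⟩ := H.t2.normal_trans L (L_ne hL B) a b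
    exact hb (e'.symm.trans (e.ge hg).2)
  obtain ⟨y, hy, -, -, n, -⟩ := B.two
  refine n (mem_bot.1 (B.eq_bot inf_le_right (fun g hg => cj_eq_self_iff.1 ?_) (fun e => B.ne ?_) ▸ hy.1))
  · rw [cj_inf, cj_eq_self (l ⟨hL.le a hg, H.le a hg⟩), cj_eq_self_of_mem hg]
  · exact (B.sylV.eq_of_le B.sylU.isPGroup (e.symm ▸ B.sylV.le) B.sylU.le).symm

include H hL sc hS ha B in
theorem known (bg : JobBG.{u}) : H10.W.IsL2O L ∨ H10.W.IsJR L := by
  have := hL.simple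
  obtain ⟨P, hP⟩ := hS.exists_sylow
  obtain ⟨y, hy, -, -, n, -⟩ := B.two
  rcases Agent.S1169.result P ((ZZ (S ⊓ N a)).subgroupOf L)
    (fun e => n (congrArg Subtype.val (mem_bot.1 (e ▸ hy : (⟨y, hL.le a hy.1.2⟩ : L) ∈ ⊥))))
    ⟨⟨fun x z => Subtype.ext (Subtype.ext (z.2.2.2 _ x.2.1))⟩⟩
    ⟨hP ▸ fun x hx => hx.1.1, fun x hx g m => closed H sc ha B hx (by rwa [hP] at m)⟩ with c | ⟨M, hM⟩
  · refine (H24.walterA L hL.nab fun Q => ⟨⟨(P.equiv Q).surjective.forall₂.2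
      fun x z => by rw [← map_mul, c.is_comm.comm, map_mul]⟩⟩).resolve_left ?_
    rintro ⟨n, hn, F, _, _, e, f⟩
    exact not_bender H hL hS ha B bg (.inl ⟨F, _, _, ⟨n, hn, e⟩, f⟩)
  · exact (not_bender H hL hS ha B bg (H99.bender_simple H82.hub hM)).elim

include H hL sc hS ha B in
theorem count (hb : Base L) (ev : ∀ c d : Ω, c ≠ d → Even (Nat.card ↥(N c ⊓ stabilizer G d))) :
    Nat.card S = q ∧ Nat.card (N a) = (q + 1) * (q * (q - 1)) ∧ ∃ i μ : ℕ, 0 < μ ∧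
      nI L * i = Nat.card Ω * ((q + 1) * (q - 1)) ∧
      (q + 1) * (q - 1) * (i - 1) = (Nat.card Ω - 1) * μ ∧ nI L ≤ ((q + 1) * (q - 1)) ^ 2 := by
  obtain ⟨y, hy, -, -, n, -⟩ := B.two
  have yo := ord_of_sq hy.2.1 n
  have yL := hL.le a hy.1.2
  have l : S ≤ ZZ (S ⊓ N a) := fun s hs => by
    rcases eq_or_ne s 1 with rfl | s1
    · exact one_mem _
    obtain ⟨g, -, rfl⟩ := hb.conj yL (hS.le hs) yo (ord_of_sq ((hb.syl hS).1 s hs) s1)
    exact closed H sc ha B hy hs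
  have l' : S ⊓ N a ≤ ZZ (S ⊓ N a) := inf_le_left.trans l
  have cU : Nat.card ↥(S ⊓ N a) = q := by rw [le_antisymm l' ZZ_le]; exact B.card
  have := hL.normal
  have := H.t2.finite
  have hK : ∀ x ∈ {u : G | orderOf u = 2 ∧ u ∈ L}, ∀ g : G,
      g * x * g⁻¹ ∈ {u : G | orderOf u = 2 ∧ u ∈ L} := fun x hx g =>
    ⟨(ord_conj g).trans hx.1, hL.normal.conj_mem _ hx.2 g⟩
  have hi : ∀ x ∈ {u : G | orderOf u = 2 ∧ u ∈ L},
      Nat.card {c : Ω // x • c = c} = Nat.card {c : Ω // y • c = c} := fun x hx => by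
    obtain ⟨g, -, rfl⟩ := hb.conj yL hx.2 yo hx.1
    exact card_fix_conj g y
  obtain ⟨b, hb', -⟩ := H.t2.exists_third a a
  have c1 := H.t2.count_one _ hK hi a
  have c2 := H.t2.count_two _ hK hi hb'.symm
  have e : {x | x ∈ {u : G | orderOf u = 2 ∧ u ∈ L} ∧ x • a = a} =
      {u : G | orderOf u = 2 ∧ u ∈ N a} := by
    ext x
    refine ⟨fun h => ⟨h.1.1, ?_⟩, fun h => ⟨⟨h.1, hL.le a h.2⟩, H.le a h.2⟩⟩
    obtain ⟨g, -, e⟩ := hb.conj yL h.1.2 yo h.1.1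
    exact sc a _ _ (e ▸ H.conj_mem g hy.1.2) (sq_of_ord h.1.1) h.2
  rw [e, ← nI_eq, ← nI_eq, B.nI, cU] at c1
  rw [← nI_eq, ← mul_assoc, c1, mul_assoc, mul_assoc (Nat.card Ω)] at c2
  replace c2 := Nat.eq_of_mul_eq_mul_left (by have := H.t2.two_lt; omega) c2
  obtain ⟨t, ht⟩ := exists_prime_orderOf_dvd_card' 2 (even_iff_two_dvd.1 (ev a b hb'.symm))
  have p := (Set.ncard_pos (s := {x | x ∈ {u : G | orderOf u = 2 ∧ u ∈ L} ∧ x ∈ St G a b})).2
    ⟨t, ⟨(orderOf_coe t).trans ht, hL.le a t.2.1⟩, mem_St.2 ⟨H.le a t.2.1, t.2.2⟩⟩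
  refine ⟨by rw [← cU, inf_eq_left.2 (l.trans (ZZ_le.trans inf_le_right))],
    by rw [B.card_N, B.card_DD l', cU], _, _, p, c1, c2, ?_⟩
  have i1 : 0 < Nat.card {c : Ω // y • c = c} := Nat.card_pos_iff.2 ⟨⟨⟨a, H.le a hy.1.2⟩⟩, inferInstance⟩
  have n0 : 0 < (q + 1) * (q - 1) := Nat.mul_pos q.succ_pos (by have := B.q4; omega)
  generalize (q + 1) * (q - 1) = ν at *
  generalize Nat.card {c : Ω // y • c = c} = i at *
  obtain ⟨i, rfl⟩ := Nat.exists_eq_add_of_lt i1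
  have := Nat.le_mul_of_pos_right (Nat.card Ω - 1) p
  simp only [zero_add, Nat.add_sub_cancel] at *
  refine Nat.le_of_mul_le_mul_right ?_ i.succ_pos
  rw [c1, sq, mul_assoc, mul_comm ν (ν * _)]
  exact Nat.mul_le_mul_right _ (by rw [Nat.mul_succ]; omega)

theorem arith {k M n i μ : ℕ} (hk : k % 4 = 2)
    (h : M = (2 * k + 1) * (k + 1) ∨ M = (2 * k - 1) * (k - 1)) (h1 : M ≤ 225)
    (h2 : n * 60 ∣ M * (2 * k)) (h3 : 2 < n) (h4 : Odd n) (h5 : M * i = n * 15)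
    (h6 : 15 * (i - 1) = (n - 1) * μ) : n = 11 ∧ M * (2 * k) = 660 := by
  have : k < 14 := not_le.1 fun r => by
    have := Nat.mul_le_mul (show 27 ≤ 2 * k - 1 by omega) (show 13 ≤ k - 1 by omega)
    have := Nat.mul_le_mul (show 27 ≤ 2 * k + 1 by omega) (show 13 ≤ k + 1 by omega)
    omega
  obtain ⟨j, rfl⟩ := h4
  have h7 := (Dvd.intro_left _ rfl).trans h2
  obtain ⟨c, h2⟩ := h2
  obtain rfl | rfl | rfl : k = 2 ∨ k = 6 ∨ k = 10 := by omega
  all_goals rcases h with rfl | rfl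
  · obtain rfl | r := c.eq_zero_or_pos <;> nlinarith
  · omega
  · omega
  · have : (2 * j + 1) ∣ 11 := ⟨c, by linarith⟩
    have := (Nat.dvd_prime (by norm_num)).1 this
    omega
  · omega
  · have : 2 * j + 1 ≤ 57 := Nat.le_of_dvd (by norm_num) ⟨c, by linarith⟩
    obtain rfl : j = 28 := by omega
    omega

omit H hL sc hS ha B in
theorem jobSC (bg : JobBG.{u}) : JobSC.{u, v} := by
  intro G Ω _ _ _ N q L H ho hL sc ev
  obtain ⟨S, hS⟩ := exists_isSyl 2 L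
  obtain ⟨a, -, ha⟩ := odd_fix (F := (Set.univ : Set Ω)) hS.isPGroup (fun _ _ _ _ => trivial)
    (by rwa [Set.ncard_univ])
  obtain ⟨V, B⟩ := H.frame (hS.inf_of_le_normalizer (hL.le a) fun g hg => H.nor_N (ha g hg))
  have dv := card_dvd_of_le (hL.le a)
  rcases known H hL sc hS ha B bg with h | ⟨t, E, M, r, hj⟩
  · obtain ⟨k, hk, -⟩ := (H29.TPV.jobFV L).1 (.inl h)
    obtain ⟨r, r3, r8, F, _, _, hF, ⟨e⟩⟩ := h
    obtain ⟨c1, c2, i, μ, -, c3, c4, c5⟩ := count H hL sc hS ha B hk.toBase ev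
    obtain rfl : q = 4 := by
      obtain ⟨j, rfl⟩ := B.pow_q
      have := B.q4
      have : ¬ 3 ≤ j := fun l =>
        hk.not8 ((pow_dvd_pow 2 l).trans (c1 ▸ card_dvd_of_le hS.le))
      obtain rfl | rfl | rfl : j = 0 ∨ j = 1 ∨ j = 2 := by omega
      all_goals omega
    have := hL.normal
    have : IsPretransitive L Ω := ⟨fun x y =>
      let ⟨g, hg, e⟩ := H.t2.normal_trans L (L_ne hL B) x y; ⟨⟨g, hg⟩, e⟩⟩
    have d : Nat.card Ω * 60 ∣ Nat.card L := by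
      rw [← (stabilizer L a).index_mul_card, index_stabilizer_of_transitive]
      refine Nat.mul_dvd_mul_left _ ?_
      rw [← show Nat.card (N a) = 60 from c2, ← Nat.card_congr (subgroupOfEquivOfLe (hL.le a)).toEquiv]
      exact card_dvd_of_le fun g hg => H.le a hg
    obtain ⟨e1, e2⟩ := arith hk.k2 hk.num c5 (hk.card ▸ d) H.t2.two_lt ho c3 c4
    have cL := H88.two_mul_card_psl_two (F := F) (hF ▸ Nat.odd_iff.2 (by omega))
    rw [← Nat.card_congr e.toEquiv, hk.card, e2, hF] at cL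
    refine ⟨e1, fun c => (H.card_N a c).trans c2, F, _, _, hF.trans ?_, ⟨e⟩⟩
    have : r < 12 := not_le.1 fun l => by
      have := Nat.mul_le_mul l (Nat.sub_le_sub_right (Nat.pow_le_pow_left l 2) 1)
      omega
    interval_cases r <;> omega
  · have hJ := H24.jobJR' L t E M r hj
    obtain ⟨rfl, hq⟩ := H42.Ree.walterB L t E M r hj
    have hB := (H70.TPF.base_of_facts hJ.facts).1
    obtain ⟨c1, c2, i, μ, -, -, -, c5⟩ := count H hL sc hS ha B hB ev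
    obtain ⟨P, hP⟩ := hS.exists_sylow
    obtain rfl : q = 8 := by
      rw [← c1, ← (hJ.card_sylow P).1, hP, Nat.card_congr (subgroupOfEquivOfLe hS.le).toEquiv]
    rcases hq with ⟨-, -, hG⟩ | ⟨m, hm, hq, hG⟩
    · rw [c2, hG] at dv
      exact absurd dv (by decide)
    obtain ⟨p1, p2, p3, p4, p5⟩ := hj.prod
    obtain ⟨F, _, _, hF, ⟨e⟩⟩ := hj.iso
    have cL := H88.two_mul_card_psl_two (hF ▸ hj.odd : Odd (Fintype.card F))
    rw [← Nat.card_congr e.toEquiv, hF] at cL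
    have c4 := H99.KI.nI_mul hB.one hj.inv
    have c6 : Nat.card (centralizer ({t} : Set L)) ≤ 2 * Nat.card E := by
      rw [← p5, ← hj.inv, ← Nat.card_zpowers, ← SetLike.coe_sort_coe,
        coe_mul_of_left_le_normalizer_right _ _ fun x hx =>
          centralizer_le_normalizer _ fun y hy => (p3 x hx y hy).symm]
      exact Set.natCard_mul_le
    have q27 : 27 ≤ r := hq ▸ Nat.pow_le_pow_right (n := 3) (i := 3) (by decide) (by omega)
    have c7 := Nat.mul_le_mul c5 (c6.trans (cL.le.trans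
      (Nat.mul_le_mul_left r (Nat.sub_le (r ^ 2) 1))))
    rw [c4, hG, ← pow_succ', mul_assoc, mul_comm] at c7
    have := Nat.le_of_mul_le_mul_right c7 (by positivity)
    have := Nat.mul_le_mul (Nat.add_le_add_right (Nat.pow_le_pow_left q27 3) 1)
      (Nat.sub_le_sub_right q27 1)
    omega

end H38.HR
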