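import Cfsg.Agent.H71.Glue
set_option maxRecDepth 1000000
set_option Elab.async false
namespace H38.HeTH1
open H71
noncomputable def na_0 : ℕ := 0xf80000
noncomputable def na_1 : ℕ := 0x180000800
noncomputable def na_2 : ℕ := 0x30030000000
noncomputable def na_3 : ℕ := 0x2180
noncomputable def na_4 : ℕ := 0x240040041000
noncomputable def na_5 : ℕ := 0x241248049040
noncomputable def na_6 : ℕ := 0x240200041200
noncomputable def na_7 : ℕ := 0x431c3002180
noncomputable def na_8 : ℕ := 0x3903a021000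
noncomputable def na_9 : ℕ := 0xf87000800
noncomputable def na_10 : ℕ := 0xf80000
noncomputable def na : Net := .cons 24 na_0 <| .cons 12 na_1 <| .cons 6 na_2 <| .cons 3 na_3 <| .cons 2 na_4 <| .cons 1 na_5 <| .cons 2 na_6 <| .cons 3 na_7 <| .cons 6 na_8 <| .cons 12 na_9 <| .cons 24 na_10 <| .nil
theorem vna : Net.valid 48 na = true := by decide +kernel
noncomputable def nb : Net := .nil
theorem vnb : Net.valid 48 nb = true := by decide +kernel
noncomputable def nc_0 : ℕ := 0xad0000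
noncomputable def nc_1 : ℕ := 0x246000800
noncomputable def nc_2 : ℕ := 0x8004038
noncomputable def nc_3 : ℕ := 0x84102000
noncomputable def nc_4 : ℕ := 0x208200000
noncomputable def nc_5 : ℕ := 0x40249208008
noncomputable def nc_6 : ℕ := 0x201041201240
noncomputable def nc_7 : ℕ := 0x20c5102080
noncomputable def nc_8 : ℕ := 0x37024038
noncomputable def nc_9 : ℕ := 0x246000800
noncomputable def nc_10 : ℕ := 0xad0000
noncomputable def nc : Net := .cons 24 nc_0 <| .cons 12 nc_1 <| .cons 6 nc_2 <| .cons 3 nc_3 <| .cons 2 nc_4 <| .cons 1 nc_5 <| .cons 2 nc_6 <| .cons 3 nc_7 <| .cons 6 nc_8 <| .cons 12 nc_9 <| .cons 24 nc_10 <| .nil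
theorem vnc : Net.valid 48 nc = true := by decide +kernel
noncomputable def nd_0 : ℕ := 0xf80000
noncomputable def nd_1 : ℕ := 0x8a8000700
noncomputable def nd_2 : ℕ := 0x38024006
noncomputable def nd_3 : ℕ := 0x106180006184
noncomputable def nd_4 : ℕ := 0x201208208201
noncomputable def nd_5 : ℕ := 0x241249209201
noncomputable def nd_6 : ℕ := 0x240048248241
noncomputable def nd_7 : ℕ := 0x86040006184
noncomputable def nd_8 : ℕ := 0x3903b02c006
noncomputable def nd_9 : ℕ := 0x8a8000700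
noncomputable def nd_10 : ℕ := 0xf80000
noncomputable def nd : Net := .cons 24 nd_0 <| .cons 12 nd_1 <| .cons 6 nd_2 <| .cons 3 nd_3 <| .cons 2 nd_4 <| .cons 1 nd_5 <| .cons 2 nd_6 <| .cons 3 nd_7 <| .cons 6 nd_8 <| .cons 12 nd_9 <| .cons 24 nd_10 <| .nil
theorem vnd : Net.valid 48 nd = true := by decide +kernel
noncomputable def nn_0 : ℕ := 0x801e
noncomputable def nn_1 : ℕ := 0x7e000a74
noncomputable def nn_2 : ℕ := 0x20036004028
noncomputable def nn_3 : ℕ := 0x102180106080
noncomputable def nn_4 : ℕ := 0x1041048000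
noncomputable def nn_5 : ℕ := 0x9241248048
noncomputable def nn_6 : ℕ := 0x41201240200
noncomputable def nn_7 : ℕ := 0x102041104082
noncomputable def nn_8 : ℕ := 0x2003601902c
noncomputable def nn_9 : ℕ := 0x7e000866
noncomputable def nn_10 : ℕ := 0x801e
noncomputable def nn : Net := .cons 24 nn_0 <| .cons 12 nn_1 <| .cons 6 nn_2 <| .cons 3 nn_3 <| .cons 2 nn_4 <| .cons 1 nn_5 <| .cons 2 nn_6 <| .cons 3 nn_7 <| .cons 6 nn_8 <| .cons 12 nn_9 <| .cons 24 nn_10 <| .nil
theorem vnn : Net.valid 48 nn = true := by decide +kernel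
noncomputable def nt_0 : ℕ := 0x7f8000
noncomputable def nt_1 : ℕ := 0x9d0000000
noncomputable def nt_2 : ℕ := 0x2001000c
noncomputable def nt_3 : ℕ := 0x100184000006
noncomputable def nt_4 : ℕ := 0x40208000008
noncomputable def nt_5 : ℕ := 0x40208000009
noncomputable def nt_6 : ℕ := 0x48248000001
noncomputable def nt_7 : ℕ := 0x1001841840c1
noncomputable def nt_8 : ℕ := 0x402003400c
noncomputable def nt_9 : ℕ := 0xfd3000000
noncomputable def nt_10 : ℕ := 0x7f8000
noncomputable def nt : Net := .cons 24 nt_0 <| .cons 12 nt_1 <| .cons 6 nt_2 <| .cons 3 nt_3 <| .cons 2 nt_4 <| .cons 1 nt_5 <| .cons 2 nt_6 <| .cons 3 nt_7 <| .cons 6 nt_8 <| .cons 12 nt_9 <| .cons 24 nt_10 <| .nil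
theorem vnt : Net.valid 48 nt = true := by decide +kernel
noncomputable def gensN : List Net := []
noncomputable def invsN : List Net := [na, nb, nc, nd, Net.nil, nn, nt, Net.nil]
noncomputable def A : ℕ → ℕ → ℕ := mkA gensN invsN
noncomputable def π : ℕ → Equiv.Perm ℕ := mkPi gensN invsN
theorem vG : ∀ r ∈ ([] : List Net), Net.valid 48 r = true := by simp
theorem vI : ∀ r ∈ ([na, nb, nc, nd, Net.nil, nn, nt, Net.nil] : List Net), Net.valid 48 r = true := by
  intro r hr
  simp only [List.mem_cons, List.not_mem_nil, or_false] at hr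
  rcases hr with rfl | rfl | rfl | rfl | rfl | rfl | rfl | rfl
  · exact vna
  · exact vnb
  · exact vnc
  · exact vnd
  · rfl
  · exact vnn
  · exact vnt
  · rfl
theorem env : Env 48 π A := env_mk vG vI
theorem hN : 48 ≤ 2 ^ 6 := by norm_num
theorem pinv : ∀ l, π (linv 0 l) = (π l)⁻¹ := mkPi_inv' hN rfl vI (by decide +kernel)
def R : List (List ℕ) := [[0,2,0,2],
  [0,3,0,3],
  [1,3,1,3],
  [0,1,0,1,0,1,0,1],
  [1,2,1,2,1,2,1,2],
  [2,3,2,3,2,3,2,3],
  [0,1,0,2,1,0,2,1,2,0,1,2],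
  [1,2,1,3,2,1,3,2,3,1,2,3],
  [0,5,0,5],
  [2,5,2,5,2,5],
  [1,2,1,2,5,1,5],
  [2,3,2,3,5,3,5],
  [0,1,0,1,3,2,1,0,1,3,6,0,6],
  [0,1,2,3,1,0,6,1,6,3,2,1],
  [2,3,2,3,6,2,6],
  [3,6,3,6,3,6],
  [5,6,5,6,5,6,5,6,5,6]]
def RH : List (List ℕ) := []
def HL : List ℕ := [0,1,2,3,5]
def S : List ℕ := [0,1,2,3,5,6]
theorem relP : ∀ r ∈ R, evw π r = 1 := env.eq_one_of_allId hN (by decide +kernel)
def seeds : List (List ℕ) := []
theorem seeds_mem {G : Type*} [Group G] {val : ℕ → G} {H : Subgroup G} (hv : ∀ l, val (linv 0 l) = (val l)⁻¹) (he : val 8 = 1)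
    (hR : ∀ r ∈ R ++ RH, evw val r = 1) (hH : ∀ l ∈ HL, val l ∈ H) : ∀ w ∈ seeds, evw val w ∈ H := by simp [seeds]
def spec : List ℕ := [8192,65536,122882,114698,131072,131074,106510,0,16384,65538,73730,81930,114692,81924,90122,90114,2,98326,98324,106498,106504,106518,122880,8194,98322,90112,114700,40962,73728,114696,57354]
noncomputable def rules : List (List ℕ) := spec.map (mkRule 0 R)
noncomputable def hs : List (List ℕ) := HL.map (fun z => [z]) ++ seeds
noncomputable def D0 : ℕ := Nat.shiftLeft 1 0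
noncomputable def K0 : List ℕ := List.replicate 8 0
def steps0_0 : List ℕ := [3,16387,32771,49155,65539,24,12,20,24,0,8,12,20,24,0,8,20,24,1,5,9,13,17,21,25,29,33,37,41,45,49,41,53,45,57,9,53,61,13,17,65,69,1,5,29,25,33,45,53,73,26,9,49,21,77,81,41,45,57,85,89,53,25,93,97,14,93,33,101,10,13,10,105,109,17,25,65,93,33,37,113,41,89,53,45,117,25,93,45,73,26,89,57,13,17,21,121,77,33,89,25,69]
theorem run0 : tcRun A 0 0 rules hs (steps0_0) (finSt A S (ival 0 45)) D0 K0 = true := by decide +kernel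
theorem done {G : Type*} [Group G] {val : ℕ → G} {H : Subgroup G} (hv : ∀ l, val (linv 0 l) = (val l)⁻¹) (he : val 8 = 1)
    (hR : ∀ r ∈ R ++ RH, evw val r = 1) (hH : ∀ l ∈ HL, val l ∈ H) : TCDone val H π 0 S (ival 0 45) := by
  have T : TCHyp val H 48 π A 0 rules hs := tcHyp_mk env hv pinv (fun r hr => hR r (List.mem_append_left _ hr)) relP hH (seeds_mem hv he hR hH) spec
  have h0 : Inv val H π 0 D0 K0 := inv_init val H π 0 8
  exact tcRun_fin T h0 run0
end H38.HeTH1
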