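import Cfsg.Agent.H71.Glue
set_option maxRecDepth 1000000
set_option Elab.async false
namespace H38.HeTL
open H71
noncomputable def na_0 : ℕ := 0x8000
noncomputable def na_1 : ℕ := 0x800000
noncomputable def na_2 : ℕ := 0x6000200
noncomputable def na_3 : ℕ := 0x2
noncomputable def na_4 : ℕ := 0x45001004
noncomputable def na_5 : ℕ := 0x3000022
noncomputable def na_6 : ℕ := 0x6090200
noncomputable def na_7 : ℕ := 0x800000
noncomputable def na_8 : ℕ := 0x8000
noncomputable def na : Net := .cons 16 na_0 <| .cons 8 na_1 <| .cons 4 na_2 <| .cons 2 na_3 <| .cons 1 na_4 <| .cons 2 na_5 <| .cons 4 na_6 <| .cons 8 na_7 <| .cons 16 na_8 <| .nil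
theorem vna : Net.valid 32 na = true := by decide +kernel
noncomputable def nb_0 : ℕ := 0x2200
noncomputable def nb_1 : ℕ := 0x200000
noncomputable def nb_2 : ℕ := 0x2000802
noncomputable def nb_3 : ℕ := 0x2000020
noncomputable def nb_4 : ℕ := 0x4000410
noncomputable def nb_5 : ℕ := 0x12220022
noncomputable def nb_6 : ℕ := 0x20a0a02
noncomputable def nb_7 : ℕ := 0x200000
noncomputable def nb_8 : ℕ := 0x2200
noncomputable def nb : Net := .cons 16 nb_0 <| .cons 8 nb_1 <| .cons 4 nb_2 <| .cons 2 nb_3 <| .cons 1 nb_4 <| .cons 2 nb_5 <| .cons 4 nb_6 <| .cons 8 nb_7 <| .cons 16 nb_8 <| .nil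
theorem vnb : Net.valid 32 nb = true := by decide +kernel
noncomputable def nc_0 : ℕ := 0x1440
noncomputable def nc_1 : ℕ := 0x140040
noncomputable def nc_2 : ℕ := 0x6080200
noncomputable def nc_3 : ℕ := 0x20200000
noncomputable def nc_4 : ℕ := 0x45100100
noncomputable def nc_5 : ℕ := 0x20203000
noncomputable def nc_6 : ℕ := 0x60c0200
noncomputable def nc_7 : ℕ := 0x140040
noncomputable def nc_8 : ℕ := 0x1440
noncomputable def nc : Net := .cons 16 nc_0 <| .cons 8 nc_1 <| .cons 4 nc_2 <| .cons 2 nc_3 <| .cons 1 nc_4 <| .cons 2 nc_5 <| .cons 4 nc_6 <| .cons 8 nc_7 <| .cons 16 nc_8 <| .nil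
theorem vnc : Net.valid 32 nc = true := by decide +kernel
noncomputable def nd_0 : ℕ := 0x4c10
noncomputable def nd_1 : ℕ := 0x280010
noncomputable def nd_2 : ℕ := 0x800
noncomputable def nd_3 : ℕ := 0x2000
noncomputable def nd_4 : ℕ := 0x10041000
noncomputable def nd_5 : ℕ := 0x202000
noncomputable def nd_6 : ℕ := 0xc00
noncomputable def nd_7 : ℕ := 0x6b0010
noncomputable def nd_8 : ℕ := 0x4c10
noncomputable def nd : Net := .cons 16 nd_0 <| .cons 8 nd_1 <| .cons 4 nd_2 <| .cons 2 nd_3 <| .cons 1 nd_4 <| .cons 2 nd_5 <| .cons 4 nd_6 <| .cons 8 nd_7 <| .cons 16 nd_8 <| .nil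
theorem vnd : Net.valid 32 nd = true := by decide +kernel
noncomputable def nm_0 : ℕ := 0x8000004
noncomputable def nm_1 : ℕ := 0x20000200
noncomputable def nm_2 : ℕ := 0x11111400
noncomputable def nm_3 : ℕ := 0x20000212
noncomputable def nm_4 : ℕ := 0x8000004
noncomputable def nm : Net := .cons 4 nm_0 <| .cons 2 nm_1 <| .cons 1 nm_2 <| .cons 2 nm_3 <| .cons 4 nm_4 <| .nil
theorem vnm : Net.valid 32 nm = true := by decide +kernel
noncomputable def nn_0 : ℕ := 0x800030
noncomputable def nn_1 : ℕ := 0xc000004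
noncomputable def nn_2 : ℕ := 0x2220020
noncomputable def nn_3 : ℕ := 0x41440014
noncomputable def nn_4 : ℕ := 0x2220020
noncomputable def nn_5 : ℕ := 0xc000304
noncomputable def nn_6 : ℕ := 0x800030
noncomputable def nn : Net := .cons 8 nn_0 <| .cons 4 nn_1 <| .cons 2 nn_2 <| .cons 1 nn_3 <| .cons 2 nn_4 <| .cons 4 nn_5 <| .cons 8 nn_6 <| .nil
theorem vnn : Net.valid 32 nn = true := by decide +kernel
noncomputable def nt_0 : ℕ := 0xb608
noncomputable def nt_1 : ℕ := 0x20008
noncomputable def nt_2 : ℕ := 0xc08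
noncomputable def nt_3 : ℕ := 0x2000000
noncomputable def nt_4 : ℕ := 0x4014040
noncomputable def nt_5 : ℕ := 0x2000100
noncomputable def nt_6 : ℕ := 0xc08
noncomputable def nt_7 : ℕ := 0xb20008
noncomputable def nt_8 : ℕ := 0xb608
noncomputable def nt : Net := .cons 16 nt_0 <| .cons 8 nt_1 <| .cons 4 nt_2 <| .cons 2 nt_3 <| .cons 1 nt_4 <| .cons 2 nt_5 <| .cons 4 nt_6 <| .cons 8 nt_7 <| .cons 16 nt_8 <| .nil
theorem vnt : Net.valid 32 nt = true := by decide +kernel
noncomputable def ns_0 : ℕ := 0x4000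
noncomputable def ns_1 : ℕ := 0x4040000
noncomputable def ns_2 : ℕ := 0x10000111
noncomputable def ns_3 : ℕ := 0x1212000
noncomputable def ns_4 : ℕ := 0x4040000
noncomputable def ns_5 : ℕ := 0x410000
noncomputable def ns_6 : ℕ := 0x4000
noncomputable def ns : Net := .cons 16 ns_0 <| .cons 4 ns_1 <| .cons 1 ns_2 <| .cons 2 ns_3 <| .cons 4 ns_4 <| .cons 8 ns_5 <| .cons 16 ns_6 <| .nil
theorem vns : Net.valid 32 ns = true := by decide +kernel
noncomputable def gensN : List Net := []
noncomputable def invsN : List Net := [na, nb, nc, nd, nm, nn, nt, ns]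
noncomputable def A : ℕ → ℕ → ℕ := mkA gensN invsN
noncomputable def π : ℕ → Equiv.Perm ℕ := mkPi gensN invsN
theorem vG : ∀ r ∈ ([] : List Net), Net.valid 32 r = true := by simp
theorem vI : ∀ r ∈ ([na, nb, nc, nd, nm, nn, nt, ns] : List Net), Net.valid 32 r = true := by
  intro r hr
  simp only [List.mem_cons, List.not_mem_nil, or_false] at hr
  rcases hr with rfl | rfl | rfl | rfl | rfl | rfl | rfl | rfl
  · exact vna
  · exact vnb
  · exact vnc
  · exact vnd
  · exact vnm
  · exact vnn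
  · exact vnt
  · exact vns
theorem env : Env 32 π A := env_mk vG vI
theorem hN : 32 ≤ 2 ^ 5 := by norm_num
theorem pinv : ∀ l, π (linv 0 l) = (π l)⁻¹ := mkPi_inv' hN rfl vI (by decide +kernel)
def R : List (List ℕ) := [[0,2,0,2],
  [0,3,0,3],
  [1,3,1,3],
  [0,1,0,1,0,1,0,1],
  [1,2,1,2,1,2,1,2],
  [2,3,2,3,2,3,2,3],
  [0,1,0,2,1,0,2,1,2,0,1,2],
  [1,2,1,3,2,1,3,2,3,1,2,3],
  [3,4,3,4],
  [1,4,1,4,1,4],
  [0,1,0,1,4,0,4],
  [1,2,1,2,4,2,4],
  [0,5,0,5],
  [2,5,2,5,2,5],
  [1,2,1,2,5,1,5],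
  [2,3,2,3,5,3,5],
  [1,5,4,2,4,5],
  [4,5,4,5,4,5],
  [0,6,0,6],
  [1,6,1,6],
  [2,3,2,3,6,2,6],
  [4,6,4,6],
  [3,6,3,6,3,6],
  [0,1,0,1,7,1,7],
  [2,7,2,7],
  [3,7,3,7],
  [5,7,5,7],
  [0,7,0,7,0,7],
  [1,2,5,4,6,1,2,5,4,6,1,2,5,4,6,1,2,5,4,6,1,2,5,4,6],
  [5,6,5,6,5,6],
  [4,7,4,7,4,7],
  [7,6,7,6]]
def RH : List (List ℕ) := []
def HL : List ℕ := [0,1,2,3,4,5,6]
def S : List ℕ := [0,1,2,3,4,5,6,7]
theorem relP : ∀ r ∈ R, evw π r = 1 := env.eq_one_of_allId hN (by decide +kernel)
def seeds : List (List ℕ) := [[7,0,4,7,1,4,7]]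
noncomputable def pc0 : ℕ := 0x60000287000068000300000068000281000060000201000050000280000050000184000040000207000040000104000030000181000030000100000020000101000020000007000000000004000000000001000000000000000000000008
noncomputable def pT : Tr := (.leaf pc0)
noncomputable def pJ0_0 : List ℕ := [0x2,1,1,1,0,0x90000100000200001000002000020018006,0,0xd000024000040000200000a00003001800a,0,0x44000090000180000800004001400e,0,0x150000380000d0000280000c000050018012,0,0,0x1b0000580001500003400010000060018016,0x19000048000180000700001b00005801801a]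
noncomputable def pJ0 : List ℕ := pJ0_0
def pspec : List ℕ := [327680,188428,188420,245764,81932,81926,188416]
noncomputable def prules : List (List ℕ) := pspec.map (mkRule 0 ((R ++ RH) ++ trivRels 0 8))
theorem pk0 : chkFacts (look pT) 0 8 (maskL HL) prules pJ0 0 = true := by decide +kernel
theorem ps0 : chkSeed (look pT) 0 8 16 [7,0,4,7,1,4,7] 0x80000400001800007c0001500003400009007 = true := by decide +kernel
theorem seeds_mem {G : Type*} [Group G] {val : ℕ → G} {H : Subgroup G} (hv : ∀ l, val (linv 0 l) = (val l)⁻¹) (he : val 8 = 1)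
    (hR : ∀ r ∈ R ++ RH, evw val r = 1) (hH : ∀ l ∈ HL, val l ∈ H) : ∀ w ∈ seeds, evw val w ∈ H := by
  have P : PHyp val H 0 8 (maskL HL) prules := pHyp_mk hv he hR hH pspec
  have h0 := holds_start val H (look pT)
  have h1 := chkFacts_step (k' := 16) P h0 pk0 (by decide +kernel)
  intro w hw
  simp only [seeds, List.mem_cons, List.not_mem_nil, or_false] at hw
  rcases hw with rfl
  · exact chkSeed_sound P h1 ps0
def spec : List ℕ := [0,8192,65536,98304,196608,196610,204800,204802,212992,253954,131072,139264,221186,245760,245762,188426,2,8194,98306,147458,155648,172032,172034,212994,253952,131078,237568,122890,188418,16384,65538,106498,180226,81930,122882,163842,147456,131076,81922,81928,90116,90120,114692,163844,122888,122892,90112,90114,114696,163848,188424,49158,57350]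
noncomputable def rules : List (List ℕ) := spec.map (mkRule 0 R)
noncomputable def hs : List (List ℕ) := HL.map (fun z => [z]) ++ seeds
noncomputable def D0 : ℕ := Nat.shiftLeft 1 0
noncomputable def K0 : List ℕ := List.replicate 8 0
def steps0_0 : List ℕ := [3,16387,32771,49155,65539,81923,98307,28,0,16,20,24,28,0,8,12,16,20,28,0,1,5,9,13,17,21,25,29,33,37,41,45,49,53,57,61,65,69,9,73,77,81,85,89,25,93,97,37,41,101,45,105,109,113,69,117,121,73,77,81,85,21,29,125,101,129,57,133,137,109,141,117,121,13,145,17,25,29,125,41,129,49,113,61,1,65,5,69,117,73,77,81,89,21,29,93,37,101,53,133,113,5,77,49,114707,6,149,18,153,6,157,161,165,169,89,149,18,157,173,89,177,22,181,173,17,41,45,153,6,157,185,189,193,137,14,177,22,181,197,26,113,6,201,205,10,209,14,121,73,77]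
theorem run0 : tcRun A 0 0 rules hs (steps0_0) (finSt A S (ival 0 31)) D0 K0 = true := by decide +kernel
theorem done {G : Type*} [Group G] {val : ℕ → G} {H : Subgroup G} (hv : ∀ l, val (linv 0 l) = (val l)⁻¹) (he : val 8 = 1)
    (hR : ∀ r ∈ R ++ RH, evw val r = 1) (hH : ∀ l ∈ HL, val l ∈ H) : TCDone val H π 0 S (ival 0 31) := by
  have T : TCHyp val H 32 π A 0 rules hs := tcHyp_mk env hv pinv (fun r hr => hR r (List.mem_append_left _ hr)) relP hH (seeds_mem hv he hR hH) spec
  have h0 : Inv val H π 0 D0 K0 := inv_init val H π 0 8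
  exact tcRun_fin T h0 run0
end H38.HeTL
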