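import Cfsg.Agent.H38.HeK1
import Cfsg.Agent.H38.HeK2
import Cfsg.Agent.H38.HeHe
import Cfsg.Agent.H38.HeL1
import Cfsg.Agent.H80.KFHe
import Cfsg.Agent.H88.OutHe
import Cfsg.Agent.H25.STBase
/-! The Held group over the coded centraliser: the embedding `j`, the outer automorphism `θ`, the
two classes of involutions, basic facts `F0`. -/
set_option autoImplicit false
set_option maxRecDepth 100000
set_option Elab.async false
namespace H38.HeK
open Cfsg.Spor H49 H71 H38.He H64.SG H25.ST Subgroup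

noncomputable section

theorem πH_mem (l : ℕ) : πH l ∈ H71.He.ρ.range := by
  by_cases h : l < 16
  · interval_cases l
    iterate 7 exact gen_πH ▸ mem_gen _ (by decide)
    iterate 2 exact one_mem _
    exacts [⟨_, H71.He.hρ' 4 (by decide)⟩, ⟨_, H71.He.hρ' 5 (by decide)⟩,
      ⟨_, H71.He.hρ' 6 (by decide)⟩, ⟨_, H71.He.hρ' 7 (by decide)⟩, ⟨_, H71.He.hρ' 8 (by decide)⟩,
      ⟨_, H71.He.hρ' 9 (by decide)⟩, ⟨_, H71.He.hρ' 10 (by decide)⟩]
  · obtain ⟨k, rfl⟩ : ∃ k, l = k + 16 := ⟨l - 16, by omega⟩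
    exact one_mem _

/-- The letters `a b c d m n t` are `0, …, 6`. -/
def v (l : ℕ) : He := Function.invFun H71.He.ρ (πH l)

theorem ρv (l : ℕ) : H71.He.ρ (v l) = πH l := Function.invFun_eq (πH_mem l)

theorem ρw (w : List ℕ) : H71.He.ρ (evw v w) = evw πH w := by
  rw [map_evw]; simp only [ρv]

theorem rel {w : List ℕ} (h : isId AH 12 2560 w = true) : evw v w = 1 :=
  H71.He.inj (by rw [ρw, map_one]; exact envH.eq_one_of_isId HeM.hN h)

theorem nrel {w : List ℕ} {a b : ℕ} (h : maps AH w a b = true) (n : b ≠ a) : evw v w ≠ 1 :=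
  fun e => n (by rw [← envH.of_maps h, ← ρw, e, map_one]; rfl)

theorem satV : Sat 0 8 RH v :=
  ⟨fun l => H71.He.inj (by rw [map_inv, ρv, ρv, satH.hv]),
    H71.He.inj (by rw [ρv, satH.he, map_one]),
    fun r hr => H71.He.inj (by rw [ρw, satH.hR r hr, map_one])⟩

theorem v_sq (l : ℕ) : v l * v l = 1 := satV.sq (Nat.zero_le l)

theorem evw_rev (w : List ℕ) : evw v w.reverse = (evw v w)⁻¹ := by
  induction w with
  | nil => simp
  | cons l w ih => simp [ih, inv_eq_of_mul_eq_one_left (v_sq l)]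

theorem eqw {u w : List ℕ} (h : isId AH 12 2560 (u ++ w.reverse) = true) : evw v u = evw v w := by
  have := rel h
  rwa [evw_append, evw_rev, mul_inv_eq_one] at this

theorem cjw {g u w : List ℕ} (h : isId AH 12 2560 (g ++ u ++ g.reverse ++ w.reverse) = true) :
    evw v g * evw v u * (evw v g)⁻¹ = evw v w := by
  have := eqw h
  rwa [evw_append, evw_append, evw_rev] at this

theorem gen_top : gen v [0, 1, 2, 3, 4, 5, 6] = ⊤ :=
  map_injective H71.He.inj (by rw [map_gen _ fun l _ => ρv l, gen_πH, MonoidHom.range_eq_map])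

theorem hom_ext {G : Type*} [Group G] {f g : He →* G} (h : ∀ l < 7, f (v l) = g (v l)) : f = g :=
  MonoidHom.ext fun x => (show gen v [0, 1, 2, 3, 4, 5, 6] ≤ f.eqLocus g from
    gen_le fun l hl => h l (by revert l; decide)) (gen_top ▸ mem_top x)

theorem satC : Sat 0 8 RC v := satV.mono (by decide +kernel)

/-- The embedding of the coded centraliser. -/
def j : X →* He := (exists_homX satC).choose

theorem jv {l : ℕ} (h : l < 6) : j (vX l) = v l := (exists_homX satC).choose_spec l h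

theorem jw {w : List ℕ} (h : ∀ l ∈ w, l < 6) : j (evw vX w) = evw v w := by
  rw [map_evw]
  exact congrArg List.prod (List.map_congr_left fun l hl => jv (h l hl))

theorem j_eq {x : X} (w : List ℕ) (h : evw vX w = x ∧ ∀ l ∈ w, l < 6) : j x = evw v w := by
  rw [← h.1, jw h.2]

/-- Fusion in `He` from a word. -/
theorem fus {x y : X} (g u w : List ℕ) (h : (evw vX u = x ∧ ∀ l ∈ u, l < 6) ∧
    (evw vX w = y ∧ ∀ l ∈ w, l < 6) ∧ isId AH 12 2560 (g ++ u ++ g.reverse ++ w.reverse) = true) :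
    evw v g * j x * (evw v g)⁻¹ = j y := by
  rw [j_eq u h.1, j_eq w h.2.1, cjw h.2.2]

def zW : List ℕ := [0, 1, 2, 3, 2, 1, 0, 1, 2, 3, 2, 1]
def uW : List ℕ := [4, 5, 3, 4, 0, 4, 5, 4]
/-- The word for `s = θ t`. -/
def sW : List ℕ := [6, 5, 6, 5, 3, 6, 5, 3, 6, 1, 0, 5, 3, 2, 1]
/-- The images of the letters under `θ`. -/
def sub (l : ℕ) : List ℕ := nth [[3], [2], [1], [0], [5], [4], sW] [] l

theorem z_ne : j xz ≠ 1 := by
  rw [j_eq zW (by decide +kernel)]
  exact nrel (a := 0) (b := 1858) (by decide +kernel) (by norm_num)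

theorem j_inj : Function.Injective j := by
  rw [← MonoidHom.ker_eq_bot_iff]
  by_contra h
  exact z_ne (z_mem_of_normal inferInstance h)

theorem evw_sub (w : List ℕ) : evw (fun l => evw v (sub l)) w = evw v (w.flatMap sub) := by
  induction w with
  | nil => rfl
  | cons l w ih => rw [List.flatMap_cons, evw_cons, evw_append, ih]

theorem satS : Sat 0 8 RH fun l => evw v (sub l) := by
  refine ⟨fun l => eq_inv_of_mul_eq_one_left ?_, rfl, fun r hr => ?_⟩
  · rw [linv_eq, if_pos (Nat.zero_le l), ← evw_append]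
    match l with
    | 0 | 1 | 2 | 3 | 4 | 5 | 6 => exact rel (by decide +kernel)
    | l + 7 => rfl
  · rw [evw_sub]
    exact rel (of_allL (f := fun r => isId AH 12 2560 (r.flatMap sub)) (by decide +kernel) r hr)

theorem exists_θ : ∃ f : He →* He, ∀ l < 7, f (v l) = evw v (sub l) := by
  obtain ⟨φ, -, h2⟩ := model_hom (bH (satS.pair satV)) (by rw [gen_top, card_top, H71.He.card])
  refine ⟨(Subgroup.subtype _).comp (φ.comp ((MonoidHom.id He).codRestrict _ fun x => by
    rw [gen_top]; trivial)), fun l hl => ?_⟩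
  exact congrArg Subtype.val (h2 l (by interval_cases l <;> decide))

def θ0 : He →* He := exists_θ.choose

theorem θ0w {w : List ℕ} (h : ∀ l ∈ w, l < 7) : θ0 (evw v w) = evw v (w.flatMap sub) := by
  rw [map_evw, ← evw_sub]
  exact congrArg List.prod (List.map_congr_left fun l hl => exists_θ.choose_spec l (h l hl))

theorem θ0θ0 (x : He) : θ0 (θ0 x) = x := by
  have : θ0.comp θ0 = MonoidHom.id _ := hom_ext fun l hl => by
    have e : θ0 (v l) = evw v (sub l) := exists_θ.choose_spec l hl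
    rw [MonoidHom.comp_apply, e, θ0w (by interval_cases l <;> decide)]
    simpa using eqw (w := [l]) (by interval_cases l <;> decide +kernel)
  exact DFunLike.congr_fun this x

/-- The outer automorphism that induces the graph automorphism on the centraliser. -/
def θ : MulAut He := ⟨⟨θ0, θ0, θ0θ0, θ0θ0⟩, θ0.map_mul⟩

theorem θθ : θ * θ = 1 := MulEquiv.ext θ0θ0

theorem θ_inv : θ⁻¹ = θ := inv_eq_of_mul_eq_one_left θθ

theorem θw {w : List ℕ} (h : ∀ l ∈ w, l < 7) : θ (evw v w) = evw v (w.flatMap sub) := θ0w h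

theorem θj (x : X) : θ (j x) = j (τ x) := by
  have : gen vX [0, 1, 2, 3, 4, 5] ≤ (θ0.comp j).eqLocus (j.comp τ) := gen_le fun l hl => by
    have h6 : l < 6 := by revert l; decide
    show θ0 (j (vX l)) = j (τ (vX l))
    rw [jv h6, τ_vX, show θ0 (v l) = _ from exists_θ.choose_spec l (by omega)]
    interval_cases l
    exacts [(mul_one _).trans (jv (l := 3) (by decide)).symm,
      (mul_one _).trans (jv (l := 2) (by decide)).symm,
      (mul_one _).trans (jv (l := 1) (by decide)).symm,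
      (mul_one _).trans (jv (l := 0) (by decide)).symm,
      (mul_one _).trans (jv (l := 5) (by decide)).symm,
      (mul_one _).trans (jv (l := 4) (by decide)).symm]
  exact this (gen_vX ▸ mem_top x)

theorem inv2_iff {x : He} : Inv2 x ↔ orderOf x = 2 := by
  rw [orderOf_eq_prime_iff, pow_two]; rfl

theorem card_Cz_conj {x y : He} (h : IsConj x y) : Nat.card (Cz x) = Nat.card (Cz y) := by
  obtain ⟨g, rfl⟩ := isConj_iff.1 h
  rw [← card_mp (MulAut.conj g), mp_Cz]; rfl

theorem two_cls : ∃ a b : He, Nat.card (Cz a) = 21504 ∧ Nat.card (Cz b) = 161280 ∧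
    ∀ x, Inv2 x → IsConj a x ∨ IsConj b x := by
  obtain ⟨ca, a, ea, ha⟩ := H80.KFHe.cca
  obtain ⟨cb, b, eb, hb⟩ := H80.KFHe.ccb
  refine ⟨a, b, by rw [← ca, ← ha, card_map_of_injective H71.He.inj],
    by rw [← cb, ← hb, card_map_of_injective H71.He.inj], fun x hx => ?_⟩
  obtain ⟨t, ht, c⟩ := H80.KFHe.classes x (inv2_iff.1 hx)
  rcases ht with e | e
  · exact Or.inl (H71.He.inj (e.trans ea.symm) ▸ c)
  · exact Or.inr (H71.He.inj (e.trans eb.symm) ▸ c)

theorem card_Cz {x : He} (h : Inv2 x) : Nat.card (Cz x) = 21504 ∨ Nat.card (Cz x) = 161280 := by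
  obtain ⟨a, b, ha, hb, k⟩ := two_cls
  exact (k x h).imp (fun c => card_Cz_conj c ▸ ha) fun c => card_Cz_conj c ▸ hb

theorem I_iff {x : He} : I x ↔ Inv2 x ∧ Nat.card (Cz x) = 21504 := by
  refine and_congr_right fun h => ?_
  have := (Cz x).card_mul_index
  rw [H71.He.card] at this
  rcases card_Cz h with e | e <;> rw [e] at this ⊢
  · rw [show (Cz x).index = 187425 by omega]; decide
  · rw [show (Cz x).index = 24990 by omega]; decide

theorem card_nI {x : He} (h : Inv2 x) (n : ¬ I x) : Nat.card (Cz x) = 161280 :=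
  (card_Cz h).resolve_left fun e => n (I_iff.2 ⟨h, e⟩)

theorem one_cls {x y : He} (hx : I x) (hy : I y) : IsConj x y := by
  obtain ⟨a, b, ha, hb, k⟩ := two_cls
  have : ∀ x, I x → IsConj a x := fun x hx => (k x hx.1).resolve_right fun c => by
    have := card_Cz_conj c
    rw [hb, (I_iff.1 hx).2] at this
    omega
  exact (this x hx).symm.trans (this y hy)

theorem two_nI {x y : He} (hx : Inv2 x) (hy : Inv2 y) (nx : ¬ I x) (ny : ¬ I y) : IsConj x y := by
  obtain ⟨a, b, ha, hb, k⟩ := two_cls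
  have : ∀ x, Inv2 x → ¬ I x → IsConj b x := fun x hx n => (k x hx).resolve_left fun c =>
    n (I_iff.2 ⟨hx, card_Cz_conj c ▸ ha⟩)
  exact (this x hx nx).symm.trans (this y hy ny)

theorem inv2_j {x : X} : Inv2 (j x) ↔ x * x = 1 ∧ x ≠ 1 := by
  rw [Inv2, ← map_mul, map_eq_one_iff j j_inj, Ne, map_eq_one_iff j j_inj]

theorem range_j : j.range = Cz (j xz) ∧ I (j xz) := by
  have i2 : Inv2 (j xz) := inv2_j.2 (by decide +kernel)
  have le : j.range ≤ Cz (j xz) := by
    rintro _ ⟨x, rfl⟩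
    rw [mem_centralizer_singleton_iff, ← map_mul, ← map_mul, z_comm]
  have c : Nat.card j.range = 21504 := by
    rw [← card_X]; exact Nat.card_congr (MonoidHom.ofInjective j_inj).symm.toEquiv
  have c2 := (card_Cz i2).resolve_right fun e => by
    have := card_dvd_of_le le
    rw [c, e] at this
    revert this; norm_num
  exact ⟨eq_of_le_of_card_ge le (by rw [c, c2]), I_iff.2 ⟨i2, c2⟩⟩

theorem Cz_z : Cz (j xz) = j.range := range_j.1.symm

theorem I_z : I (j xz) := range_j.2

theorem ctx : Ctx j := ⟨j_inj, fun _ hg => range_j.1.ge (mem_centralizer_singleton_iff.2 hg)⟩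

theorem nI_U : ¬ I (j xU) := fun h => ctx.not_conj_U (one_cls I_z h)

theorem I_conj {x y : He} (c : IsConj x y) : I x ↔ I y := ⟨fun h => h.isConj c, fun h => h.isConj c.symm⟩

theorem I_of_z {g y : He} (e : g * j xz * g⁻¹ = y) : I y := e ▸ I_z.conj g

/-- The `2`-central involutions on codes. -/
def iB (c : ℕ) : Bool := Nat.testBit 215 (cls c)

theorem I_j {x : X} (h : x * x = 1) : I (j x) ↔ iB x.c = true := by
  obtain ⟨h8, g, hg⟩ := cls_rep x h
  have e : I (j x) ↔ I (j (rep (cls x.c))) := by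
    refine I_conj (IsConj.symm (isConj_iff.2 ⟨j g, ?_⟩))
    rw [← map_inv, ← map_mul, ← map_mul, hg]
  rw [e, iB]
  generalize cls x.c = k at h8
  interval_cases k
  · exact iff_of_true I_z rfl
  · exact iff_of_true (I_of_z (fus [6] zW [5, 4, 0, 4, 5] (by decide +kernel))) rfl
  · exact iff_of_true (I_of_z (fus [6, 5, 6, 5, 3, 6, 5, 3, 6] zW [4, 5, 3, 5, 4]
      (by decide +kernel))) rfl
  · exact iff_of_false nI_U (by decide)
  · exact iff_of_true (I_of_z (fus [5, 6, 5, 3, 6, 5, 3, 6] zW [4, 2, 4] (by decide +kernel))) rfl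
  · exact iff_of_false (fun r => nI_U ((I_conj (isConj_iff.2 ⟨_, fus [6] uW
      [0, 4, 2, 3, 2, 4, 0, 4, 2, 3, 4] (by decide +kernel)⟩)).2 r)) (by decide)
  · exact iff_of_true (I_of_z (fus [3, 0, 6, 5, 6] zW [4, 0, 2, 4] (by decide +kernel))) rfl
  · exact iff_of_true (I_of_z (fus [5, 6, 5, 6, 2, 5, 0, 4, 6, 5, 6, 4, 5, 6, 2, 5, 6] zW
      [5, 1, 3, 5] (by decide +kernel))) rfl
  · exact iff_of_false (fun r => r.ne (map_one j)) (by decide)

theorem θ_out : ¬ Inn θ := by
  rintro ⟨g, hg⟩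
  have k : ∀ x, g * j x * g⁻¹ = j (τ x) := fun x => by rw [← θj, hg]; rfl
  obtain ⟨y, rfl⟩ := ctx.cen' ((k xz).trans (by rw [τz]))
  have := k x14
  rw [τ14, ← map_inv, ← map_mul, ← map_mul] at this
  exact absurd (cls_of_conj (by decide +kernel) (j_inj this)) (by decide +kernel)

theorem index_inn : (Cfsg.Inn He).index = 2 := H88.OutHe.out

theorem inn_iff' {β : MulAut He} : Inn β ↔ β ∈ Cfsg.Inn He :=
  exists_congr fun _ => eq_comm

theorem der_conj {x y : He} (c : IsConj x y) (h : x ∈ ⁅Cz x, Cz x⁆) : y ∈ ⁅Cz y, Cz y⁆ := by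
  obtain ⟨g, rfl⟩ := isConj_iff.1 c
  have := (map_mem_mp (MulAut.conj g)).2 h
  rwa [mp_comm, mp_Cz] at this

theorem der_j {x a b : X} (h : a * x = x * a ∧ b * x = x * b ∧ a * b * a⁻¹ * b⁻¹ = x) :
    j x ∈ ⁅Cz (j x), Cz (j x)⁆ := by
  have := commutator_mem_commutator (H₁ := Cz (j x)) (H₂ := Cz (j x)) (g₁ := j a) (g₂ := j b)
    (by rw [mem_centralizer_singleton_iff, ← map_mul, ← map_mul, h.1])
    (by rw [mem_centralizer_singleton_iff, ← map_mul, ← map_mul, h.2.1])
  rwa [← map_commutatorElement, commutatorElement_def, h.2.2] at this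

theorem U_inv2 : Inv2 (j xU) := inv2_j.2 (by decide +kernel)

theorem f0 : F0 He where
  fin := inferInstance
  simple := H71.He.simple
  nab := fun h => by
    have := (Std.Commutative.comm (op := (· * ·)) (j xa) (j xb) : j xa * j xb = j xb * j xa)
    rw [← map_mul, ← map_mul] at this
    exact absurd (j_inj this) (by decide +kernel)
  out := fun _ _ h1 h2 => inn_iff'.2 ((mul_mem_iff_of_index_two index_inn).2
    (iff_of_false (mt inn_iff'.2 h1) (mt inn_iff'.2 h2)))
  ex := ⟨_, I_z⟩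
  one := fun _ _ => one_cls
  odd := fun x hx O h1 h2 h3 => by
    have k : Cfsg.oddCore (Cz x) = ⊥ :=
      (H80.KFHe.sporT inferInstance H71.He.simple x (inv2_iff.1 hx)).elim
        (fun h => (H43.KF.ch2_iff.1 h).2) And.left
    have := (normal_subgroupOf_iff_le_normalizer h1).2 h3
    have := H2.le_oddCore (N := O.subgroupOf (Cz x))
      (by rwa [Nat.card_congr (subgroupOfEquivOfLe h1).toEquiv])
    rw [k, le_bot_iff, subgroupOf_eq_bot, disjoint_iff, inf_eq_left.2 h1] at this
    exact this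
  der := fun x hx => by
    by_cases h : I x
    · exact der_conj (one_cls I_z h) (der_j (a := xa) (b := x25) (by decide +kernel))
    · exact der_conj (two_nI U_inv2 hx nI_U h)
        (der_j (a := xa * xd) (b := xa * x24 * xa) (by decide +kernel))

end

end H38.HeK
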