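import Cfsg.Agent.H38.HeK3
/-! The Held group: `2`-subgroups of the automorphism group, and the facts `FW`, `FT`, `FN`. -/
set_option autoImplicit false
set_option maxRecDepth 100000
set_option Elab.async false
namespace H38.HeK
open Cfsg.Spor H49 H71 H38.He H64.SG H25.ST Subgroup

noncomputable section

theorem conj_inj : Function.Injective (MulAut.conj : He →* MulAut He) := f0.conj_inj

theorem card_j (A : Subgroup X) : Nat.card (A.map j) = Nat.card A := card_map_of_injective j_inj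

theorem card_cI (A : Subgroup He) : Nat.card (cI A) = Nat.card A := card_map_of_injective conj_inj

theorem j_mem {A : Subgroup X} {x : X} : j x ∈ A.map j ↔ x ∈ A := mem_map_iff_mem j_inj

theorem syl_S : Syl (S.map j) ⊤ := by
  refine ⟨le_top, S_p.map _, ?_⟩
  have := (S.map j).card_mul_index
  rw [card_j, card_S, H71.He.card] at this
  rw [relIndex_top_right, show (S.map j).index = 3935925 by omega]
  decide

/-- The Sylow `2`-subgroup of the automorphism group. -/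
def Sh : Subgroup (MulAut He) := cI (S.map j) ⊔ zpowers θ

theorem θ_conj (s : X) : θ * MulAut.conj (j s) * θ⁻¹ = MulAut.conj (j (τ s)) := by
  rw [aut_conj, θj]

theorem θ_norm : θ ∈ Ns (cI (S.map j)) := by
  have := f0.finite_aut
  refine mem_normalizer_fintype ?_
  rintro _ ⟨_, ⟨s, hs, rfl⟩, rfl⟩
  exact ⟨_, ⟨_, τ_S hs, rfl⟩, (θ_conj s).symm⟩

theorem two_of_sq {G : Type*} [Group G] {β : G} (h : β * β = 1) : IsPGroup 2 (zpowers β) := by
  rintro ⟨_, k, rfl⟩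
  refine ⟨1, Subtype.ext ?_⟩
  show (β ^ k) ^ 2 ^ 1 = 1
  rw [pow_one, ← zpow_natCast, zpow_comm, zpow_natCast, pow_two, h, one_zpow]

theorem Sh_p : IsPGroup 2 Sh :=
  ((S_p.map j).map _).to_sup_of_normal_left' (two_of_sq θθ) (zpowers_le.2 θ_norm)

/-- A `2`-subgroup of `Aut He` that contains `cI S` meets the inner automorphisms in `cI S`. -/
theorem inn_of_two {R : Subgroup (MulAut He)} (hR : IsPGroup 2 R) (le : cI (S.map j) ≤ R)
    {β : MulAut He} (h : β ∈ R) (i : Inn β) : ∃ s ∈ S, β = MulAut.conj (j s) := by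
  have := Fact.mk Nat.prime_two
  have := f0.finite_aut
  have e : cI (S.map j) = R ⊓ cI ⊤ := by
    obtain ⟨k, hk⟩ := IsPGroup.iff_card.1 (hR.to_inf_left (K := cI ⊤))
    refine eq_of_le_of_card_ge (le_inf le (map_mono le_top)) ?_
    rw [hk, card_cI, card_j, card_S]
    refine Nat.pow_le_pow_right (by norm_num) (not_lt.1 fun r => ?_)
    have := (pow_dvd_pow 2 r).trans (hk ▸ card_dvd_of_le inf_le_right)
    rw [card_cI, card_top, H71.He.card] at this
    revert this; norm_num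
  obtain ⟨_, ⟨s, hs, rfl⟩, e⟩ : β ∈ cI (S.map j) := e ▸ ⟨h, inn_iff.1 i⟩
  exact ⟨s, hs, e.symm⟩

theorem of_two {R : Subgroup (MulAut He)} (hR : IsPGroup 2 R) (le : Sh ≤ R) {β : MulAut He}
    (h : β ∈ R) : ∃ s ∈ S, β = MulAut.conj (j s) ∨ β = MulAut.conj (j s) * θ := by
  by_cases i : Inn β
  · obtain ⟨s, hs, e⟩ := inn_of_two hR (le_sup_left.trans le) h i
    exact ⟨s, hs, Or.inl e⟩
  · obtain ⟨s, hs, e⟩ := inn_of_two hR (le_sup_left.trans le)
      (mul_mem h (le (mem_sup_right (mem_zpowers θ)))) (f0.out _ _ i θ_out)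
    exact ⟨s, hs, Or.inr (by rw [← e, mul_assoc, θθ, mul_one])⟩

theorem mem_Sh {β : MulAut He} :
    β ∈ Sh ↔ ∃ s ∈ S, β = MulAut.conj (j s) ∨ β = MulAut.conj (j s) * θ := by
  refine ⟨of_two Sh_p le_rfl, ?_⟩
  rintro ⟨s, hs, rfl | rfl⟩
  · exact mem_sup_left ⟨_, ⟨s, hs, rfl⟩, rfl⟩
  · exact mul_mem (mem_sup_left ⟨_, ⟨s, hs, rfl⟩, rfl⟩) (mem_sup_right (mem_zpowers θ))

/-- Lemma A: every `2`-subgroup of `Aut He` is conjugate into `Sh` by an inner automorphism. -/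
theorem lemA {R : Subgroup (MulAut He)} (hR : IsPGroup 2 R) :
    ∃ g : He, ∀ β ∈ R, MulAut.conj g * β * (MulAut.conj g)⁻¹ ∈ Sh := by
  have := Fact.mk Nat.prime_two
  have := f0.finite_aut
  obtain ⟨P, hP⟩ := Sh_p.exists_le_sylow
  obtain ⟨P', hP'⟩ := hR.exists_le_sylow
  obtain ⟨c, hc⟩ := MulAction.exists_smul_eq (MulAut He) P' P
  have k : ∀ β ∈ R, c * β * c⁻¹ ∈ Sh := fun β h =>
    mem_Sh.2 (of_two P.isPGroup' hP (hc ▸ ⟨β, hP' h, rfl⟩))
  by_cases i : Inn c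
  · obtain ⟨g, rfl⟩ := i
    exact ⟨g, k⟩
  · obtain ⟨g, e⟩ := f0.out _ _ θ_out i
    have m : θ ∈ Sh := mem_sup_right (mem_zpowers θ)
    exact ⟨g, fun β h => by
      simpa only [← e, mul_inv_rev, mul_assoc] using mul_mem (mul_mem m (k β h)) (inv_mem m)⟩

theorem out_Sh {β : MulAut He} (h : β ∈ Sh) (n : ¬ Inn β) : ∃ s ∈ S, β = MulAut.conj (j s) * θ := by
  obtain ⟨s, hs, e | e⟩ := mem_Sh.1 h
  exacts [absurd ⟨_, e⟩ n, ⟨s, hs, e⟩]

theorem inn_Sh {g : He} (h : MulAut.conj g ∈ Sh) : g ∈ S.map j := by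
  obtain ⟨s, hs, e⟩ := inn_of_two Sh_p le_sup_left h ⟨g, rfl⟩
  exact ⟨s, hs, (conj_inj e).symm⟩

/-- Every `2`-subgroup is conjugate into `S`. -/
theorem two_into {U : Subgroup He} (hU : IsPGroup 2 U) : ∃ g : He, cjs g U ≤ S.map j := by
  obtain ⟨g, hg⟩ := lemA (hU.map MulAut.conj)
  refine ⟨g, ?_⟩
  rintro _ ⟨u, hu, rfl⟩
  exact inn_Sh (aut_conj _ u ▸ hg _ ⟨u, hu, rfl⟩)

theorem card_le_fx {U : Subgroup He} (hU : U ≤ S.map j) {s : X}
    (h : U ≤ fx (MulAut.conj (j s) * θ)) : Nat.card U ≤ cnt (fxB s.c) SP := by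
  rw [← map_comap_eq_self (hU.trans (map_le_range _ _)), card_j]
  refine card_le_cnt (f := fun a : U.comap j => a.1) Subtype.val_injective fun a =>
    ⟨mem_SP (j_mem.1 (hU a.2)), fxB_iff.2 (j_inj ?_)⟩
  rw [map_mul, map_mul, map_inv, ← θj]
  exact h a.2

theorem sq_out {s : X} (h : MulAut.conj (j s) * θ * (MulAut.conj (j s) * θ) = 1) :
    Nat.beq s.c (tr s.c) = true := by
  rw [mul_assoc, ← mul_assoc θ, show θ * MulAut.conj (j s) * θ =
    MulAut.conj (j (τ s)) by rw [← θ_conj, θ_inv], ← map_mul, map_eq_one_iff _ conj_inj, ← map_mul,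
    map_eq_one_iff _ j_inj] at h
  rw [tr_c, beq_c, map_inv]
  exact eq_inv_of_mul_eq_one_left h

/-- A `2`-element `β` and a `2`-subgroup `U` fixed by `β` are moved into `Sh` together. -/
theorem pair_into {U : Subgroup He} (hU : IsPGroup 2 U) {β : MulAut He}
    (hβ : IsPGroup 2 (zpowers β)) (h : U ≤ fx β) (n : ¬ Inn β) : ∃ g : He, ∃ s ∈ S,
      MulAut.conj g * β * (MulAut.conj g)⁻¹ = MulAut.conj (j s) * θ ∧ cjs g U ≤ S.map j ∧
        cjs g U ≤ fx (MulAut.conj (j s) * θ) := by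
  have := f0.finite_aut
  have nm : β ∈ Ns (cI U) := mem_normalizer_fintype (by
    rintro _ ⟨u, hu, rfl⟩
    exact ⟨u, hu, by rw [aut_conj, mem_fx.1 (h hu)]⟩)
  obtain ⟨g, hg⟩ := lemA ((hU.map MulAut.conj).to_sup_of_normal_left' hβ (zpowers_le.2 nm))
  obtain ⟨s, hs, e⟩ := out_Sh (hg β (mem_sup_right (mem_zpowers β))) (mt inn_conj_iff.1 n)
  refine ⟨g, s, hs, e, ?_, by rw [← e, ← mp_fx, cjs_eq, mp_le]; exact h⟩
  rintro _ ⟨u, hu, rfl⟩
  exact inn_Sh (aut_conj _ u ▸ hg _ (mem_sup_left ⟨u, hu, rfl⟩))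

/-- Lemma B: no outer automorphism centralises a `2`-group of order at least `64`. -/
theorem lemB {U : Subgroup He} (hU : IsPGroup 2 U) (h64 : 64 ≤ Nat.card U) {β : MulAut He}
    (h : U ≤ fx β) : Inn β := by
  have := f0.finite_aut
  by_contra n
  obtain ⟨a, m, hm, e⟩ := Nat.exists_eq_two_pow_mul_odd (orderOf_pos β).ne'
  have p : IsPGroup 2 (zpowers (β ^ m)) := by
    rintro ⟨_, k, rfl⟩
    refine ⟨a, Subtype.ext ?_⟩
    show ((β ^ m) ^ k) ^ 2 ^ a = 1
    rw [← zpow_natCast, zpow_comm, zpow_natCast, ← pow_mul, mul_comm, ← e, pow_orderOf_eq_one,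
      one_zpow]
  obtain ⟨g, s, hs, -, h1, h2⟩ := pair_into hU p (fun u hu => mem_fx.2 (by
    have : β ^ m ∈ MulAction.stabilizer (MulAut He) u := pow_mem (mem_fx.1 (h hu)) m
    exact this)) (mt (f0.inn_of_pow hm) n)
  have c := card_le_fx h1 h2
  have b := pB_all hs
  rw [pB, frc_eq, andB_iff] at b
  rw [cjs_eq, card_mp] at c
  exact absurd ((h64.trans c).trans (Nat.le_of_ble_eq_true b.1)) (by norm_num)

/-- An outer involution centralises no `2`-group of order above `16`. -/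
theorem lemB2 {U : Subgroup He} (hU : IsPGroup 2 U) {β : MulAut He} (h2 : β * β = 1)
    (n : ¬ Inn β) (h : U ≤ fx β) : Nat.card U ≤ 16 := by
  obtain ⟨g, s, hs, e, h1, h3⟩ := pair_into hU (two_of_sq h2) h n
  have c := card_le_fx h1 h3
  have b := pB_all hs
  rw [pB, frc_eq, andB_iff, impB_iff, andB_iff] at b
  rw [cjs_eq, card_mp] at c
  refine c.trans (Nat.le_of_ble_eq_true (b.2 (sq_out ?_)).1)
  rw [← e, _root_.conj_mul, h2]; group

/-- One class of outer involutions. -/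
theorem cls_out {β : MulAut He} (h2 : β * β = 1) (n : ¬ Inn β) :
    ∃ g : He, β = MulAut.conj g * θ * (MulAut.conj g)⁻¹ := by
  obtain ⟨g, s, hs, e, -⟩ := pair_into (U := ⊥) IsPGroup.of_bot (two_of_sq h2) bot_le n
  have b := pB_all hs
  rw [pB, frc_eq, andB_iff, impB_iff, andB_iff, anyB_iff] at b
  obtain ⟨q, hq, r⟩ := (b.2 (sq_out (by rw [← e, _root_.conj_mul, h2]; group))).2
  obtain ⟨y, -, rfl⟩ := of_SP hq
  simp only [tr_c, mul_c'', beq_c] at r
  refine ⟨g⁻¹ * j y, ?_⟩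
  have : MulAut.conj (j s) * θ = MulAut.conj (j y) * θ * (MulAut.conj (j y))⁻¹ := by
    rw [← r, map_mul, map_mul, ← θ_conj, map_inv, map_inv]; group
  rw [map_mul, map_inv, show β = (MulAut.conj g)⁻¹ * (MulAut.conj g * β * (MulAut.conj g)⁻¹) *
    MulAut.conj g by group, e, this]
  group

end

end H38.HeK
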