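import Cfsg.Agent.H38.HeK4
/-! The Held group: the facts `FW`, `FT`, `FN`. -/
set_option autoImplicit false
set_option maxRecDepth 100000
set_option Elab.async false
namespace H38.HeK
open Cfsg.Spor H49 H71 H38.He H64.SG H25.ST Subgroup

noncomputable section

theorem fw : FW He := fun β h2 n => by
  obtain ⟨g, rfl⟩ := cls_out h2 n
  have e0 : τ (xa * xd * x24) = xa * xd * x24 := τ_of_tr (by decide +kernel)
  have e1 : τ (x13 * x14 * x35)⁻¹ = (x13 * x14 * x35)⁻¹ * (xU * xz) := τ_of_tr (by decide +kernel)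
  refine ⟨MulAut.conj g (j (xU * xz)), MulAut.conj g (j (x13 * x14 * x35)),
    (inv2_map _).2 (inv2_j.2 (by decide +kernel)), ?_, ?_⟩
  · rw [← mp_fx, ← mp_sqs, map_mem_mp,
      show xU * xz = xa * xd * x24 * (xa * xd * x24) by decide +kernel, map_mul]
    exact sq_mem_sqs (mem_fx.2 (by rw [θj, e0]))
  · rw [MulAut.mul_apply, MulAut.mul_apply, MulAut.inv_apply_self, ← map_inv, ← map_inv, ← map_inv,
      θj, e1, ← map_mul, ← map_mul, mul_inv_cancel_left]

theorem el_j {A : Subgroup X} (h : ∀ {x}, x ∈ A → x * x = 1) : El (A.map j) := by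
  rintro _ ⟨x, hx, rfl⟩
  rw [← map_mul, h hx, map_one]

theorem el_E1 : El (E1.map j) := el_j sq_E1
theorem el_E2 : El (E2.map j) := el_j sq_E2

/-- Every involution is conjugate to `j xz` or `j xU`. -/
theorem inv_cls {x : He} (h : Inv2 x) : IsConj (j xz) x ∨ IsConj (j xU) x :=
  (em (I x)).imp (one_cls I_z) (two_nI U_inv2 h nI_U)

theorem into_W {x : He} (h : x * x = 1) : ∃ g : He, ∃ e ∈ W, x = MulAut.conj g (j e) := by
  by_cases h1 : x = 1
  · exact ⟨1, 1, one_mem _, by simp [h1]⟩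
  rcases inv_cls ⟨h, h1⟩ with c | c <;> obtain ⟨g, rfl⟩ := isConj_iff.1 c
  exacts [⟨g, xz, mem_W.2 (by decide +kernel), rfl⟩, ⟨g, xU, mem_W.2 (by decide +kernel), rfl⟩]

/-- The fixed points of the graph automorphism in `W`. -/
def U8 : Subgroup X := W ⊓ τ.eqLocus (MonoidHom.id X)

theorem mem_U8 {x : X} :
    x ∈ U8 ↔ x ∈ S ∧ andB (inB 33535981 x.c) (Nat.beq (tr x.c) x.c) = true := by
  rw [andB_iff, ← mem_W, tr_c, beq_c]
  have k : x ∈ W → x⁻¹ = x := fun h => inv_eq_of_mul_eq_one_left (sq_E1 (W_le1 h))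
  exact ⟨fun h => ⟨E1_le (W_le1 h.1), h.1, by rw [k h.1]; exact h.2⟩,
    fun h => ⟨h.2.1, by have := h.2.2; rwa [k h.2.1] at this⟩⟩

theorem U8_spec (γ : MulAut He) : El (mp γ (U8.map j)) ∧ Nat.card (mp γ (U8.map j)) = 8 ∧
    Nat.card {x // x ∈ mp γ (U8.map j) ∧ I x} = 3 := by
  have sq : ∀ {x}, x ∈ U8 → x * x = 1 := fun h => sq_E1 (W_le1 h.1)
  refine ⟨(el_j sq).mp γ, ?_, ?_⟩
  · rw [card_mp, card_j]
    exact (card_eq_cnt (p := fun q => andB (inB 33535981 q.1) (Nat.beq q.2 q.1))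
      fun _ => mem_U8).trans (by decide +kernel)
  · have : Nat.card {x // x ∈ U8 ∧ iB x.c = true} = 3 :=
      (card_eq_cnt (p := fun q => andB (andB (inB 33535981 q.1) (Nat.beq q.2 q.1)) (iB q.1))
        fun _ => by rw [mem_U8, and_assoc, ← andB_iff]).trans (by decide +kernel)
    rw [← this, eq_comm]
    refine Nat.card_eq_of_bijective (fun a => ⟨γ (j a.1), (map_mem_mp γ).2 (j_mem.2 a.2.1),
      (I_map γ).2 ((I_j (sq a.2.1)).2 a.2.2)⟩) ⟨fun a b e => ?_, ?_⟩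
    · exact Subtype.ext (j_inj (γ.injective (congrArg Subtype.val e)))
    · rintro ⟨_, ⟨_, ⟨y, hy, rfl⟩, rfl⟩, h⟩
      exact ⟨⟨y, hy, (I_j (sq hy)).1 ((I_map γ).1 h)⟩, rfl⟩

/-- The elementary abelian subgroups of order at least `64`. -/
theorem el64 {Y : Subgroup He} (h : El Y) (c : 64 ≤ Nat.card Y) :
    ∃ g : He, cjs g Y = E1.map j ∨ cjs g Y = E2.map j := by
  obtain ⟨g, hg⟩ := two_into h.isPGroup
  have e := map_comap_eq_self (hg.trans (map_le_range _ _))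
  refine ⟨g, (eq_E (Y := (cjs g Y).comap j) (fun x hx => j_mem.1 (hg hx)) (fun y hy => j_inj ?_)
    (by rwa [← card_j, e, cjs_eq, card_mp])).imp (fun r => by rw [← r, e]) fun r => by rw [← r, e]⟩
  rw [map_mul, map_one]
  exact h.mp (MulAut.conj g) _ hy

theorem nI_le {Y : Subgroup He} {g : He} {A : Subgroup X} {M : ℕ} (e : cjs g Y = A.map j)
    (hS : A ≤ S) (hA : ∀ {x}, x ∈ A ↔ inB M x.c = true) (sq : ∀ {x}, x ∈ A → x * x = 1) :
    Nat.card {x // x ∈ Y ∧ x ≠ 1 ∧ ¬ I x} ≤ cnt (fun q : ℕ × ℕ => andB (inB M q.1)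
      (andB (notB (Nat.beq q.1 17043521)) (notB (iB q.1)))) SP := by
  have : ∀ a : {x // x ∈ Y ∧ x ≠ 1 ∧ ¬ I x}, ∃ y ∈ A, j y = MulAut.conj g a.1 := fun a =>
    e.le ⟨a.1, a.2.1, rfl⟩
  choose f h1 h2 using this
  refine card_le_cnt (f := f) (fun a b r => Subtype.ext ((MulAut.conj g).injective
    (by rw [← h2, ← h2, r]))) fun a => ⟨mem_SP (hS (h1 a)), ?_⟩
  rw [andB_iff, andB_iff, notB_iff, notB_iff, beq_one, ← I_j (sq (h1 a)), h2, I_map]
  refine ⟨hA.1 (h1 a), fun r => a.2.2.1 ((MulAut.conj g).injective ?_), a.2.2.2⟩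
  rw [← h2, r, map_one, map_one]

theorem ftb : FTb He where
  j6 := fun Y hY c => by
    have := f0.finite_aut
    let Y₀ := Y.comap (MulAut.conj : He →* MulAut He)
    have el : El Y₀ := fun a ha => conj_inj (by rw [map_mul, map_one]; exact hY _ ha)
    have e : cI Y₀ = Cfsg.Inn He ⊓ Y := map_comap_eq _ _
    have le : Y ≤ Cfsg.Inn He := fun β hβ => by
      by_contra n
      have h16 := lemB2 el.isPGroup (hY β hβ) (mt inn_iff'.1 n) fun u hu => mem_fx.2 (conj_inj (by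
        rw [← aut_conj, hY.comm hβ hu, mul_inv_cancel_right]))
      have h1 := ((Cfsg.Inn He).subgroupOf Y).card_mul_index
      have h2 := Nat.le_of_dvd (by norm_num) (index_inn ▸ relIndex_dvd_index_of_normal (Cfsg.Inn He) Y)
      rw [← inf_subgroupOf_right, Nat.card_congr (subgroupOfEquivOfLe inf_le_right).toEquiv, ← e,
        card_cI, e, inf_subgroupOf_right] at h1
      have := Nat.mul_le_mul h16 h2
      rw [relIndex, h1] at this
      omega
    rw [inf_eq_right.2 le] at e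
    obtain ⟨g, hg⟩ := el64 el (by rwa [← card_cI, e])
    refine ⟨Y₀, e.symm, ?_⟩
    rw [← card_mp (MulAut.conj g), ← cjs_eq]
    rcases hg with r | r
    · exact ⟨by rw [r, card_j, card_E1],
        (nI_le r E1_le mem_E1 sq_E1).trans (by decide +kernel)⟩
    · exact ⟨by rw [r, card_j, card_E2],
        (nI_le r E2_le mem_E2 sq_E2).trans (by decide +kernel)⟩
  e6 := fun x hx => by
    obtain ⟨g, e, he, rfl⟩ := into_W hx.1
    exact ⟨mp (MulAut.conj g) (E1.map j), el_E1.mp _, by rw [card_mp, card_j, card_E1],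
      (map_mem_mp _).2 (j_mem.2 (W_le1 he))⟩
  two := fun _ _ => two_nI
  fx := fun β h2 => by
    by_cases i : Inn β
    · obtain ⟨x, rfl⟩ := i
      obtain ⟨g, e, he, rfl⟩ := into_W (x := x) (conj_inj (by rw [map_mul, h2, map_one]))
      refine ⟨_, ?_, U8_spec (MulAut.conj g)⟩
      rw [fx_conj, ← mp_Cz, mp_le]
      rintro _ ⟨y, hy, rfl⟩
      exact mem_centralizer_singleton_iff.2 (el_E1.comm (j_mem.2 (W_le1 hy.1)) (j_mem.2 (W_le1 he)))
    · obtain ⟨g, rfl⟩ := cls_out h2 i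
      refine ⟨_, ?_, U8_spec (MulAut.conj g)⟩
      rw [← mp_fx, mp_le]
      rintro _ ⟨y, hy, rfl⟩
      exact mem_fx.2 ((θj y).trans (congrArg j hy.2))

theorem ft : FT He := Or.inr ftb

theorem O2_z : Cfsg.pCoreOf 2 (Cz (j xz)) = Q.map j := by
  rw [Cz_z, Cfsg.pCoreOf, ← H2.map_pCore_mulEquiv (MonoidHom.ofInjective j_inj), pCore_X, map_map]
  rfl

/-- An element of `He` that centralises a subgroup containing `z` comes from `X`. -/
theorem of_cen {A : Subgroup X} (hz : xz ∈ A) {g : He} (h : A.map j ≤ fx (MulAut.conj g)) :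
    ∃ y, g = j y ∧ ∀ a ∈ A, y * a = a * y := by
  obtain ⟨y, rfl⟩ := ctx.cen' (mem_fx.1 (h (j_mem.2 hz)))
  refine ⟨y, rfl, fun a ha => j_inj ?_⟩
  rw [map_mul, map_mul, ← mul_inv_eq_iff_eq_mul]
  exact mem_fx.1 (h (j_mem.2 ha))

theorem sc_Q {β : MulAut He} (h : Q.map j ≤ fx β) : β = 1 ∨ β = MulAut.conj (j xz) := by
  obtain ⟨g, rfl⟩ := lemB ((S_p.to_le Q_le).map j) (by rw [card_j, card_Q]; norm_num) h
  obtain ⟨y, rfl, k⟩ := of_cen (mem_Q.2 (by decide +kernel)) h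
  exact (cen_Q k).imp (fun e => by rw [e, map_one, map_one]) fun e => by rw [e]

theorem NQ_map {G : Type*} [Group G] (γ : MulAut G) {z : G} {A : Subgroup G} (h : NQ z A) :
    NQ (γ z) (mp γ A) where
  zI := (I_map γ).2 h.zI
  le := by rw [← mp_Cz, mp_le]; exact h.le
  cl := by
    rintro _ ⟨a, ha, rfl⟩ _ ⟨b, hb, rfl⟩
    exact (h.cl a ha b hb).imp (fun e => by simpa using congrArg γ e) fun e => by
      simpa using congrArg γ e
  cq := fun β hβ => by
    obtain ⟨w, e, k⟩ := h.cq (γ⁻¹ * β * γ⁻¹⁻¹) (by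
      rw [← mp_le γ, mp_fx]; simpa [mul_assoc] using hβ)
    refine ⟨γ w, by rw [← aut_conj, ← e]; group, fun r => ?_⟩
    exact (k (γ.injective (by rw [map_mul, r, map_one]))).imp (fun e => by rw [e, map_one])
      fun e => by rw [e]

theorem nq_z : NQ (j xz) (Q.map j) where
  zI := I_z
  le := Cz_z ▸ map_le_range _ _
  cl := by
    rintro _ ⟨a, ha, rfl⟩ _ ⟨b, hb, rfl⟩
    simp only [mul_inv_eq_iff_eq_mul, ← map_mul, mul_assoc]
    exact (Q_cl ha hb).imp (congrArg j) (congrArg j)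
  cq := fun β h => (sc_Q h).elim (fun e => ⟨1, by rw [e, map_one], fun _ => Or.inl rfl⟩)
    fun e => ⟨_, e, fun _ => Or.inr rfl⟩

theorem fn : FN He := fun z hz => by
  obtain ⟨g, rfl⟩ := isConj_iff.1 (one_cls I_z hz)
  have := NQ_map (MulAut.conj g) nq_z
  rwa [← O2_z, mp_pCoreOf, mp_Cz] at this

end

end H38.HeK
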