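import Cfsg.Agent.H38.HeK5
/-! The Held group: Lemma B and the strong form of `FN`. -/
set_option autoImplicit false
namespace H38.HeK
open Cfsg.Spor H38.He H64.SG H25.ST Subgroup

theorem LB : ∀ (U : Subgroup He) (β : MulAut He), IsPGroup 2 U → 64 ≤ Nat.card U → U ≤ fx β → Inn β :=
  fun _ _ h1 h2 h3 => lemB h1 h2 h3

theorem fnS : ∀ z : He, I z → ∀ β : MulAut He, Cfsg.pCoreOf 2 (Cz z) ≤ fx β →
    β = 1 ∨ β = MulAut.conj z := fun z hz β h => by
  obtain ⟨g, rfl⟩ := isConj_iff.1 (one_cls I_z hz)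
  have e : Cfsg.pCoreOf 2 (Cz (g * j xz * g⁻¹)) = mp (MulAut.conj g) (Q.map j) := by
    rw [← O2_z, mp_pCoreOf, mp_Cz]; rfl
  have := sc_Q (β := (MulAut.conj g)⁻¹ * β * (MulAut.conj g)⁻¹⁻¹) (by
    rw [← mp_le (MulAut.conj g), mp_fx, ← e]; simpa [mul_assoc] using h)
  refine this.imp (fun r => conj_eq_one_iff.1 r) fun r => ?_
  rw [map_mul, map_mul, map_inv, ← r]; group

end H38.HeK
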