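import Cfsg.Agent.H63.KgvSpec

/-! Job JH6 of the tower KGV: the constant of the product formula is `1` modulo `r`. -/

set_option autoImplicit false

namespace H38.KgvH6

open Finset H63.Kgv

theorem pair {F : Type} [Field F] [Fintype F] {ψ : AddChar F ℂ} (hψ : ψ ≠ 1) {ρ : MulChar F ℂ}
    {k : ℕ} (h1 : ρ ^ (2 * k + 1) = 1) (h2 : ∀ j, 0 < j → j < 2 * k + 1 → ρ ^ j ≠ 1) :
    ∏ i ∈ range (2 * k + 1), -gaussSum (ρ ^ i) ψ = (Fintype.card F : ℂ) ^ k := by
  rw [prod_range_succ', pow_zero, gaussSum_one_left hψ, neg_neg, mul_one, two_mul, prod_range_add,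
    ← prod_range_reflect (fun i => -gaussSum (ρ ^ (k + i + 1)) ψ) k, ← prod_mul_distrib]
  refine (prod_congr rfl fun i hi => ?_).trans (by rw [prod_const, card_range])
  have hi' := mem_range.1 hi
  have e : ρ ^ (k + (k - 1 - i) + 1) = (ρ ^ (i + 1))⁻¹ := by
    rw [eq_inv_iff_mul_eq_one, ← pow_add, ← h1]; congr 1; omega
  have o : ((ρ ^ (i + 1))⁻¹) (-1) = 1 :=
    MulChar.val_neg_one_eq_one_of_odd_order (n := 2 * k + 1) ⟨k, rfl⟩
      (by rw [inv_pow, ← pow_mul, mul_comm, pow_mul, h1, one_pow, inv_one])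
  rw [e, neg_mul_neg, ← mul_gaussSum_inv_eq_gaussSum (ρ ^ (i + 1))⁻¹ ψ, o, one_mul]
  exact gaussSum_mul_gaussSum_eq_card (h2 _ (by omega) (by omega)) (AddChar.IsPrimitive.of_ne_one hψ)

theorem job : JH6 := by
  classical
  intro br lf p _ M K _ _ _ g θ s r d ω hr hd hrd hω
  have hp : 1 ≤ p ^ d := Nat.one_le_pow _ _ (Fact.out : p.Prime).pos
  have fx : ∀ i : ℕ, (ω ^ i) ^ p ^ d = ω ^ i := fun i => by
    obtain ⟨c, hc⟩ := hrd
    have e : p ^ d = r * c + 1 := by omega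
    rw [e, pow_succ, ← pow_mul, mul_left_comm, pow_mul, ← hω, pow_orderOf_eq_one, one_pow, one_mul]
  obtain ⟨F, -, _, _, -, -, -, ψ, χ, γ, -, -, -, B, -⟩ :=
    br p M K g θ s d 1 (by rwa [mul_one])
  have val : ∀ i : ℕ, χ (ω ^ i) = χ ω ^ i := fun i => by
    rw [MulChar.eq_iff B.gen, B.val _ (fx i), MulChar.pow_apply_coe,
      B.val ω (by simpa using fx 1), map_pow, Units.val_pow_eq_pow_val]
  have one : ∀ i : ℕ, χ ω ^ i = 1 ↔ ω ^ i = 1 := fun i => by
    rw [← val, MulChar.eq_iff B.gen, B.val _ (fx i), MulChar.one_apply_coe, Units.val_eq_one,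
      map_eq_one_iff θ s.inj]
  have gs : ∀ t, t ≠ 0 → ∀ i : ℕ, HH p M g θ t (ω ^ i) ^ d = -gaussSum (χ ω ^ i) (ψ t) :=
    fun t ht i => by rw [lf p M K g θ s t d _ ht hd (fx i), B.gs t _ (fx i), val]
  rcases hr.eq_two_or_odd' with rfl | ⟨k, rfl⟩
  · refine ⟨fun c => ∑ j ∈ range (p ^ d - 1), if tr p M g d j = c then ((j % 2 : ℕ) : ℤ) else 0,
      fun t ht => ?_⟩
    have h0 : HH p M g θ t (ω ^ 0) ^ d = 1 := by
      rw [gs t ht, pow_zero, gaussSum_one_left (B.ne t ht), neg_neg]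
    have h1 := lf p M K g θ s t d _ ht hd (fx 0)
    have h2 := lf p M K g θ s t d _ ht hd (fx 1)
    have hm : (θ ω : ℂ) = -1 := by
      have e : (θ ω : ℂ) ^ 2 = 1 := by
        rw [← Units.val_pow_eq_pow_val, ← map_pow, ← hω, pow_orderOf_eq_one, map_one, Units.val_one]
      refine (mul_self_eq_one_iff.1 ((pow_two _).symm.trans e)).resolve_left fun e' => ?_
      rw [Units.val_eq_one, map_eq_one_iff θ s.inj] at e'
      rw [e', orderOf_one] at hω
      exact absurd hω (by decide)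
    rw [prod_range_succ, prod_range_one, h0, one_mul, h2]
    rw [h0] at h1
    simp only [GG, pow_zero, pow_one, map_one, Units.val_one, one_pow, mul_one, hm] at h1 ⊢
    have h3 : ∑ c : ZMod p, ((∑ j ∈ range (p ^ d - 1),
        if tr p M g d j = c then ((j % 2 : ℕ) : ℤ) else 0 : ℤ) : ℂ) * ee p (t * c) =
        ∑ j ∈ range (p ^ d - 1), ((j % 2 : ℕ) : ℂ) * ee p (t * tr p M g d j) := by
      simp only [Int.cast_sum, sum_mul]
      rw [sum_comm]
      refine sum_congr rfl fun j _ => ?_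
      rw [sum_eq_single (tr p M g d j) (fun c _ hc => by rw [if_neg hc.symm]; simp)
        (fun h => absurd (mem_univ _) h), if_pos rfl, Int.cast_natCast]
    rw [h3]
    conv_rhs => rw [h1]
    rw [mul_sum, ← sum_neg_distrib, ← sum_neg_distrib, ← sum_add_distrib]
    refine sum_congr rfl fun j _ => ?_
    rcases Nat.even_or_odd j with h | h
    · rw [h.neg_one_pow, Nat.even_iff.1 h]; simp
    · rw [h.neg_one_pow, Nat.odd_iff.1 h]; push_cast; ring
  · obtain ⟨c, hc⟩ := hrd.trans (Nat.sub_one_dvd_pow_sub_one (p ^ d) k)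
    have hq : 1 ≤ (p ^ d) ^ k := Nat.one_le_pow _ _ hp
    have e : (p ^ d) ^ k = 1 + (2 * k + 1) * c := by omega
    refine ⟨Pi.single 0 c, fun t ht => ?_⟩
    rw [prod_congr rfl fun i _ => gs t ht i, pair (B.ne t ht)
      ((one _).2 (by rw [← hω, pow_orderOf_eq_one]))
      (fun j j0 j1 h => absurd (Nat.le_of_dvd j0 (hω ▸ orderOf_dvd_of_pow_eq_one ((one j).1 h)))
        (not_le.2 j1)), B.card, ← Nat.cast_pow, e,
      sum_eq_single (0 : ZMod p) (fun b _ hb => by rw [Pi.single_eq_of_ne hb]; simp)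
        (fun h => absurd (mem_univ _) h), Pi.single_eq_same, mul_zero]
    simp [ee]

end H38.KgvH6
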