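import Cfsg.Agent.S3342
import Cfsg.Agent.H56.L3Row
import Cfsg.Agent.H54.SpGraph
import Cfsg.Agent.H9.Cube

/-! LOCAL3C §5.19: S3342 applied to the quotient by a central involution. -/

set_option autoImplicit false
set_option linter.unusedSectionVars false
open Cfsg Subgroup H14 H98 H56.L3 H42.L3

namespace H38.O8

universe u

variable {H X : Type u} [Group H] [Finite H] [Group X] [Finite X] {π : H →* X} {c z g k : H}
  {A Q J : Subgroup H}

/-- `π` is onto with kernel `{1, c}` -/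
structure Cov (π : H →* X) (c : H) : Prop where
  surj : Function.Surjective π
  cc : c * c = 1
  ker : ∀ g, π g = 1 ↔ g = 1 ∨ g = c

namespace Cov
variable (h : Cov π c)
include h

theorem cen (g : H) : g * c = c * g := by
  rcases (h.ker (g * c * g⁻¹)).1 (by simp [(h.ker c).2 (.inr rfl)]) with e | e
  · rw [conj_eq_one_iff.1 e, mul_one, one_mul]
  · exact mul_inv_eq_iff_eq_mul.1 e

theorem inj3 (h1 : g ^ 3 = 1) (h2 : k ^ 3 = 1) (e : π g = π k) : g = k := by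
  rcases (h.ker (g⁻¹ * k)).1 (by simp [e]) with e | e
  · exact inv_mul_eq_one.1 e
  · have e' : k = g * c := by rw [← e, mul_inv_cancel_left]
    rw [e', Commute.mul_pow (h.cen g), h1, one_mul, pow_three, h.cc, mul_one] at h2
    rw [e', h2, mul_one]

theorem card3 (h3 : ∀ g ∈ A, g ^ 3 = 1) : Nat.card (A.map π) = Nat.card A :=
  (Nat.card_congr (Equiv.ofBijective (π.subgroupMap A) ⟨fun a b e =>
    Subtype.ext (h.inj3 (h3 _ a.2) (h3 _ b.2) (congrArg Subtype.val e)),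
    π.subgroupMap_surjective A⟩)).symm

theorem ce (z3 : z ^ 3 = 1) : π g ∈ Ce (π z) ↔ g ∈ Ce z := by
  rw [mem_Ce', mem_Ce', ← map_inv, ← map_mul, ← map_mul]
  exact ⟨h.inj3 (by rw [conj_pow, z3, mul_one, mul_inv_cancel]) z3, congrArg π⟩

theorem nz (z3 : z ^ 3 = 1) (e : π g ∈ Nz (π z)) : g ∈ Nz z := by
  obtain ⟨n, hn⟩ := mem_Nz.1 e
  exact mem_Nz.2 ⟨n, h.inj3 (by rw [← zpow_natCast, ← zpow_mul, mul_comm, zpow_mul, zpow_natCast, z3,
    one_zpow]) (by rw [conj_pow, z3, mul_one, mul_inv_cancel]) (by simpa using hn)⟩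

theorem card (c1 : c ≠ 1) : Nat.card H = Nat.card X * 2 := by
  have e : π.ker = zpowers c := le_antisymm (fun g hg => ((h.ker g).1 hg).elim
    (fun e => e ▸ one_mem _) fun e => e ▸ mem_zpowers _) (zpowers_le.2 ((h.ker c).2 (.inr rfl)))
  rw [card_eq_card_quotient_mul_card_subgroup π.ker,
    Nat.card_congr (QuotientGroup.quotientKerEquivOfSurjective π h.surj).toEquiv, e, Nat.card_zpowers,
    orderOf_eq_prime ((sq c).trans h.cc) c1]

theorem sig (hs : ∀ K : Subgroup H, (Nat.card K).Coprime 3 → J ≤ nr K → c ∈ K → K ≤ zpowers c) :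
    Sig (J.map π) := fun K h3 hn => eq_bot_iff.2 fun x hx => by
  obtain ⟨g, rfl⟩ := h.surj x
  have hc := (h.ker c).2 (.inr rfl)
  have := hs (K.comap π) ?_ (fun j hj => mem_normalizer_of_cj_le ?_) (by simp [hc]) hx
  · obtain ⟨n, rfl⟩ := this
    simp [hc]
  · refine ((Nat.prime_three.coprime_iff_not_dvd).2 fun e => ?_).symm
    obtain ⟨a, ha⟩ := exists_prime_orderOf_dvd_card' 3 e
    have a3 : (a : H) ^ 3 = 1 := by rw [← coe_pow, ← ha, pow_orderOf_eq_one, coe_one]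
    have : π a = 1 := (pow_eq_one_iff_of_coprime h3).1
      ⟨congrArg Subtype.val (pow_card_eq_one' (x := (⟨π a, a.2⟩ : K))), by rw [← map_pow, a3, map_one]⟩
    rw [show a = 1 from Subtype.ext (h.inj3 a3 (one_pow _) (this.trans (map_one π).symm))] at ha
    simp at ha
  · rintro _ ⟨k, hk, rfl⟩
    simpa using hn _ (mem_map_of_mem π hj) _ hk

theorem casesP (z1 : z ≠ 1) (φ : H90.SL3 →* H) (φz : φ.range ≤ Ce z) (Qz : Q ≤ Ce z) (zQ : z ∈ Q)
    (nQ : Ce z ≤ nr Q) (Q3 : ∀ g ∈ Q, g ^ 3 = 1) (cQ : Nat.card Q = 27) (na : ¬ Q ≤ cn Q)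
    (gen : Ce z ≤ φ.range ⊔ Q ⊔ zpowers c) (t1 : φ (-1) ≠ 1) (tc : φ (-1) ≠ c) (Jz : J ≤ Ce z)
    (Jc : J ≤ cn J) (J3 : ∀ g ∈ J, g ^ 3 = 1) (cJ : Nat.card J = 27)
    (hs : ∀ K : Subgroup H, (Nat.card K).Coprime 3 → J ≤ nr K → c ∈ K → K ≤ zpowers c) :
    CasesP (π z) := by
  have z3 := Q3 z zQ
  have le : ∀ {A : Subgroup H}, A ≤ Ce z → A.map π ≤ Ce (π z) := fun hA =>
    map_le_iff_le_comap.2 fun g hg => (h.ce z3).2 (hA hg)
  set R := (Q.map π).subgroupOf (Ce (π z))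
  have : R.Normal := (normal_subgroupOf_iff_le_normalizer (le Qz)).2 fun x hx => by
    obtain ⟨g, rfl⟩ := h.surj x
    exact le_normalizer_map π (mem_map_of_mem π (nQ ((h.ce z3).1 hx)))
  have cR : Nat.card R = 27 := by
    rw [Nat.card_congr (subgroupOfEquivOfLe (le Qz)).toEquiv, h.card3 Q3, cQ]
  let ψ : H90.SL3 →* Ce (π z) := (π.comp φ).codRestrict _ fun k => (h.ce z3).2 (φz ⟨k, rfl⟩)
  let θ := (QuotientGroup.mk' R).comp ψ
  have hi : Function.Injective θ := (injective_iff_map_eq_one θ).2 fun k hk => by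
    by_contra k1
    have : θ (-1) = 1 := by
      rcases (by decide +kernel : ∀ k : H90.SL3, k ≠ 1 → k = -1 ∨
        ∃ m : H90.SL3, m * k * m⁻¹ * k⁻¹ * (m * k * m⁻¹ * k⁻¹) = -1) k k1 with e | ⟨m, e⟩
      · exact e ▸ hk
      · rw [← e]; simp [hk]
    obtain ⟨q, hq, e⟩ := (QuotientGroup.eq_one_iff _).1 this
    have e' : π q = π (φ (-1)) := e
    have : π q = 1 := (pow_eq_one_iff_of_coprime (show Nat.Coprime 2 3 by decide)).1
      ⟨by rw [e', ← map_pow, ← map_pow]; simp, by rw [← map_pow, Q3 q hq, map_one]⟩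
    exact ((h.ker _).1 (e' ▸ this)).elim t1 tc
  have hsu : Function.Surjective θ := fun x => by
    obtain ⟨⟨x, hx⟩, rfl⟩ := QuotientGroup.mk_surjective x
    obtain ⟨g, rfl⟩ := h.surj x
    have : φ.range ⊔ Q ⊔ zpowers c ≤
        ((θ.range.comap (QuotientGroup.mk' R)).map (Ce (π z)).subtype).comap π := by
      refine sup_le (sup_le ?_ fun q hq => ?_) (zpowers_le.2 ?_)
      · rintro _ ⟨k, rfl⟩
        exact ⟨ψ k, ⟨k, rfl⟩, rfl⟩
      · exact ⟨⟨π q, (h.ce z3).2 (Qz hq)⟩, ⟨1, (map_one θ).trans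
          ((QuotientGroup.eq_one_iff (N := R) _).2 (mem_map_of_mem π hq)).symm⟩, rfl⟩
      · rw [mem_comap, (h.ker c).2 (.inr rfl)]
        exact one_mem _
    obtain ⟨y, ⟨k, e⟩, e'⟩ := this (gen ((h.ce z3).1 hx))
    exact ⟨k, e.trans (congrArg _ (Subtype.ext e'))⟩
  refine casesP_of (fun e => z1 (h.inj3 z3 (one_pow _) (by rw [e, map_one]))) (R := R)
    (H9.isExtraspecial_of_card_cube cR fun e => na fun a ha b hb => ?_) cR ?_
    (MulEquiv.ofBijective θ ⟨hi, hsu⟩).symm (mem_map_of_mem π zQ) (le Jz) ?_ ?_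
    ((h.card3 J3).trans cJ) (h.sig hs)
  · exact h.inj3 (Q3 _ (mul_mem hb ha)) (Q3 _ (mul_mem ha hb)) (by
      simpa using congrArg (fun x : R => ((x : Ce (π z)) : X)) (e.is_comm.comm
        ⟨⟨π b, le Qz (mem_map_of_mem π hb)⟩, mem_map_of_mem π hb⟩
        ⟨⟨π a, le Qz (mem_map_of_mem π ha)⟩, mem_map_of_mem π ha⟩))
  · rintro ⟨_, hr⟩ ⟨q, hq, rfl⟩
    exact Subtype.ext (by rw [coe_pow, ← map_pow, Q3 q hq, map_one, coe_one])
  · rintro _ ⟨a, ha, rfl⟩ _ ⟨b, hb, rfl⟩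
    rw [← map_mul, ← map_mul, Jc ha b hb]
  · rintro _ ⟨a, ha, rfl⟩
    rw [← map_pow, J3 a ha, map_one]

theorem card_of (c1 : c ≠ 1) (z3 : z ^ 3 = 1) (hp : CasesP (π z)) (e : g * z * g⁻¹ = z⁻¹)
    (e' : k ∉ Nz z) : Nat.card H = 103680 ∨ Nat.card H = 2903040 := by
  rw [h.card c1]
  rcases (asm3342 job6P job24P H42.L3.job12P H21.L3.job48C (H42.L3.job48AP job24P) H39.L3.job48BP hp
    (ZMod 3) (ZMod.card 3) (ZMod 2) (ZMod.card 2)).2 ⟨π g, by simpa using congrArg π e⟩ with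
    r | ⟨⟨r⟩⟩ | ⟨⟨r⟩⟩
  · exact absurd (h.nz z3 (r ▸ mem_top _)) e'
  · rw [Nat.card_congr r.toEquiv, H54.card_aut_psp (p := 3) (f := 1) (ZMod.card 3) le_rfl, cardP]
    exact .inl (by decide)
  · rw [Nat.card_congr r.toEquiv, H54.card_sp, Nat.card_zmod, Fintype.card_fin]
    exact .inr (by decide)

end Cov

end H38.O8
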