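import Cfsg.Agent.H38.O8Ca
import Cfsg.Agent.H47.O8Q

/-! LOCAL3C §5.19: the centraliser of `c`. -/

set_option autoImplicit false
set_option linter.unusedSectionVars false
set_option maxRecDepth 100000
open Cfsg Subgroup H14 H98 H56.L3 H42.L3 H42.MC H26.MC H47.O8
open H47.MC hiding vz vy
open scoped Matrix

namespace H38.O8

universe u

variable {G : Type u} [Group G] [Finite G] {d : Dat G} {A K : Subgroup G} {a c g k : G} {M : Mat}
  {x y w : V} (h : Loc d)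
include h

theorem card_par {P : V × Fin 3 → Prop} [DecidablePred P]
    (e : ∀ g, g ∈ A ↔ ∃ p, P p ∧ g = d.v p.1 * d.qa 0 p.2) :
    Nat.card A = (Finset.univ.filter P).card := by
  rw [← Fintype.card_subtype, ← Nat.card_eq_fintype_card]
  refine (Nat.card_congr (Equiv.ofBijective (fun p : {p // P p} => (⟨_, (e _).2 ⟨p.1, p.2, rfl⟩⟩ : A))
    ⟨fun p q r => ?_, fun g => ?_⟩)).symm
  · obtain ⟨h1, -, h2⟩ := h.dec (h.hA 0 p.1.2) (h.hA 0 q.1.2) (congrArg Subtype.val r)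
    exact Subtype.ext (Prod.ext h1
      ((by decide +kernel : ∀ β γ : Fin 3, mA 0 β = mA 0 γ → β = γ) _ _ h2))
  · obtain ⟨p, hp, r⟩ := (e g).1 g.2
    exact ⟨⟨p, hp⟩, Subtype.ext r.symm⟩

variable (hc : Hat d c mC)
include hc

theorem v_C : d.v x ∈ Ce c ↔ x 3 = 0 := by
  rw [mem_Ce, eq_comm, ← mem_Ce, acts_mem_Ce h.co hc.1]
  exact (by decide +kernel : ∀ x : V, mC *ᵥ x = x ↔ x 3 = 0) x

theorem hat_C (hk : Hat d k M) (e : M * mC = mC * M) : k ∈ Ce c := mem_Ce.2 (h.comm hk hc e)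

theorem mem_C (hk : Hat d k M) : d.v x * k ∈ Ce c ↔ x 3 = 0 ∧ M * mC = mC * M := by
  refine ⟨fun e => ?_, fun e => mul_mem ((v_C h hc).2 e.1) (hat_C h hc hk e.2)⟩
  obtain ⟨-, -, h1⟩ := h.dec (x := x) (x' := mC *ᵥ x) (hk.mul hc) (hc.mul hk) (by
    rw [← mul_assoc, mem_Ce.1 e, ← mul_assoc, acts_comm hc.1, mul_assoc])
  exact ⟨(v_C h hc).1 ((Subgroup.mul_mem_cancel_right _ (hat_C h hc hk h1)).1 e), h1⟩

theorem qa_C (α β : Fin 3) : d.v x * d.qa α β ∈ Ce c ↔ x 3 = 0 ∧ α = 0 := by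
  rw [mem_C h hc (h.hA α β), mul_eq, mul_eq]
  exact and_congr_right fun _ =>
    (by decide +kernel : ∀ α β : Fin 3, mm (mA α β) mC = mm mC (mA α β) ↔ α = 0) α β

theorem mem_SC : g ∈ (d.J ⊔ d.Q) ⊓ Ce c ↔
    ∃ p : V × Fin 3, p.1 3 = 0 ∧ g = d.v p.1 * d.qa 0 p.2 := by
  refine ⟨fun ⟨h1, h2⟩ => ?_, fun ⟨p, h1, e⟩ =>
    ⟨h.mem_S'.2 ⟨_, _, _, e⟩, e ▸ (qa_C h hc _ _).2 ⟨h1, rfl⟩⟩⟩
  obtain ⟨α, β, x, rfl⟩ := h.mem_S'.1 h1
  obtain ⟨h3, rfl⟩ := (qa_C h hc _ _).1 h2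
  exact ⟨(x, β), h3, rfl⟩

theorem card_SC : Nat.card ((d.J ⊔ d.Q) ⊓ Ce c : Subgroup G) = 81 :=
  (card_par h fun _ => mem_SC h hc).trans (by decide +kernel)

theorem card_QC : Nat.card (d.Q ⊓ Ce c : Subgroup G) = 27 := by
  refine (card_par (A := d.Q ⊓ Ce c) (P := fun p => p.1 3 = 0 ∧ dot p.1 vz = 0) h fun g =>
    ⟨fun ⟨h1, h2⟩ => ?_, fun ⟨p, h1, e⟩ =>
      ⟨h.mem_Q'.2 ⟨_, _, _, h1.2, e⟩, e ▸ (qa_C h hc _ _).2 ⟨h1.1, rfl⟩⟩⟩).trans (by decide +kernel)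
  obtain ⟨α, β, x, hx, rfl⟩ := h.mem_Q'.1 h1
  obtain ⟨h3, rfl⟩ := (qa_C h hc _ _).1 h2
  exact ⟨(x, β), ⟨h3, hx⟩, rfl⟩

theorem card_JC : Nat.card (d.J ⊓ Ce c : Subgroup G) = 27 := by
  refine (card_par (A := d.J ⊓ Ce c) (P := fun p => p.1 3 = 0 ∧ p.2 = 0) h fun g =>
    ⟨fun ⟨h1, h2⟩ => ?_, fun ⟨p, h1, e⟩ => ?_⟩).trans (by decide +kernel)
  · obtain ⟨x, rfl⟩ := (h.mem g).1 h1
    exact ⟨(x, 0), ⟨(v_C h hc).1 h2, rfl⟩, by rw [qa_zero, mul_one]⟩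
  · rw [e, h1.2, qa_zero, mul_one]
    exact ⟨v_mem h.co _, (v_C h hc).2 h1.1⟩

theorem c_ne (hk : Hat d k M) (e : M ≠ mC) : k ≠ c := fun r =>
  e (acts_unique h.co hk.1 (r ▸ hc.1))

/-- `C(c, z) = ⟨c⟩ × Q₂ R ⟨b⟩` -/
theorem gen (h1 : d.R ≤ A) (h2 : d.v vb ∈ A) (h3 : d.Q ⊓ Ce c ≤ A) (h4 : c ∈ A) (hg : g ∈ Ce c)
    (hz : g ∈ Ce d.z) : g ∈ A := by
  obtain ⟨r, hr, e⟩ := h.frat g (Ce_le_nr hz)
  rw [← Subgroup.mul_mem_cancel_left _ (inv_mem (h1 hr))]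
  replace hg := mul_mem (inv_mem (h.R_c hc hr)) hg
  replace hz := mul_mem (inv_mem (h.R_z hr)) hz
  obtain ⟨x, k, M, hk, hM, e⟩ := h.hat_nr e
  rw [e] at hg hz ⊢
  obtain ⟨x3, hM2⟩ := (mem_C h hc hk).1 hg
  have key : ∀ k M, Hat d k M → Rot M → k ∈ Ce c → k ∈ Ce d.z → k ∈ A := fun k M hk hr h5 h6 => by
    have h7 := (acts_mem_Ce h.co hk.1).1 h6
    obtain ⟨α, β, e, f, rfl, rfl⟩ := h.rot_Z hk hr (.inl h7)
    have h8 := ((mem_C (x := 0) h hc hk).1 (by rwa [v_zero h.co, one_mul])).2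
    rw [mul_eq, mul_eq] at h8
    rw [mulVec_eq] at h7
    obtain ⟨rfl, rfl⟩ := (by decide +kernel : ∀ (α β : Fin 3) (e f : Fin 2),
      act (mZ α β e f) vz = vz → mm (mZ α β e f) mC = mm mC (mZ α β e f) →
        α = 0 ∧ f = 0) α β e f h7 h8
    exact mul_mem (mul_mem (mul_mem (by simp) (pow_mem (h3 ⟨h.q2_Q, hat_C h hc h.h2
      (by decide +kernel)⟩) _)) (pow_mem (h1 h.t_mem) _)) (by simp)
  have kz : k ∈ Ce d.z := (Subgroup.mul_mem_cancel_left _ (J_le_Ce h.co _ (v_mem h.co x))).1 hz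
  refine mul_mem ?_ (hM.rot_or.elim (fun r => key k M hk r (hat_C h hc hk hM2) kz) fun r =>
    (Subgroup.mul_mem_cancel_right _ h4).1 (key _ _ (hk.mul hc) r
      (mul_mem (hat_C h hc hk hM2) (mem_Ce.2 rfl))
      (mul_mem kz ((acts_mem_Ce h.co hc.1).2 (by decide +kernel)))))
  obtain ⟨e1, e2⟩ := (by decide +kernel : ∀ x : V, x 3 = 0 →
    (x - dot x vz • vb) 3 = 0 ∧ dot (x - dot x vz • vb) vz = 0) x x3
  rw [← sub_add_cancel x (dot x vz • vb), h.add, v_smul h.co]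
  exact mul_mem (h3 ⟨h.v_Q e2, (v_C h hc).2 e1⟩) (pow_mem h2 _)

variable (cu : CU2 d) (h3 : (Nat.card K).Coprime 3) (hn : ∀ x : V, x 3 = 0 → d.v x ∈ nr K)
include cu h3 hn

omit hc in
theorem sig1 (y3 : y 3 = 0) (w3 : w 3 = 0) (hy : y ≠ 0) (hw : w ≠ 0) (e1 : nrm (x + y) = 2)
    (e2 : nrm (x + w) = 2) (e3 : nrm (y + w) = 2) (e4 : nrm (y - w) = 2) :
    K ⊓ Ce (d.v x) ≤ Nr d.J := by
  have n : ∀ y : V, y 3 = 0 → d.v y ∈ nr (K ⊓ Ce (d.v x)) := fun y hy => mem_normalizer_of_cj_le (by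
    rintro _ ⟨g, hg, rfl⟩
    refine ⟨conj_mem_of_mem_normalizer (hn y hy) hg.1, ?_⟩
    have := J_le_Ce h.co x (v_mem h.co y)
    exact (Ce _).mul_mem ((Ce _).mul_mem this hg.2) (inv_mem this))
  have s : ∀ y : V, nrm (x + y) = 2 → K ⊓ Ce (d.v x) ⊓ Ce (d.v y) ≤ Nr d.J := fun y hy g hg =>
    cu _ hy (mem_Ce.2 (by
      rw [h.add]; exact (Commute.mul_right (mem_Ce.1 hg.1.2) (mem_Ce.1 hg.2)).eq))
  have z : ∀ y : V, nrm y = 2 → y ≠ 0 := by decide +kernel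
  exact gen4 h.co hy hw (z _ e3) (z _ e4) (h3.coprime_dvd_left (card_dvd_of_le inf_le_left))
    (n y y3) (n w w3) (s y e1) (s w e2) (inf_le_right.trans (cu _ e3)) (inf_le_right.trans (cu _ e4))

theorem sig2 (cK : c ∈ K) : K ≤ zpowers c := fun g hg => by
  have one : ∀ g ∈ K, g ∈ d.J → g = 1 := fun g h1 h2 => (pow_eq_one_iff_of_coprime h3).1
    ⟨congrArg Subtype.val (pow_card_eq_one' (x := (⟨g, h1⟩ : K))), J_cube h.co h2⟩
  have hN : K ≤ Nr d.J := gen4 h.co (x := ![1, 0, 0, 0]) (y := ![0, 1, 0, 0]) (by decide) (by decide)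
    (by decide) (by decide) h3 (hn _ rfl) (hn _ rfl)
    (sig1 h cu h3 hn (y := ![0, 1, 0, 0]) (w := ![0, 0, 1, 0]) rfl rfl (by decide) (by decide)
      (by decide) (by decide) (by decide) (by decide))
    (sig1 h cu h3 hn (y := ![1, 0, 0, 0]) (w := ![0, 0, 1, 0]) rfl rfl (by decide) (by decide)
      (by decide) (by decide) (by decide) (by decide))
    (inf_le_right.trans (cu _ (by decide))) (inf_le_right.trans (cu _ (by decide)))
  obtain ⟨M, hM, hi⟩ := h.act g (hN hg)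
  have fx : ∀ x : V, x 3 = 0 → M *ᵥ x = x := fun x hx => by
    have := one (g * d.v x * g⁻¹ * (d.v x)⁻¹)
      (by simpa [mul_assoc] using mul_mem hg (conj_mem_of_mem_normalizer (hn x hx) (inv_mem hg)))
      (mul_mem (hM x ▸ v_mem h.co _) (inv_mem (v_mem h.co _)))
    exact h.inj ((hM x).symm.trans (mul_inv_eq_one.1 this))
  have hy := (by decide +kernel : ∀ w : V, dot ![1, 0, 0, 0] w = 0 → dot ![0, 1, 0, 0] w = 0 →
      dot ![0, 0, 1, 0] w = 0 → nrm w = 1 → w = vy ∨ w = -vy) (M *ᵥ vy)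
    (by rw [← fx ![1, 0, 0, 0] rfl, hi.dot]; decide) (by rw [← fx ![0, 1, 0, 0] rfl, hi.dot]; decide)
    (by rw [← fx ![0, 0, 1, 0] rfl, hi.dot]; decide) (by rw [hi.nrm]; decide)
  have sp : ∀ x : V, (x - x 3 • vy) 3 = 0 ∧ mC *ᵥ x = x - x 3 • vy + x 3 • -vy := by decide +kernel
  have e : ∀ x : V, M *ᵥ x = x - x 3 • vy + x 3 • M *ᵥ vy := fun x => by
    rw [← fx _ (sp x).1, ← Matrix.mulVec_smul, ← Matrix.mulVec_add, sub_add_cancel]
  rcases hy with r | r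
  · rw [one g hg (h.mem_J fun x => by rw [hM, e, r, sub_add_cancel, Matrix.one_mulVec])]
    exact one_mem _
  · have : Acts d.v g mC := fun x => by rw [hM, e, r, (sp x).2]
    rw [mul_eq_one_iff_eq_inv.1 (one _ (mul_mem hg cK) (h.mem_J
      ((by decide +kernel : mC * mC = 1) ▸ acts_mul this hc.1)))]
    exact inv_mem (mem_zpowers c)

omit cu h3 hn in
theorem card_sub {A : Subgroup G} : Nat.card (A.subgroupOf (Ce c)) = Nat.card (A ⊓ Ce c : Subgroup G) := by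
  rw [← inf_subgroupOf_right, Nat.card_congr (subgroupOfEquivOfLe inf_le_right).toEquiv]

omit h3 hn in
theorem card_C : Nat.card (Ce c) = 103680 ∨ Nat.card (Ce c) = 2903040 := by
  classical
  let c' : Ce c := ⟨c, mem_Ce.2 rfl⟩
  let z : Ce c := ⟨d.z, (v_C h hc).2 rfl⟩
  have cc : c' * c' = 1 := Subtype.ext (h.cc hc)
  have : (zpowers c').Normal := ⟨by
    rintro _ ⟨k, rfl⟩ g
    have : Commute g c' := Subtype.ext (mem_Ce.1 g.2)
    rw [(this.zpow_right k).eq, mul_inv_cancel_right]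
    exact ⟨k, rfl⟩⟩
  have c1 : c' ≠ 1 := fun e => c_ne h hc Hat.one (by decide +kernel) (congrArg Subtype.val e).symm
  have cov : Cov (QuotientGroup.mk' (zpowers c')) c' := ⟨QuotientGroup.mk'_surjective _, cc, fun g => by
    rw [QuotientGroup.mk'_apply, QuotientGroup.eq_one_iff, mem_zpowers_iff_mem_range_orderOf,
      orderOf_eq_prime ((sq _).trans cc) c1]
    simp [Finset.range_add_one, eq_comm, or_comm]⟩
  obtain ⟨φ, -, φb, -, -, φt, -, φR⟩ := h.toBase.model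
  have φm : ∀ A : Subgroup G, d.R ≤ A → d.v vb ∈ A → ∀ k, φ k ∈ A := fun A h1 h2 k => by
    obtain ⟨n, e⟩ := (by decide +kernel : ∀ k : SL23, ∃ n : Fin 3, (k * sB ^ n.val) ^ 4 = 1) k
    have := h1 ((φR _).2 ⟨_, e, rfl⟩)
    rwa [map_mul, map_pow, φb, Subgroup.mul_mem_cancel_right _ (pow_mem h2 _)] at this
  let ψ : SL23 →* Ce c := φ.codRestrict _ (φm _ (h.R_c hc) ((v_C h hc).2 rfl))
  have ce : ∀ {g : Ce c}, g ∈ Ce z ↔ (g : G) ∈ Ce d.z := by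
    intro g; rw [mem_Ce, mem_Ce, Subtype.ext_iff]; rfl
  refine cov.card_of c1 (z := z) (g := ⟨d.ι, hat_C h hc h.hι (by decide +kernel)⟩)
    (k := ⟨d.τ 0, hat_C h hc (h.hτ 0) (by decide +kernel)⟩) (Subtype.ext (v_cube h.co _))
    (cov.casesP (Q := d.Q.subgroupOf _) (J := d.J.subgroupOf _)
      (fun e => absurd ((v_eq_one h.co).1 (congrArg Subtype.val e)) (by decide)) ψ ?_
      (fun g hg => ce.2 (h.S_z (mem_sup_right hg))) (h.v_Q (by decide)) (fun g hg => ?_)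
      (fun g hg => Subtype.ext (h.expQ _ hg)) ((card_sub h hc).trans (card_QC h hc)) (fun e => ?_)
      (fun g hg => ?_) (fun e => h.t_ne (φt ▸ congrArg Subtype.val e))
      (fun e => c_ne h hc h.ht (by decide +kernel) (φt ▸ congrArg Subtype.val e))
      (fun g hg => ce.2 (J_le_Ce h.co _ hg)) (fun a ha b hb => Subtype.ext (J_le_cn h.co ha _ hb))
      (fun g hg => Subtype.ext (J_cube h.co hg)) ((card_sub h hc).trans (card_JC h hc))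
      fun K k3 kn kc g hg => ?_) (Subtype.ext ?_) fun e => ?_
  · rintro _ ⟨k, rfl⟩
    exact ce.2 (φm _ h.R_z (J_le_Ce h.co _ (v_mem h.co _)) k)
  · exact mem_normalizer_iff.2 fun x => mem_normalizer_iff.1 (h.nQ (Ce_le_nr (ce.1 hg))) x
  · have := congrArg Subtype.val (e (x := ⟨d.q2, hat_C h hc h.h2 (by decide +kernel)⟩) h.q2_Q
      ⟨d.v vu, (v_C h hc).2 rfl⟩ (h.v_Q (by decide)))
    exact absurd ((acts_mem_Ce h.co h.a2).1 (mem_Ce.2 this.symm)) (by decide +kernel)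
  · refine (mem_map_iff_mem (Ce c).subtype_injective).1 (gen h hc (fun r hr => ?_) ?_
      (fun q hq => ⟨⟨q, hq.2⟩, mem_sup_left (mem_sup_right hq.1), rfl⟩)
      ⟨c', mem_sup_right (mem_zpowers _), rfl⟩ g.2 (ce.1 hg))
    · obtain ⟨k, -, rfl⟩ := (φR r).1 hr
      exact ⟨ψ k, mem_sup_left (mem_sup_left ⟨k, rfl⟩), rfl⟩
    · exact ⟨ψ sB, mem_sup_left (mem_sup_left ⟨_, rfl⟩), φb⟩
  · obtain ⟨n, e⟩ := sig2 h hc cu (K := K.map (Ce c).subtype) (by rwa [card_subtype])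
      (fun x hx => le_normalizer_map _ ⟨⟨_, (v_C h hc).2 hx⟩, kn (v_mem h.co x), rfl⟩)
      ⟨c', kc, rfl⟩ ⟨g, hg, rfl⟩
    exact ⟨n, Subtype.ext (by simpa using e)⟩
  · exact (h.aι _).trans (by rw [Matrix.neg_mulVec, Matrix.one_mulVec, v_neg h.co]; rfl)
  · obtain ⟨n, e⟩ := mem_Nz.1 e
    obtain ⟨a, e'⟩ := (mem_zp_v h.co).1 (show d.v (mR 0 *ᵥ vz) ∈ zpowers d.z from
      ⟨n, by simpa [← (h.hτ 0).1 _] using congrArg Subtype.val e⟩)
    exact (by decide +kernel : ∀ a : ZMod 3, a • vz ≠ mR 0 *ᵥ vz) a (h.inj e')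

omit h hc cu h3 hn in
theorem jobC2 : JobC2.{u} := fun G _ _ d c h _ _ hc cu => by
  have hC := card_C h hc cu
  refine ⟨by rcases hC with e | e <;> rw [e] <;> decide, fun g hg g3 => ?_⟩
  have : IsSyl 3 ((d.J ⊔ d.Q) ⊓ Ce c) (Ce c) := isSyl_of_not_dvd_relIndex inf_le_right
    (h.syl.isPGroup.to_inf_left) fun r => by
      have := (((d.J ⊔ d.Q) ⊓ Ce c).subgroupOf (Ce c)).card_mul_index
      rw [card_sub h hc, inf_assoc, inf_idem, card_SC h hc] at this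
      change 81 * relIndex _ _ = _ at this
      omega
  obtain ⟨k, -, m⟩ := this.exists_cj_le (isPGroup_zpowers (k := 1) g3) (zpowers_le.2 hg)
  obtain ⟨p, -, e⟩ := (mem_SC h hc).1 (m (conj_mem_cj (mem_zpowers g)))
  obtain ⟨l, hl⟩ := h.qconj (e ▸ (by rw [conj_pow, g3, mul_one, mul_inv_cancel]) :
    (d.v p.1 * d.qa 0 p.2) ^ 3 = 1)
  exact ⟨l * k, by simpa [← e, mul_assoc] using hl⟩

end H38.O8
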