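import Cfsg.Agent.H47.O8K

/-! LOCAL3C §5.21: restriction to the subgroup of index two. -/

set_option autoImplicit false
set_option linter.unusedSectionVars false
open Cfsg Subgroup H14 H98 H56.L3 H42.L3 H47.MC H42.MC H26.MC H47.O8
open scoped Matrix

namespace H38.O8

universe u

variable {G : Type u} [Group G] [Finite G] {d : Dat G} {A B N : Subgroup G} {a c g : G} {M : Mat}

theorem mem_of_pow {n m : ℕ} (h1 : g ^ n ∈ A) (h2 : g ^ m = 1) (c : n.Coprime m) : g ∈ A :=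
  H98.mem_of_pow_mem_of_coprime h1 (c.symm.coprime_dvd_left (orderOf_dvd_of_pow_eq_one h2))

theorem mem_of_inv [A.Normal] (ha : a ∈ A) (e : a * g * a⁻¹ = g⁻¹) (h3 : g ^ 3 = 1) : g ∈ A := by
  have := mul_mem ha (Normal.conj_mem inferInstance _ (inv_mem ha) g)
  rw [← mul_assoc, ← mul_assoc, e, ← mul_inv_rev, inv_mem_iff, ← sq] at this
  exact mem_of_pow this h3 (by decide)

theorem ι_v (h : Loc d) (x : V) : d.ι * d.v x * d.ι⁻¹ = (d.v x)⁻¹ := by
  rw [h.aι x, Matrix.neg_mulVec, Matrix.one_mulVec, v_neg h.co]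

section Three
variable (h : Loc d) [A.Normal] (hA : A.index = 3)
include h hA

theorem ι_mem : d.ι ∈ A := mem_of_pow (hA ▸ A.pow_index_mem _) ((sq _).trans h.ιι) (by decide)

theorem v_mem3 (x : V) : d.v x ∈ A := mem_of_inv (ι_mem h hA) (ι_v h x) (v_cube h.co x)

theorem q2_mem3 : d.q2 ∈ A :=
  mem_of_inv (mem_of_pow (hA ▸ A.pow_index_mem _) ((sq _).trans h.tt) (by decide)) h.tq2 h.q2_cube

theorem q1_not3 : d.q1 ∉ A := fun r => by
  have : d.J ⊔ d.Q ≤ A := fun g hg => by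
    obtain ⟨α, β, x, rfl⟩ := h.toBase.mem_S.1 hg
    exact mul_mem (mul_mem (pow_mem r _) (pow_mem (q2_mem3 h hA) _)) (v_mem3 h hA x)
  have h1 := h.syl.not_dvd_relIndex
  rw [relIndex_top_right] at h1
  exact h1 (hA ▸ index_dvd_of_le this)

/-- there is at most one normal subgroup of index three -/
theorem le3 [B.Normal] (hB : B.index = 3) : A ≤ B :=
  le_of_forall_prime_pow_mem fun q hq _ x hx ⟨k, e⟩ => by
    by_cases c : q = 3
    · subst c
      obtain ⟨g, -, m⟩ := h.syl.exists_cj_le (isPGroup_zpowers e) le_top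
      obtain ⟨α, β, w, e1⟩ := h.toBase.mem_S.1 (m (conj_mem_cj (mem_zpowers x)))
      have m1 := Normal.conj_mem inferInstance x hx g
      rw [e1, mul_mem_cancel_right (v_mem3 h hA w), mul_mem_cancel_right (pow_mem (q2_mem3 h hA) _)] at m1
      have : α = 0 := by
        by_contra r
        exact q1_not3 h hA (mem_of_pow m1 h.q1_cube ((by decide : ∀ α : Fin 3, ¬ α = 0 → (α.val).Coprime 3) α r))
      have m2 : g * x * g⁻¹ ∈ B := by
        rw [e1, this]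
        exact mul_mem (mul_mem (by simp) (pow_mem (q2_mem3 h hB) _)) (v_mem3 h hB w)
      simpa [mul_assoc] using Normal.conj_mem inferInstance _ m2 g⁻¹
    · exact mem_of_pow (hB ▸ B.pow_index_mem _) e
        (((Nat.coprime_primes Nat.prime_three hq).2 (Ne.symm c)).pow_right k)

end Three

section Two
variable (h : Loc d) [N.Normal] (hN : N.index = 2)
include h hN

omit h in
theorem mem2 (e : g ^ 3 = 1) : g ∈ N := mem_of_pow (hN ▸ N.pow_index_mem _) e (by decide)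

theorem v_mem2 (x : V) : d.v x ∈ N := mem2 hN (v_cube h.co x)

theorem i_mem2 : d.i ∈ N := by
  have := mul_mem (v_mem2 h hN vb) (Normal.conj_mem inferInstance _ (inv_mem (v_mem2 h hN vb)) d.j)
  rwa [← mul_assoc, ← mul_assoc, h.bj, mul_inv_cancel_right] at this

theorem j_mem2 : d.j ∈ N := h.bi ▸ Normal.conj_mem inferInstance _ (i_mem2 h hN) _

theorem t_mem2 : d.t ∈ N := h.ii ▸ mul_mem (i_mem2 h hN) (i_mem2 h hN)

theorem τ_mem2 (k : Fin 3) : d.τ k ∈ N := by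
  have h0 : d.τ 0 ∈ N := by
    obtain ⟨a, ha⟩ := h.exR !![1, 0, 0, 0; 0, -1, 0, 0; 0, 0, 1, 0; 0, 0, 0, -1] (by decide)
      (Iso.rot (by decide) (by decide))
    exact h.conj ha h.ht (h.hτ 0) (by decide) ▸ Normal.conj_mem inferInstance _ (t_mem2 h hN) a
  have h1 : d.τ 1 ∈ N := by
    have := Normal.conj_mem inferInstance _ h0 d.q1
    rwa [h.q1_τ] at this
  have h2 : d.τ 2 ∈ N := by
    have := Normal.conj_mem inferInstance _ h1 d.q1
    rwa [h.q1_τ] at this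
  fin_cases k
  exacts [h0, h1, h2]

theorem ι_mem2 : d.ι ∈ N := h.ι_eq ▸
  mul_mem (mul_mem (t_mem2 h hN) (τ_mem2 h hN 0)) (mul_mem (τ_mem2 h hN 1) (τ_mem2 h hN 2))

theorem hat_mem2 (ha : Hat d a M) (hr : Rot M) : a ∈ N := by
  obtain ⟨b, hb, e⟩ := rot_ind (P := fun M => ∃ b ∈ N, Hat d b M)
    (fun _ _ ⟨a, a1, a2⟩ ⟨b, b1, b2⟩ => ⟨_, mul_mem a1 b1, a2.mul b2⟩)
    ⟨_, mem2 hN h.q1_cube, h.h1⟩ ⟨_, mem2 hN h.q2_cube, h.h2⟩ ⟨_, t_mem2 h hN, h.ht⟩
    (fun k => ⟨_, τ_mem2 h hN k, h.hτ k⟩) M (h.toNZ2.iso ha.1) hr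
  exact h.uniq e ha rfl ▸ hb

theorem J_le2 : d.J ≤ N := fun _ hg => mem2 hN (J_cube h.co hg)

theorem Q_le2 : d.Q ≤ N := fun _ hg => mem2 hN (h.expQ _ hg)

theorem R_le2 : d.R ≤ N := (closure_le _).2 (by
  rintro _ (rfl | rfl)
  exacts [i_mem2 h hN, j_mem2 h hN])

/-- the data in the subgroup of index two -/
def res : Dat N where
  v x := ⟨d.v x, v_mem2 h hN x⟩
  J := d.J.subgroupOf N
  Q := d.Q.subgroupOf N
  t := ⟨d.t, t_mem2 h hN⟩
  q1 := ⟨d.q1, mem2 hN h.q1_cube⟩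
  q2 := ⟨d.q2, mem2 hN h.q2_cube⟩
  i := ⟨d.i, i_mem2 h hN⟩
  j := ⟨d.j, j_mem2 h hN⟩
  ι := ⟨d.ι, ι_mem2 h hN⟩
  τ k := ⟨d.τ k, τ_mem2 h hN k⟩

omit h hN [N.Normal] in
theorem nr_sub (hA : A ≤ N) {g : N} : g ∈ Nr (A.subgroupOf N) ↔ (g : G) ∈ Nr A :=
  ⟨fun e => mem_normalizer_of_cj_le (by
      rintro _ ⟨x, hx, rfl⟩
      exact (mem_normalizer_iff.1 e ⟨x, hA hx⟩).1 hx),
    fun e => mem_normalizer_iff.2 fun x => mem_normalizer_iff.1 e x⟩

omit h hN [N.Normal] in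
theorem ce_sub {x g : N} : g ∈ Ce x ↔ (g : G) ∈ Ce (x : G) := by
  rw [mem_Ce, mem_Ce, Subtype.ext_iff]; rfl

omit h hN [N.Normal] in
theorem nz_sub {x g : N} (e : g ∈ Nz x) : (g : G) ∈ Nz (x : G) := by
  obtain ⟨k, hk⟩ := mem_Nz.1 e
  exact mem_Nz.2 ⟨k, by simpa using congrArg Subtype.val hk⟩

theorem R_res : (res h hN).R = d.R.subgroupOf N := map_injective N.subtype_injective (by
  rw [map_subgroupOf_eq_of_le (R_le2 h hN), MonoidHom.map_closure, Set.image_pair]; rfl)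

theorem acts_res {g : N} : Acts (res h hN).v g M ↔ Acts d.v g M :=
  forall_congr' fun _ => Subtype.ext_iff

theorem hat_res {g : N} : Hat (res h hN) g M ↔ Hat d g M :=
  and_congr (acts_res h hN) Subtype.ext_iff

theorem base_res : Base (res h hN).toDat0 where
  add x y := Subtype.ext (h.add x y)
  inj x y e := h.inj (congrArg Subtype.val e)
  mem g := (h.mem g).trans (exists_congr fun _ =>
    ⟨fun e => Subtype.ext e, fun e => congrArg Subtype.val e⟩)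
  tt := Subtype.ext h.tt
  ii := Subtype.ext h.ii
  jj := Subtype.ext h.jj
  ij := Subtype.ext h.ij
  bi := Subtype.ext h.bi
  bj := Subtype.ext h.bj
  aT := (acts_res h hN).2 h.aT
  a1 := (acts_res h hN).2 h.a1
  a2 := (acts_res h hN).2 h.a2
  memQ g := (h.memQ g).trans (exists₃_congr fun _ _ _ => and_congr_right fun _ =>
    ⟨fun e => Subtype.ext e, fun e => congrArg Subtype.val e⟩)
  expQ a ha := Subtype.ext (h.expQ a ha)
  nQ g hg := (nr_sub (Q_le2 h hN)).2 (h.nQ (nz_sub hg))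
  cR a ha := (h.cR a ⟨ha.1, ce_sub.1 ha.2⟩).imp Subtype.ext Subtype.ext
  frat g hg := by
    obtain ⟨r, hr, e⟩ := h.frat g (nz_sub hg)
    exact ⟨⟨r, R_le2 h hN hr⟩, R_res h hN ▸ hr, (nr_sub (J_le2 h hN)).2 e⟩
  nR g hg := R_res h hN ▸ (nr_sub (R_le2 h hN)).2 (h.nR ⟨nz_sub hg.1, ce_sub.1 hg.2⟩)
  cJ g hg := h.cJ fun x hx => congrArg Subtype.val (hg ⟨x, J_le2 h hN hx⟩ hx)
  wc P A p h1 h2 h3 h4 := map_injective N.subtype_injective <|
    (h.wc _ _ (p.map N.subtype) ((map_subgroupOf_eq_of_le (J_le2 h hN)).ge.trans (map_mono h1))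
      (map_mono h2) (by rintro _ ⟨a, ha, rfl⟩ _ ⟨b, hb, rfl⟩; exact congrArg Subtype.val (h3 a ha b hb))
      ((card_subtype _ _).trans h4)).trans (map_subgroupOf_eq_of_le (J_le2 h hN)).symm
  syl := subgroupOf_sup (J_le2 h hN) (Q_le2 h hN) ▸
    (h.syl.of_le (sup_le (J_le2 h hN) (Q_le2 h hN)) le_top).subgroupOf_top

theorem loc_res : Loc (res h hN) where
  toBase := base_res h hN
  sing x := by
    refine ⟨fun e => (h.sing x).1 (N.subtype.map_isConj e), fun e => ?_⟩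
    obtain ⟨-, M, -, h1, h2⟩ := h.toNZ2.orb e.1 e.2
    obtain ⟨M, h1, hr, h2⟩ : ∃ M, Iso M ∧ Rot M ∧ M *ᵥ H47.O8.vz = x := h1.rot_or.elim (fun r => ⟨M, h1, r, h2⟩)
      fun r => ⟨_, h1.mul iso_C, r, by rw [← Matrix.mulVec_mulVec, ← h2]; congr 1; decide⟩
    obtain ⟨a, ha⟩ := h.exR M h1 hr
    exact isConj_iff.2 ⟨⟨a, hat_mem2 h hN ha hr⟩, Subtype.ext (h2 ▸ ha.1 H47.O8.vz)⟩
  act g hg := (h.act g ((nr_sub (J_le2 h hN)).1 hg)).imp fun _ e => ⟨(acts_res h hN).2 e.1, e.2⟩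
  aι := (acts_res h hN).2 h.aι
  ιι := Subtype.ext h.ιι
  ht := (hat_res h hN).2 h.ht
  h1 := (hat_res h hN).2 h.h1
  h2 := (hat_res h hN).2 h.h2
  hτ k := (hat_res h hN).2 (h.hτ k)
  exR M h1 hr := let ⟨a, ha⟩ := h.exR M h1 hr; ⟨⟨a, hat_mem2 h hN ha hr⟩, (hat_res h hN).2 ha⟩

theorem one_res (hc : Hat d c mC) (cN : c ∉ N) : One (res h hN) := fun g M e => by
  have e' := (acts_res h hN).1 e
  refine (h.toNZ2.iso e').rot_or.resolve_right fun r => cN ?_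
  obtain ⟨x, k, hk, e1⟩ := h.hat e'
  have m : k ∈ N := (mul_mem_cancel_left (v_mem2 h hN x)).1 (e1 ▸ g.2)
  exact (mul_mem_cancel_left m).1 (hat_mem2 h hN (hk.mul hc) r)

end Two

theorem jobR : JobR.{u} := by
  intro G _ _ d c N h _ hc _ hN cN H
  have h' := loc_res h hN
  obtain ⟨A, _, ⟨e⟩, -, hA⟩ := H _ h' (one_res h hN hc cN)
  have : A.Characteristic := characteristic_iff_map_le.2 fun φ => by
    have : (A.map φ.toMonoidHom).Normal := Normal.map inferInstance _ φ.surjective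
    exact le3 h' ((index_map_of_bijective φ.bijective A).trans hA) hA
  refine ⟨A.map N.subtype, inferInstance, ⟨(A.equivMapOfInjective _ N.subtype_injective).symm.trans e⟩,
    eq_bot_iff.2 fun g hg => ?_, Or.inr (by rw [index_map_subtype, hA, hN])⟩
  obtain ⟨x, rfl⟩ := (h.mem g).1 (h.cJ fun y hy => by
    obtain ⟨w, rfl⟩ := (h.mem y).1 hy
    exact hg _ ⟨_, v_mem3 h' hA w, rfl⟩)
  rw [h.v_ι (hg _ ⟨_, ι_mem h' hA, rfl⟩).symm, v_zero h.co]
  exact one_mem _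

end H38.O8
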