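import Cfsg.Agent.H34.R5Spec
import Cfsg.Agent.H2.MinNormal

/-! R5-PA: a solvable group in which every element of `P` is conjugate into `Z(P)`. -/

set_option autoImplicit false

namespace H38.R5

open Cfsg Subgroup

universe u

theorem jobPA : H34.R5.JobPA.{u} := by
  intro X _ _ hX s _ P h a ha b hb
  haveI := H2.pPrimeCore_characteristic s X
  set O := Cfsg.pPrimeCore s X with hO
  let π := QuotientGroup.mk' O
  have hs : Function.Surjective π := QuotientGroup.mk'_surjective O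
  have h0 := H2.centralizer_pCore_le (G := X ⧸ O) (p := s) (H2.pPrimeCore_quotient_pPrimeCore s X)
  haveI : (Cfsg.pCore s (X ⧸ O)).Normal := inferInstance
  have h1 : Cfsg.pCore s (X ⧸ O) ≤ (P : Subgroup X).map π :=
    (H2.pCore_isPGroup s (X ⧸ O)).le_sylow_of_normal (P.mapSurjective hs)
  have h2 : ∀ g ∈ (P : Subgroup X), π g ∈ centralizer (Cfsg.pCore s (X ⧸ O) : Set (X ⧸ O)) := by
    intro g hg
    obtain ⟨n, -, hn⟩ := h g hg
    have h3 : π (n * g * n⁻¹) ∈ centralizer (Cfsg.pCore s (X ⧸ O) : Set (X ⧸ O)) := by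
      intro r hr
      obtain ⟨k, hk, rfl⟩ := h1 hr
      rw [← map_mul, ← map_mul, (hn k hk).eq]
    have h4 := (inferInstance : (centralizer (Cfsg.pCore s (X ⧸ O) : Set (X ⧸ O))).Normal).conj_mem
      _ h3 (π n)⁻¹
    simpa [mul_assoc] using h4
  have h5 : π b * π a = π a * π b := h2 a ha _ (h0 (h2 b hb))
  have h6 : a * b * a⁻¹ * b⁻¹ ∈ O := by
    rw [← QuotientGroup.ker_mk' O, MonoidHom.mem_ker]
    change π _ = 1
    rw [map_mul, map_mul, map_mul, ← h5, map_inv, map_inv]
    group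
  have h7 : a * b * a⁻¹ * b⁻¹ = 1 :=
    (Subgroup.disjoint_def.1 (H2.disjoint_pPrimeCore_of_isPGroup P.isPGroup'))
      (mul_mem (mul_mem (mul_mem ha hb) (inv_mem ha)) (inv_mem hb)) h6
  exact commutatorElement_eq_one_iff_commute.1 h7

end H38.R5
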