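/- Row S3530, job N2 of blueprints/RR.md: arithmetic with primitive primes. -/
import Cfsg.Agent.H70.RRSpec
import Cfsg.Agent.H27.Zsigmondy

set_option autoImplicit false

namespace H38.RRN2

open H70.RR H70.Sq

theorem dv1 {s k : ℕ} : s ∣ 3 ^ k - 1 ↔ (3 : ZMod s) ^ k = 1 := by
  rw [← ZMod.natCast_eq_zero_iff, Nat.cast_sub (Nat.one_le_pow _ _ (by norm_num)), sub_eq_zero]
  push_cast
  rfl

theorem dv2 {s k : ℕ} : s ∣ 3 ^ k + 1 ↔ (3 : ZMod s) ^ k = -1 := by
  rw [← ZMod.natCast_eq_zero_iff, eq_neg_iff_add_eq_zero]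
  push_cast
  rfl

theorem pm {s : ℕ} (hs : s.Prime) (h2 : s ≠ 2) {x : ZMod s} (a : x = 1) (b : x = -1) : False := by
  have : Fact (2 < s) := ⟨lt_of_le_of_ne hs.two_le h2.symm⟩
  exact ZMod.neg_one_ne_one (b.symm.trans a)

theorem sq_of {s k : ℕ} (h : (3 : ZMod s) ^ k = -1) : orderOf (3 : ZMod s) ∣ k * 2 :=
  orderOf_dvd_of_pow_eq_one (by rw [pow_mul, h]; ring)

theorem zs (n : ℕ) (hn : 3 ≤ n) :
    ∃ s, s.Prime ∧ s ≠ 2 ∧ s ≠ 3 ∧ orderOf (3 : ZMod s) = n ∧ n < s := by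
  obtain ⟨r, hr, h1, h2⟩ := H27.zsigmondy 3 n (by omega) (by omega) (by omega) (by omega)
  have a := H27.orderOf_eq_of_primitive (by omega) (by omega) h1 h2
  have b := Nat.le_of_dvd (by have := hr.two_le; omega)
    (H27.dvd_sub_one_of_primitive (by omega) (by omega) hr h1 h2)
  have := hr.two_le
  exact ⟨r, hr, by omega, by omega, by simpa using a, by omega⟩

/-- an odd order does not give `-1` -/
theorem odd_no {s k : ℕ} (hs : s.Prime) (h2 : s ≠ 2) (ho : Odd (orderOf (3 : ZMod s)))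
    (h : (3 : ZMod s) ^ k = -1) : False :=
  pm hs h2 (orderOf_dvd_iff_pow_eq_one.1 ((Nat.coprime_two_right.2 ho).dvd_of_dvd_mul_right (sq_of h))) h

theorem ree_dvd {s n : ℕ} (hs : s.Prime) (h3 : s ≠ 3) (h : s ∣ reeOrd n) :
    (3 : ZMod s) ^ (2 * n + 1) = 1 ∨ (3 : ZMod s) ^ ((2 * n + 1) * 3) = -1 := by
  rcases (Nat.Prime.dvd_mul hs).1 h with h | h
  · rcases (Nat.Prime.dvd_mul hs).1 h with h | h
    · exact absurd ((Nat.prime_dvd_prime_iff_eq hs Nat.prime_three).1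
        (hs.dvd_of_dvd_pow (hs.dvd_of_dvd_pow h))) h3
    · exact .inl (dv1.1 h)
  · exact .inr (dv2.1 (by rwa [pow_mul]))

theorem c34 {m : ℕ} {i : Fin 5} (hi : i = 3 ∨ i = 4) :
    col m i ∣ 3 ^ ((2 * m + 1) * 3) + 1 ∧ cM m ≤ col m i := by
  obtain ⟨r, hr⟩ : Odd (3 ^ m) := Odd.pow (by decide)
  have e1 : 3 ^ (2 * m + 1) = 12 * r ^ 2 + 12 * r + 3 := by rw [pow_succ, pow_mul', hr]; ring
  have e2 : 3 ^ (m + 1) = 6 * r + 3 := by rw [pow_succ, hr]; ring
  have e3 : cM m = 12 * r ^ 2 + 6 * r + 1 := by rw [cM, e1, e2]; omega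
  have e4 : cP m = 12 * r ^ 2 + 18 * r + 7 := by rw [cP, e1, e2]; omega
  have e5 : 3 ^ ((2 * m + 1) * 3) + 1 = cM m * cP m * (12 * r ^ 2 + 12 * r + 4) := by
    rw [pow_mul, e1, e3, e4]; ring
  rcases hi with rfl | rfl
  · exact ⟨e5 ▸ (dvd_mul_right (cM m) (cP m)).mul_right _, le_rfl⟩
  · exact ⟨e5 ▸ (dvd_mul_left (cP m) (cM m)).mul_right _, by change cM m ≤ cP m; omega⟩

theorem cl34 {m s : ℕ} (h : Num m) {i : Fin 5} (hi : i = 3 ∨ i = 4) (hs : Cl m i s) :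
    7 ≤ s ∧ (3 : ZMod s) ^ ((2 * m + 1) * 3) = -1 ∧ (3 : ZMod s) ^ (2 * m + 1) ≠ 1 ∧
      (3 : ZMod s) ^ (2 * m + 1) ≠ -1 := by
  have h7 := h.big i s (by rcases hi with rfl | rfl <;> decide) hs
  refine ⟨h7, dv2.1 (hs.2.trans (c34 hi).1), fun e => ?_, fun e => ?_⟩
  · have := h.uniq _ _ s hs ((h.clA s hs.1 (by omega)).2 (dv1.2 e))
    rcases hi with rfl | rfl <;> exact absurd this (by decide)
  · have := h.uniq _ _ s hs ((h.clB s hs.1 (by omega)).2 (dv2.2 e))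
    rcases hi with rfl | rfl <;> exact absurd this (by decide)

theorem ineq (k : ℕ) : 14 * (k + 5) ≤ 81 * 3 ^ k := by
  induction k with
  | zero => norm_num
  | succ k ih =>
    have : 1 ≤ 3 ^ k := Nat.one_le_pow _ _ (by norm_num)
    rw [pow_succ]; omega

/-- not all primes of the colour occur for a small subfield -/
theorem lemL {m g k : ℕ} (hm : 1 ≤ m) (h : Num m) {i : Fin 5} (hi : i = 3 ∨ i = 4) (e : 2 * m + 1 = g * k)
    (hk : 5 ≤ k) (H : ∀ s, Cl m i s → (3 : ZMod s) ^ (g * 3) = -1) : False := by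
  have ko : Odd k := (Nat.odd_mul.1 (e ▸ odd_two_mul_add_one m)).2
  have g1 : 1 ≤ g := Nat.pos_of_ne_zero fun z => by simp [z] at e
  have dv : col m i ∣ (3 ^ (g * 3) + 1) * k := (Nat.dvd_iff_prime_pow_dvd_dvd _ _).2 fun p j pp hj => by
    rcases Nat.eq_zero_or_pos j with rfl | j0
    · simp
    have := Fact.mk pp
    have hc : Cl m i p := ⟨pp, (dvd_pow_self p j0.ne').trans hj⟩
    have h7 := (cl34 h hi hc).1
    have v := padicValNat.pow_add_pow (p := p) (x := 3 ^ (g * 3)) (y := 1) (pp.odd_of_ne_two (by omega))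
      (dv2.2 (H p hc)) (fun d => by
        have := (Nat.prime_dvd_prime_iff_eq pp Nat.prime_three).1 (pp.dvd_of_dvd_pow d)
        omega) ko
    rw [padicValNat_dvd_iff_le (by positivity), padicValNat.mul (by positivity) (by omega), ← v,
      ← padicValNat_dvd_iff_le (by positivity), one_pow, ← pow_mul, mul_right_comm, ← e]
    exact hj.trans (c34 hi).1
  have le := (c34 hi).2.trans (Nat.le_of_dvd (by positivity) dv)
  obtain ⟨k, rfl⟩ := Nat.exists_eq_add_of_le' hk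
  have a1 : 3 ^ (m + 1) * 3 ≤ 3 ^ (2 * m + 1) := by
    rw [← pow_succ]; exact Nat.pow_le_pow_right (by norm_num) (by omega)
  have a2 : 3 ^ (g * 3) * (9 * 3 ^ k) ≤ 3 ^ (2 * m + 1) := by
    rw [show 9 * 3 ^ k = 3 ^ (k + 2) by ring, ← pow_add, e]
    exact Nat.pow_le_pow_right (by norm_num) (by nlinarith)
  have a3 : 27 ≤ 3 ^ (g * 3) := Nat.pow_le_pow_right (n := 3) (i := 3) (by norm_num) (by omega)
  have a4 := ineq k
  rw [cM] at le
  generalize 3 ^ (g * 3) = Y at le a2 a3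
  generalize 3 ^ k = Z at a2 a4
  have a5 : (Y + 1) * (k + 5) * 27 ≤ 28 * Y * (k + 5) := by nlinarith
  have a6 : 28 * Y * (k + 5) ≤ 18 * (Y * (9 * Z)) := by nlinarith
  omega

theorem jobN2 : JobN2 := fun m hm h => by
  have fo := odd_two_mul_add_one m
  obtain ⟨s1, p1, n1, t1, o1, l1⟩ := zs (2 * m + 1) (by omega)
  have c1 : Cl m 1 s1 := (h.clA s1 p1 n1).2 (dv1.2 (o1 ▸ pow_orderOf_eq_one _))
  obtain ⟨s2, p2, n2, t2, o2, l2⟩ := zs ((2 * m + 1) * 2) (by omega)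
  have c2 : Cl m 2 s2 := (h.clB s2 p2 n2).2 (dv2.2 (by
    have := Fact.mk p2
    have a := pow_orderOf_eq_one (3 : ZMod s2)
    rw [o2, pow_mul, sq_eq_one_iff] at a
    refine a.resolve_left fun e => ?_
    have := Nat.le_of_dvd (by omega) (o2 ▸ orderOf_dvd_of_pow_eq_one e)
    omega))
  have cases : ∀ i : Fin 5, i ≠ 0 → i = 1 ∨ i = 2 ∨ i = 3 ∨ i = 4 := by decide
  refine ⟨fun n hn ⟨k, e⟩ i hi h7 => ?_, fun i hi => ?_, fun n no ho => ?_⟩
  · have ko : Odd k := (Nat.odd_mul.1 (e ▸ fo)).2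
    rcases cases i hi with rfl | rfl | hi
    · refine ⟨s1, c1, fun d => (ree_dvd p1 t1 d).elim (fun a => ?_) (odd_no p1 n1 (o1 ▸ fo))⟩
      have := Nat.le_of_dvd (by omega) (o1 ▸ orderOf_dvd_of_pow_eq_one a)
      omega
    · refine ⟨s2, c2, fun d => (ree_dvd p2 t2 d).elim (fun a => ?_) fun a => ?_⟩
      · have := Nat.le_of_dvd (by omega) (o2 ▸ orderOf_dvd_of_pow_eq_one a)
        omega
      · have b := Nat.dvd_of_mul_dvd_mul_right (by norm_num) (o2 ▸ sq_of a)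
        have c : ¬ 3 ∣ 2 * m + 1 := fun ⟨j, hj⟩ => h7 ((h.clB 7 (by norm_num) (by norm_num)).2 (dv2.2 (by
          rw [hj, pow_mul, show (3 : ZMod 7) ^ 3 = -1 by decide, (Nat.odd_mul.1 (hj ▸ fo)).2.neg_one_pow])))
        have := Nat.le_of_dvd (by omega)
          (((Nat.Prime.coprime_iff_not_dvd Nat.prime_three).2 c).symm.dvd_of_dvd_mul_right b)
        omega
    · by_contra! H
      have all : ∀ s, Cl m i s → (3 : ZMod s) ^ ((2 * n + 1) * 3) = -1 := fun s hs =>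
        (ree_dvd hs.1 (by have := (cl34 h hi hs).1; omega) (H s hs)).resolve_left fun a =>
          (cl34 h hi hs).2.2.1 (by rw [e, pow_mul, a, one_pow])
      by_cases k3 : 3 ∣ k
      · obtain ⟨j, rfl⟩ := k3
        obtain ⟨s, hs⟩ := h.ex i
        exact (cl34 h hi hs).2.2.2 (by
          rw [e, ← mul_assoc, pow_mul, all s hs, (Nat.odd_mul.1 ko).2.neg_one_pow])
      · refine lemL hm h hi e ?_ all
        obtain ⟨j, rfl⟩ := ko
        rcases j with _ | _ | j <;> omega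
  · rcases cases i hi with rfl | rfl | hi
    · exact ⟨s1, c1, fun d => by have := Nat.le_of_dvd (by omega) d; omega⟩
    · exact ⟨s2, c2, fun d => by have := Nat.le_of_dvd (by omega) d; omega⟩
    by_contra! H
    obtain ⟨s0, h0⟩ := h.ex i
    have mem : ∀ s, Cl m i s → s ∈ (2 * m + 1).primeFactors := fun s hs =>
      Nat.mem_primeFactors.2 ⟨hs.1, H s hs, by omega⟩
    obtain ⟨p, hp, mx⟩ := (2 * m + 1).primeFactors.exists_max_image id ⟨s0, mem s0 h0⟩
    obtain ⟨pp, pd, -⟩ := Nat.mem_primeFactors.1 hp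
    obtain ⟨a, g, ng, e⟩ := Nat.exists_eq_pow_mul_and_not_dvd (n := 2 * m + 1) (by omega) p pp.ne_one
    have a0 : a ≠ 0 := fun z => ng (by simpa [e, z] using pd)
    refine lemL hm h hi (g := g) (k := p ^ a) (e.trans (mul_comm _ _)) ?_ fun s hs => ?_
    · have := (cl34 h hi h0).1
      have : s0 ≤ p := mx s0 (mem s0 h0)
      have := Nat.le_self_pow a0 p
      omega
    have := Fact.mk hs.1
    obtain ⟨h7, b, -⟩ := cl34 h hi hs
    have x0 : (3 : ZMod s) ≠ 0 := fun z => by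
      rw [z, zero_pow (by omega)] at b
      exact one_ne_zero (neg_eq_zero.1 b.symm)
    have d := ZMod.orderOf_dvd_card_sub_one x0
    have le := Nat.le_of_dvd (by omega) d
    have sp : s ≤ p := mx s (mem s hs)
    have o0 : 0 < orderOf (3 : ZMod s) := Nat.pos_of_dvd_of_pos d (by omega)
    have cop : (orderOf (3 : ZMod s)).Coprime (p ^ a) :=
      ((Nat.Prime.coprime_iff_not_dvd pp).2 fun c => by
        have := Nat.le_of_dvd o0 c
        omega).symm.pow_right a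
    have c := sq_of b
    rw [e, mul_assoc, mul_assoc, ← mul_assoc g] at c
    have c' := orderOf_dvd_iff_pow_eq_one.1 (cop.dvd_of_dvd_mul_left c)
    rw [pow_mul, sq_eq_one_iff] at c'
    refine c'.resolve_left fun z => pm hs.1 (by omega) ?_ b
    rw [e, mul_assoc, mul_comm, pow_mul, z, one_pow]
  · rcases eq_or_ne n 1 with rfl | n1
    · exact one_dvd _
    obtain ⟨s, ps, ns, ts, os, -⟩ := zs n (by obtain ⟨j, rfl⟩ := no; omega)
    have d : s ∣ 3 ^ n - 1 := dv1.2 (os ▸ pow_orderOf_eq_one _)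
    have d2 : s ∣ (3 ^ n - 1) / 2 := by
      obtain ⟨j, hj⟩ : Odd (3 ^ n) := Odd.pow (by decide)
      rw [hj, Nat.add_sub_cancel] at d ⊢
      rw [Nat.mul_div_cancel_left _ (by norm_num)]
      exact ((Nat.coprime_primes ps Nat.prime_two).2 ns).dvd_of_dvd_mul_left d
    obtain ⟨i, hi⟩ := (h.prime s ps (ho.of_dvd d2)).resolve_left ns
    rcases cases i (fun z => ts ((h.zero s).1 (z ▸ hi))) with rfl | rfl | k
    · exact os ▸ orderOf_dvd_of_pow_eq_one (dv1.1 ((h.clA s ps ns).1 hi))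
    · exact (odd_no ps ns (os ▸ no) (dv2.1 ((h.clB s ps ns).1 hi))).elim
    · exact (odd_no ps ns (os ▸ no) (cl34 h k hi).2.1).elim

end H38.RRN2
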