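import Cfsg.Agent.H87.S4K

/-! Tower SP4: basics on the configuration `Des` and the design count (job Div). -/

set_option autoImplicit false

namespace H38.S4

open Cfsg H92 H87.S4 Subgroup MulAction
open scoped Pointwise

universe v

theorem ncard_part {α β : Type*} [Finite α] [Finite β] (X : Set α) (T : Set β) (F : β → Set α)
    (m : ℕ) (h1 : ∀ x ∈ X, ∃ t ∈ T, x ∈ F t) (h2 : ∀ t ∈ T, F t ⊆ X)
    (h3 : ∀ t ∈ T, ∀ t' ∈ T, ∀ x ∈ F t, x ∈ F t' → t = t') (h4 : ∀ t ∈ T, (F t).ncard = m) :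
    X.ncard = T.ncard * m := by
  classical
  have e : X = ↑((Set.toFinite T).toFinset.biUnion fun t => (Set.toFinite (F t)).toFinset) := by
    ext x
    simpa using ⟨h1 x, fun ⟨t, ht, hx⟩ => h2 t ht hx⟩
  rw [e, Set.ncard_coe_finset, Finset.card_biUnion, Set.ncard_eq_toFinset_card T,
    Finset.sum_const_nat fun t ht => by
      rw [← Set.ncard_eq_toFinset_card, h4 t (by simpa using ht)]]
  intro t ht t' ht' e
  refine Finset.disjoint_left.2 fun x hx hx' => e ?_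
  exact h3 t (by simpa using ht) t' (by simpa using ht') x (by simpa using hx) (by simpa using hx')

variable {K : Type v} [Field K] {p : ℕ} {Γ U : Subgroup (A (K × K × K))} {E : AddSubgroup K}
  {g h : A (K × K × K)} {P Q : Set (K × K × K)} {B B' : Set (Set (K × K × K))} {x y : K × K × K}
  {a b : K}

/-- The point `Z`. -/
def Zs (K : Type v) [Field K] : Set (K × K × K) := Set.range fun w => (0, 0, w)

/-- Points: the conjugates of `Z`. -/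
def Pt (Γ : Subgroup (A (K × K × K))) (P : Set (K × K × K)) : Prop := ∃ g ∈ Γ, P = g • Zs K

/-- The common part of all points. -/
def InE (E : AddSubgroup K) (x : K × K × K) : Prop := ∃ e ∈ E, x = (0, 0, e)

/-- Blocks: the conjugates of `Sig`. -/
def Bl (Γ : Subgroup (A (K × K × K))) (B : Set (Set (K × K × K))) : Prop := ∃ g ∈ Γ, B = g • Sig Γ

/-- `diag(1, -1, 1)`. -/
def tau (K : Type v) [Field K] : A (K × K × K) := dg 1 (-1) 1 (by simp) (by simp) (by simp)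

theorem ext3 (e : ∀ c y w, g (c, y, w) = h (c, y, w)) : g = h :=
  LinearEquiv.ext fun ⟨c, y, w⟩ => e c y w

theorem smul_Z : g • Zs K = Set.range fun w => g (0, 0, w) := (Set.range_comp _ _).symm

theorem mem_sig : P ∈ Sig Γ ↔ Pt Γ P ∧ ∀ v ∈ P, v.2.1 = 0 := by simp [Sig, Pt, smul_Z]

theorem mem_Z : x ∈ Zs K ↔ x.1 = 0 ∧ x.2.1 = 0 :=
  ⟨fun ⟨_, e⟩ => e ▸ ⟨rfl, rfl⟩, fun ⟨h1, h2⟩ => ⟨x.2.2, Prod.ext h1.symm (Prod.ext h2.symm rfl)⟩⟩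

theorem tau_apply (c y w : K) : tau K (c, y, w) = (c, -y, w) := by simp [tau]

theorem tau_sq : tau K * tau K = 1 := ext3 fun c y w => by simp [A.mul_apply, tau_apply]

theorem u3_mul (a b : K) : u3 a * u3 b = u3 (a + b) := ext3 fun c y w => by
  simp only [A.mul_apply, u3_apply, Prod.mk.injEq, true_and]
  constructor <;> ring

theorem u3_zero : u3 (0 : K) = 1 := ext3 fun c y w => by simp

theorem u3_inv (a : K) : (u3 a)⁻¹ = u3 (-a) :=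
  inv_eq_of_mul_eq_one_right (by rw [u3_mul, add_neg_cancel, u3_zero])

theorem tau_u3 (a : K) : tau K * u3 a = u3 (-a) * tau K := ext3 fun c y w => by
  simp only [A.mul_apply, u3_apply, tau_apply, Prod.mk.injEq, true_and]
  constructor <;> ring

theorem smul_eq_of_fix (e : ∀ x ∈ P, g x = x) : g • P = P :=
  (Set.image_congr e).trans (Set.image_id P)

theorem u3_Z (a : K) : u3 a • Zs K = Zs K := smul_eq_of_fix (by rintro _ ⟨w, rfl⟩; simp)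

theorem pt_Z : Pt Γ (Zs K) := ⟨1, one_mem _, by simp⟩

theorem Z_sig : Zs K ∈ Sig Γ := mem_sig.2 ⟨pt_Z, fun _ h => (mem_Z.1 h).2⟩

theorem Pt.smul (hP : Pt Γ P) (hg : g ∈ Γ) : Pt Γ (g • P) := by
  obtain ⟨h, hh, rfl⟩ := hP
  exact ⟨g * h, mul_mem hg hh, (mul_smul _ _ _).symm⟩

theorem Pt.add (hP : Pt Γ P) (hx : x ∈ P) (hy : y ∈ P) : x + y ∈ P := by
  obtain ⟨h, -, rfl⟩ := hP
  obtain ⟨_, ⟨w, rfl⟩, rfl⟩ := hx
  obtain ⟨_, ⟨w', rfl⟩, rfl⟩ := hy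
  exact ⟨_, ⟨w + w', rfl⟩, by simp [← map_add]⟩

theorem Pt.sub (hP : Pt Γ P) (hx : x ∈ P) (hy : y ∈ P) : x - y ∈ P := by
  obtain ⟨h, -, rfl⟩ := hP
  obtain ⟨_, ⟨w, rfl⟩, rfl⟩ := hx
  obtain ⟨_, ⟨w', rfl⟩, rfl⟩ := hy
  exact ⟨_, ⟨w - w', rfl⟩, by simp [← map_sub]⟩

theorem Pt.ncard (hP : Pt Γ P) : P.ncard = Nat.card K := by
  obtain ⟨h, -, rfl⟩ := hP
  rw [Set.ncard_smul_set, Zs, Set.ncard_range_of_injective fun _ _ e => by simpa using e]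

theorem tau_fix (h2 : (2 : K) ≠ 0) : tau K x = x ↔ x.2.1 = 0 := by
  obtain ⟨c, y, w⟩ := x
  simp only [tau_apply, Prod.mk.injEq, true_and, and_true]
  exact ⟨fun e => (mul_eq_zero.1 (by linear_combination -e)).resolve_left h2, fun e => by simp [e]⟩

theorem sig_smul (h2 : (2 : K) ≠ 0) (hg : g ∈ Γ) (e : g * tau K = tau K * g) (hP : P ∈ Sig Γ) :
    g • P ∈ Sig Γ := by
  refine mem_sig.2 ⟨(mem_sig.1 hP).1.smul hg, ?_⟩
  rintro _ ⟨x, hx, rfl⟩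
  refine (tau_fix h2).1 ?_
  simp only [LinearEquiv.smul_def]
  rw [← A.mul_apply, ← e, A.mul_apply, (tau_fix h2).2 ((mem_sig.1 hP).2 x hx)]

theorem Bl.smul (hB : Bl Γ B) (hg : g ∈ Γ) : Bl Γ (g • B) := by
  obtain ⟨h, hh, rfl⟩ := hB
  exact ⟨g * h, mul_mem hg hh, (mul_smul _ _ _).symm⟩

theorem Bl.pt (hB : Bl Γ B) (hP : P ∈ B) : Pt Γ P := by
  obtain ⟨h, hh, rfl⟩ := hB
  obtain ⟨Q, hQ, rfl⟩ := hP
  exact (mem_sig.1 hQ).1.smul hh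

variable [Finite K]

theorem sig_eq (h2 : (2 : K) ≠ 0) (hg : g ∈ Γ) (e : g * tau K = tau K * g) : g • Sig Γ = Sig Γ :=
  Set.eq_of_subset_of_ncard_le (by rintro _ ⟨P, hP, rfl⟩; exact sig_smul h2 hg e hP)
    (Set.ncard_smul_set _ _).ge

theorem pz_iff : PZ g ↔ g • Zs K = Zs K := by
  refine ⟨fun h => Set.eq_of_subset_of_ncard_le ?_ (Set.ncard_smul_set _ _).ge, fun h w => ?_⟩
  · rintro _ ⟨_, ⟨w, rfl⟩, rfl⟩
    exact (h w).imp fun _ e => e.symm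
  · exact (h.le ⟨_, ⟨w, rfl⟩, rfl⟩).imp fun _ e => e.symm

section Des

variable (D : Des p Γ U E)
include D

theorem u3_mem (a : K) : u3 a ∈ Γ := D.syl.le (D.toD3.mem.2 ⟨a, rfl⟩)

theorem dg_mem {s : K} (hs : s ≠ 0) : dg (s ^ 2) s 1 (pow_ne_zero 2 hs) hs one_ne_zero ∈ Γ := by
  obtain ⟨d, hd, e⟩ := D.tor s hs
  convert hd using 1
  exact ext3 fun c y w => by simp [e]

theorem tau_mem : tau K ∈ Γ := by
  obtain ⟨d, hd, e⟩ := D.tor (-1) (by simp)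
  convert hd using 1
  exact ext3 fun c y w => by simp [e, tau_apply]

theorem fixE (hg : g ∈ Γ) (hx : InE E x) : g x = x := by
  obtain ⟨e, he, rfl⟩ := hx
  exact D.fix g hg e he

theorem inE_smul (hg : g ∈ Γ) (hx : InE E (g x)) : InE E x := by
  have := fixE D (inv_mem hg) hx
  rw [A.inv_self] at this
  exact this ▸ hx

theorem E_mem (hP : Pt Γ P) (hx : InE E x) : x ∈ P := by
  obtain ⟨g, hg, rfl⟩ := hP
  refine ⟨x, ?_, fixE D hg hx⟩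
  obtain ⟨e, -, rfl⟩ := hx
  exact ⟨e, rfl⟩

theorem pt_eq (hP : Pt Γ P) (hQ : Pt Γ Q) (hx : x ∈ P) (hx' : x ∈ Q) (hE : ¬ InE E x) : P = Q := by
  obtain ⟨g, hg, rfl⟩ := hP
  obtain ⟨h, hh, rfl⟩ := hQ
  obtain ⟨_, ⟨w, rfl⟩, rfl⟩ := hx
  obtain ⟨_, ⟨w', rfl⟩, e⟩ := hx'
  rcases D.meet (h⁻¹ * g) (mul_mem (inv_mem hh) hg) with h1 | h1
  · rw [← inv_smul_eq_iff, ← mul_smul, pz_iff.1 h1]
  · have h2 := h1 w w' (by simp only [LinearEquiv.smul_def] at e; rw [A.mul_apply, ← e, A.inv_self])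
    exact absurd ⟨w, h2, D.fix g hg w h2⟩ hE

theorem exists_nE (hP : Pt Γ P) : ∃ x ∈ P, ¬ InE E x := by
  obtain ⟨g, hg, rfl⟩ := hP
  obtain ⟨h, hh, h1⟩ := D.mv
  by_contra! h2
  refine h1 fun w => ⟨w, fixE D hh (inE_smul D hg (h2 _ ⟨_, ⟨w, rfl⟩, rfl⟩))⟩

variable [Fact p.Prime]

theorem syl (hP : Pt Γ P) (e : u3 a • P = P) (hx : x ∈ P) : u3 a x = x := by
  obtain ⟨g, hg, rfl⟩ := hP
  obtain ⟨k, hk⟩ := isPGroup_iff_forall.1 D.syl.isPGroup _ (D.toD3.mem.2 ⟨a, rfl⟩)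
  obtain ⟨h, hh, h1⟩ := (D.syl.mono (C := Γ ⊓ stabilizer _ (Zs K)) (le_inf D.syl.le fun u hu => by
      obtain ⟨b, rfl⟩ := D.toD3.mem.1 hu; exact u3_Z b) inf_le_left).exists_conj
    (C := zpowers (g⁻¹ * u3 a * g⁻¹⁻¹)) (isPGroup_iff_forall.2 (by
      rintro _ ⟨n, rfl⟩
      exact ⟨k, by rw [← zpow_natCast, ← zpow_mul, mul_comm, zpow_mul, zpow_natCast, conj_pow, hk]; simp⟩))
    (zpowers_le.2 (mem_inf.2 ⟨mul_mem (mul_mem (inv_mem hg) (u3_mem D a)) (inv_mem (inv_mem hg)), by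
      rw [mem_stabilizer_iff, inv_inv, mul_smul, mul_smul, e, inv_smul_smul]⟩))
  obtain ⟨b, h2⟩ := D.toD3.mem.1 (h1 _ (mem_zpowers _))
  obtain ⟨x, hx, rfl⟩ := hx
  obtain ⟨w, h3⟩ : h x ∈ Zs K := (mem_stabilizer_iff.1 hh.2).le ⟨x, hx, rfl⟩
  have h4 : u3 a = g * h⁻¹ * u3 b * h * g⁻¹ := by rw [← h2]; group
  simp only [LinearEquiv.smul_def] at h3 ⊢
  rw [h4]
  simp only [A.mul_apply, A.inv_self]
  rw [← h3, u3_apply]
  simp [h3]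

variable (h2 : (2 : K) ≠ 0)
include h2

theorem B1 (hP : Pt Γ P) (hZ : P ≠ Zs K) (hx : x ∈ P) (h0 : x.1 = 0) : InE E x := by
  by_contra hE
  obtain ⟨c, y, w⟩ := x
  obtain rfl : c = 0 := h0
  have hy : y ≠ 0 := fun e => hZ (pt_eq D hP pt_Z hx (mem_Z.2 ⟨rfl, e⟩) hE)
  obtain ⟨⟨e, he⟩, e0⟩ := AddSubgroup.ne_bot_iff_exists_ne_zero.1 D.ne
  have h1 : u3 (e / (2 * y)) (0, y, w) = (0, y, w) + (0, 0, e) := by
    simp only [u3_apply, Prod.mk_add_mk, Prod.mk.injEq]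
    refine ⟨by simp, by simp, by field_simp; ring⟩
  have h3 := syl D hP (pt_eq D (hP.smul (u3_mem D _)) hP ⟨_, hx, rfl⟩
    (h1 ▸ hP.add hx (E_mem D hP ⟨e, he, rfl⟩) : u3 (e / (2 * y)) (0, y, w) ∈ P)
    fun h => hE (inE_smul D (u3_mem D _) h)) hx
  rw [h1] at h3
  exact e0 (by simpa using h3)

theorem B2 (hP : Pt Γ P) (e : tau K • P = P) : P ∈ Sig Γ := by
  by_cases hZ : P = Zs K
  · exact hZ ▸ Z_sig
  refine mem_sig.2 ⟨hP, fun ⟨c, y, w⟩ hx => ?_⟩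
  obtain ⟨e, -, h1⟩ := B1 D h2 hP hZ (hP.sub hx (e.le ⟨_, hx, rfl⟩)) (by simp [tau_apply])
  simp only [LinearEquiv.smul_def, tau_apply, Prod.mk_sub_mk, Prod.mk.injEq] at h1
  exact (mul_eq_zero.1 (by linear_combination h1.2.1)).resolve_left h2

theorem B3 (hP : Pt Γ P) (hZ : P ≠ Zs K) : ∃! a : K, u3 a • P ∈ Sig Γ := by
  obtain ⟨⟨c, y, w⟩, hx, hE⟩ := exists_nE D hP
  have hc : c ≠ 0 := fun e => hE (B1 D h2 hP hZ hx e)
  refine ⟨-y / c, B2 D h2 (hP.smul (u3_mem D _)) (pt_eq D ((hP.smul (u3_mem D _)).smul (tau_mem D))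
    (hP.smul (u3_mem D _)) ⟨_, ⟨_, hx, rfl⟩, (tau_fix h2).2 (by simp [hc])⟩ ⟨_, hx, rfl⟩
    fun h => hE (inE_smul D (u3_mem D _) h)), fun a ha => ?_⟩
  have := (mem_sig.1 ha).2 _ ⟨_, hx, rfl⟩
  simp only [LinearEquiv.smul_def, u3_apply] at this
  field_simp
  linear_combination this

theorem B4 (hg : g ∈ Γ) (hz : ∀ w, g (0, 0, w) = (0, 0, w)) (g2 : g * g = 1) (g1 : g ≠ 1) :
    ∃ a, g * u3 a = u3 a * tau K := by
  obtain ⟨u, hu, s, -, e⟩ := D.cen g hg hz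
  obtain ⟨a, rfl⟩ := D.toD3.mem.1 hu
  have h1 := congrArg (· (0, 1, 0)) g2
  have h3 := congrArg (· (1, 0, 0)) g2
  simp only [A.mul_apply, e, u3_apply, A.one_apply, Prod.mk.injEq] at h1 h3
  rcases mul_self_eq_one_iff.1 (show s * s = 1 by linear_combination h1.2.1) with rfl | rfl
  · obtain rfl : a = 0 := (mul_eq_zero.1 (by linear_combination h3.2.1)).resolve_left h2
    exact absurd (ext3 fun c y w => by simp [e]) g1
  · refine ⟨a / 2, ext3 fun c y w => ?_⟩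
    simp only [A.mul_apply, e, u3_apply, tau_apply, Prod.mk.injEq]
    refine ⟨by ring, ?_, ?_⟩ <;> field_simp <;> ring

theorem B4' (hg : g ∈ Γ) (hz : ∀ x ∈ g • Zs K, x.2.1 = 0) :
    ∃ a, g * u3 a * tau K = tau K * (g * u3 a) := by
  obtain ⟨a, e⟩ := B4 D h2 (g := g⁻¹ * tau K * g⁻¹⁻¹)
    (mul_mem (mul_mem (inv_mem hg) (tau_mem D)) (inv_mem (inv_mem hg))) (fun w => by
      rw [inv_inv, A.mul_apply, A.mul_apply, (tau_fix h2).2 (hz (g (0, 0, w)) ⟨_, ⟨w, rfl⟩, rfl⟩),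
        A.inv_self]) (by rw [conj_mul, tau_sq]; simp) fun e => h2 (by
      have := congrArg (· (0, 1, 0)) (conj_eq_one_iff.1 e)
      simp only [tau_apply, A.one_apply, Prod.mk.injEq] at this
      linear_combination -this.2.1)
  exact ⟨a, by rw [mul_assoc, ← e]; group⟩

theorem B5 (hP : P ∈ Sig Γ) : ∃ g ∈ Γ, g • Zs K = P ∧ g * tau K = tau K * g := by
  obtain ⟨⟨g, hg, rfl⟩, h1⟩ := mem_sig.1 hP
  obtain ⟨a, e⟩ := B4' D h2 hg h1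
  exact ⟨_, mul_mem hg (u3_mem D a), by rw [mul_smul, u3_Z], e⟩

theorem blZ (hB : Bl Γ B) (hZ : Zs K ∈ B) : ∃ a : K, B = u3 a • Sig Γ := by
  obtain ⟨g, hg, rfl⟩ := hB
  obtain ⟨P, hP, e⟩ := hZ
  obtain ⟨h, hh, rfl, h1⟩ := B5 D h2 hP
  have h3 : (g * h)⁻¹ • Zs K = Zs K := by rw [inv_smul_eq_iff, mul_smul]; exact e.symm
  obtain ⟨a, h4⟩ := B4' D h2 (inv_mem (mul_mem hg hh)) fun x hx => (mem_Z.1 (h3 ▸ hx)).2
  refine ⟨a, ?_⟩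
  have h5 := sig_eq h2 (mul_mem (inv_mem (mul_mem hg hh)) (u3_mem D a)) h4
  rw [mul_smul, inv_smul_eq_iff, mul_smul, sig_eq h2 hh h1] at h5
  exact h5.symm

theorem bl_ex (hP : Pt Γ P) (hQ : Pt Γ Q) : ∃ B, Bl Γ B ∧ P ∈ B ∧ Q ∈ B := by
  obtain ⟨g, hg, rfl⟩ := hP
  by_cases hZ : g⁻¹ • Q = Zs K
  · exact ⟨_, ⟨g, hg, rfl⟩, ⟨_, Z_sig, rfl⟩, _, Z_sig, by simp [← hZ]⟩
  obtain ⟨a, ha, -⟩ := B3 D h2 (hQ.smul (inv_mem hg)) hZ
  exact ⟨_, ⟨g * (u3 a)⁻¹, mul_mem hg (inv_mem (u3_mem D a)), rfl⟩,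
    ⟨_, Z_sig, by simp only [mul_smul, u3_inv, u3_Z]⟩, _, ha, by simp [mul_smul]⟩

theorem bl_uniq (hB : Bl Γ B) (hB' : Bl Γ B') (hP : P ∈ B) (hQ : Q ∈ B) (hP' : P ∈ B') (hQ' : Q ∈ B')
    (hPQ : P ≠ Q) : B = B' := by
  obtain ⟨g, hg, rfl⟩ := hB.pt hP
  obtain ⟨a, ha⟩ := blZ D h2 (hB.smul (inv_mem hg)) ⟨_, hP, by simp⟩
  obtain ⟨b, hb⟩ := blZ D h2 (hB'.smul (inv_mem hg)) ⟨_, hP', by simp⟩
  have h1 := (B3 D h2 ((hB.pt hQ).smul (inv_mem hg)) fun e => hPQ (by simp [← e])).unique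
    (y₁ := -a) (y₂ := -b)
    (by rw [← u3_inv, ← Set.mem_smul_set_iff_inv_smul_mem, ← ha]; exact ⟨_, hQ, rfl⟩)
    (by rw [← u3_inv, ← Set.mem_smul_set_iff_inv_smul_mem, ← hb]; exact ⟨_, hQ', rfl⟩)
  rw [neg_injective h1, ← hb] at ha
  exact smul_left_cancel _ ha

theorem exists_sig : ∃ P ∈ Sig Γ, P ≠ Zs K := by
  obtain ⟨g, hg, h1⟩ := D.mv
  obtain ⟨a, ha, -⟩ := B3 D h2 (pt_Z.smul hg) (mt pz_iff.2 h1)
  exact ⟨_, ha, fun e => h1 (pz_iff.2 (by rw [← inv_smul_smul (u3 a) (g • _), e, u3_inv, u3_Z]))⟩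

theorem bl_disj (hB : Bl Γ B) (e : tau K • B = B) (hP : P ∈ B) (hP' : P ∈ Sig Γ) : B = Sig Γ := by
  obtain ⟨g, hg, rfl, h1⟩ := B5 D h2 hP'
  obtain ⟨a, ha⟩ := blZ D h2 (hB.smul (inv_mem hg)) ⟨_, hP, by simp⟩
  have h3 : u3 (-a) • Sig Γ = u3 a • Sig Γ := by
    conv_lhs => rw [← sig_eq h2 (tau_mem D) rfl, ← mul_smul, ← tau_u3, mul_smul, ← ha, ← mul_smul,
      ← (Commute.inv_left h1).eq, mul_smul, e, ha]
  obtain ⟨Q, hQ, hZ⟩ := exists_sig D h2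
  have h4 := (B3 D h2 (mem_sig.1 hQ).1 hZ).unique (y₁ := a + a) (y₂ := 0) (by
    have : u3 a • Q ∈ u3 (-a) • Sig Γ := h3 ▸ ⟨_, hQ, rfl⟩
    rwa [Set.mem_smul_set_iff_inv_smul_mem, u3_inv, neg_neg, ← mul_smul, u3_mul] at this) (by rwa [u3_zero, one_smul])
  obtain rfl : a = 0 := (mul_eq_zero.1 (by linear_combination h4)).resolve_left h2
  rw [u3_zero, one_smul, inv_smul_eq_iff, sig_eq h2 hg h1] at ha
  exact ha

end Des

theorem two_ne [Fact p.Prime] [CharP K p] (hp : p ≠ 2) : (2 : K) ≠ 0 := fun e =>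
  hp ((Nat.prime_dvd_prime_iff_eq Fact.out Nat.prime_two).1 ((CharP.cast_eq_zero_iff K p 2).1 e))

theorem jobDiv : JobDiv.{v} := by
  intro p _ K _ _ _ Γ U E hp D
  have h2 : (2 : K) ≠ 0 := two_ne hp
  obtain ⟨P₀, h0, hZ⟩ := exists_sig D h2
  refine ⟨?_, (Set.one_lt_ncard (Set.toFinite _)).2 ⟨_, h0, _, Z_sig, hZ⟩⟩
  have e1 := ncard_part {P | Pt Γ P ∧ P ∉ Sig Γ} {B | Bl Γ B ∧ tau K • B = B ∧ B ≠ Sig Γ} id
    (Sig Γ).ncard (fun P hP => ?_)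
    (fun B hB P hP => ⟨hB.1.pt hP, fun h => hB.2.2 (bl_disj D h2 hB.1 hB.2.1 hP h)⟩)
    (fun B hB B' hB' P hP hP' => bl_uniq D h2 hB.1 hB'.1 hP (hB.2.1.le ⟨_, hP, rfl⟩) hP'
      (hB'.2.1.le ⟨_, hP', rfl⟩) fun e => hB.2.2 (bl_disj D h2 hB.1 hB.2.1 hP
        (B2 D h2 (hB.1.pt hP) e.symm)))
    fun B ⟨⟨g, _, e⟩, _⟩ => by rw [id, e, Set.ncard_smul_set]
  have e2 := ncard_part {P | Pt Γ P ∧ P ∉ Sig Γ} (Sig Γ \ {Zs K})
    (fun P => (fun a : K => u3 a • P) '' {0}ᶜ) (Nat.card K - 1) (fun P hP => ?_) ?_ ?_ fun P hP => ?_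
  · have e3 := Set.ncard_sdiff_singleton_add_one (Z_sig (Γ := Γ))
    rw [← e3] at e1 ⊢
    exact (Nat.Coprime.symm (by simp)).dvd_of_dvd_mul_left (e2 ▸ e1 ▸ dvd_mul_left _ _)
  · obtain ⟨a, ha, -⟩ := B3 D h2 hP.1 fun e => hP.2 (e ▸ Z_sig)
    refine ⟨_, ⟨ha, fun e => hP.2 ?_⟩, -a, fun e => hP.2 ?_, by simp [← u3_inv]⟩
    · rw [← inv_smul_smul (u3 a) P, show u3 a • P = _ from e, u3_inv, u3_Z]
      exact Z_sig
    · rwa [neg_eq_zero.1 e, u3_zero, one_smul] at ha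
  · rintro P hP _ ⟨a, ha, rfl⟩
    exact ⟨(mem_sig.1 hP.1).1.smul (u3_mem D a), fun h => ha
      ((B3 D h2 (mem_sig.1 hP.1).1 hP.2).unique h (by rw [u3_zero, one_smul]; exact hP.1))⟩
  · rintro P hP Q hQ _ ⟨a, -, rfl⟩ ⟨b, -, e⟩
    have e' : u3 (-a + b) • Q = P := by
      rw [← u3_mul, mul_smul, show u3 b • Q = _ from e, ← u3_inv, inv_smul_smul]
    have := (B3 D h2 (mem_sig.1 hQ.1).1 hQ.2).unique (e' ▸ hP.1)
      (by rw [u3_zero, one_smul]; exact hQ.1)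
    rw [← e', this, u3_zero, one_smul]
  · rw [Set.ncard_image_of_injective, Set.ncard_compl, Set.ncard_singleton]
    intro a b e
    obtain ⟨c, hc, h1⟩ := B3 D h2 ((mem_sig.1 hP.1).1.smul (u3_mem D a)) fun e => hP.2 (by
      rw [← inv_smul_smul (u3 a) P, e, u3_inv, u3_Z]; rfl)
    exact neg_injective ((h1 (-a) (by simpa [← u3_inv] using hP.1)).trans
      (h1 (-b) (by simpa [← u3_inv, show u3 a • P = _ from e] using hP.1)).symm)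
  · obtain ⟨B, hB, h1, h3⟩ := bl_ex D h2 hP.1 (hP.1.smul (tau_mem D))
    refine ⟨B, ⟨hB, bl_uniq D h2 (hB.smul (tau_mem D)) hB ⟨_, h3, ?_⟩ ⟨_, h1, rfl⟩ h1 h3
      fun e => hP.2 (B2 D h2 hP.1 e.symm), fun e => hP.2 (e ▸ h1)⟩, h1⟩
    simp only [← mul_smul, tau_sq, one_smul]

end H38.S4
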