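import Cfsg.Agent.H38.S4Des

/-! Tower SP4: the orbit count (job Num). -/

set_option autoImplicit false

namespace H38.S4

open Cfsg H92 H87.S4 Subgroup MulAction
open scoped Pointwise

universe v

theorem dvd_of_free {α H G : Type*} [Finite α] [Group H] [Group G] [MulAction G α] (φ : H →* G)
    (X : Set α) (inv : ∀ t, ∀ x ∈ X, φ t • x ∈ X) (free : ∀ t, ∀ x ∈ X, φ t • x = x → t = 1) :
    Nat.card H ∣ X.ncard := by
  rw [ncard_part X {O | ∃ x ∈ X, O = Set.range fun t => φ t • x} id (Nat.card H)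
    (fun x hx => ⟨_, ⟨x, hx, rfl⟩, 1, by simp⟩)]
  · exact dvd_mul_left _ _
  · rintro _ ⟨x, hx, rfl⟩ _ ⟨t, rfl⟩
    exact inv t x hx
  · have key : ∀ (t : H) (x : α), (Set.range fun s => φ s • φ t • x) = Set.range fun s => φ s • x :=
      fun t x => Set.ext fun _ => ⟨fun ⟨s, e⟩ => ⟨s * t, by simp [← e, mul_smul]⟩,
        fun ⟨s, e⟩ => ⟨s * t⁻¹, by simp [← e, mul_smul]⟩⟩
    rintro _ ⟨x, -, rfl⟩ _ ⟨y, -, rfl⟩ _ ⟨t, rfl⟩ ⟨s, e⟩
    rw [← key t x, ← key s y, show φ s • y = _ from e]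
  · rintro _ ⟨x, hx, rfl⟩
    refine Set.ncard_range_of_injective fun s t e => ?_
    exact (inv_mul_eq_one.1 (free (t⁻¹ * s) x hx (by
      rw [map_mul, mul_smul, show φ s • x = _ from e, map_inv, inv_smul_smul]))).symm

theorem num1 {h σ ν r : ℕ} (h4 : 4 ≤ h) (hr : 2 ≤ r) (h0 : ν ≠ 0) (h1 : h ∣ ν)
    (h2 : σ + ν + 1 ∣ 2 * h) (h3 : h ∣ σ * r) (h5 : σ * r ≤ 2 * h) : False := by
  obtain ⟨ρ, rfl⟩ := h1
  obtain ⟨c, hc⟩ := h2
  obtain ⟨j, hj⟩ := h3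
  have hρ : 1 ≤ ρ := Nat.one_le_iff_ne_zero.2 fun e => h0 (by simp [e])
  have h6 : h ≤ h * ρ := Nat.le_mul_of_pos_right h hρ
  obtain rfl : c = 1 := by
    rcases c with _ | _ | c
    exacts [by omega, rfl, by nlinarith]
  obtain rfl : ρ = 1 := by
    by_contra h7
    have : h * 2 ≤ h * ρ := Nat.mul_le_mul_left h (by omega)
    omega
  obtain rfl : r = 2 := by
    by_contra h7
    have : σ * 3 ≤ σ * r := Nat.mul_le_mul_left σ (by omega)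
    omega
  rcases j with _ | _ | j
  exacts [by omega, by omega, by nlinarith]

theorem num2 {h k R n : ℕ} (hR : 3 ≤ R) (hn : 3 ≤ n) (h1 : R * n = 2 * h + 1) (hk : 1 ≤ k)
    (h2 : k + 1 ∣ 2 * h) (h3 : h ∣ k * (R - 1)) (h5 : k * (R - 1) ≤ R - 1 + (n - 1)) : False := by
  have h6 := (Nat.le_of_dvd (Nat.mul_pos hk (by omega)) h3).trans h5
  obtain ⟨R, rfl⟩ : ∃ r, R = r + 3 := ⟨R - 3, by omega⟩
  obtain ⟨n, rfl⟩ : ∃ r, n = r + 3 := ⟨n - 3, by omega⟩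
  have h7 : (R + 3) * (n + 3) = R * n + 3 * R + 3 * n + 9 := by ring
  obtain rfl : R = 0 := by omega
  obtain rfl : n = 0 := by omega
  obtain rfl : h = 4 := by omega
  obtain rfl : k = 2 := by omega
  omega

variable {K : Type v} [Field K] {p : ℕ} {Γ U : Subgroup (A (K × K × K))} {E : AddSubgroup K}
  {g : A (K × K × K)} {P Q : Set (K × K × K)} {c : K}

/-- `diag(t, 1, 1)`. -/
def sc : Kˣ →* A (K × K × K) := MonoidHom.mk' (fun t => dg t 1 1 t.ne_zero one_ne_zero one_ne_zero)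
  fun s t => ext3 fun c y w => by simp [A.mul_apply, mul_assoc]

theorem sc_apply (t : Kˣ) (c y w : K) : sc t (c, y, w) = (t * c, y, w) := by simp [sc]

/-- The part of a point on the first axis. -/
def Aa (P : Set (K × K × K)) : Set K := {c | (c, 0, 0) ∈ P}

/-- Points of type S. -/
def TS (E : AddSubgroup K) (P : Set (K × K × K)) : Prop := ∀ x ∈ P, x.2.2 ∈ E

theorem ts_sc (t : Kˣ) : TS E (sc t • P) ↔ TS E P :=
  ⟨fun h ⟨c, y, w⟩ hx => by simpa [sc_apply] using h _ ⟨_, hx, rfl⟩, by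
    rintro h _ ⟨⟨c, y, w⟩, hx, rfl⟩
    simpa [sc_apply] using h _ hx⟩

variable [Finite K] [Fact p.Prime] (D : Des p Γ U E) (h2 : (2 : K) ≠ 0)
include D h2

theorem sc_sig (s : Kˣ) (hP : P ∈ Sig Γ \ {Zs K}) : sc (s ^ 2) • P ∈ Sig Γ \ {Zs K} := by
  refine ⟨?_, fun e => hP.2 ?_⟩
  · convert sig_smul h2 (dg_mem D s.ne_zero) (ext3 fun c y w => by simp [A.mul_apply, tau_apply])
      hP.1 using 1
    refine Set.image_congr fun ⟨c, y, w⟩ hx => ?_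
    obtain rfl : y = 0 := (mem_sig.1 hP.1).2 _ hx
    simp [sc_apply, -map_pow]
  · rw [← inv_smul_smul (sc (s ^ 2)) P, show sc (s ^ 2) • P = _ from e, ← map_inv]
    exact smul_eq_of_fix (by rintro _ ⟨w, rfl⟩; rw [sc_apply, mul_zero])

theorem ts_of (hP : P ∈ Sig Γ \ {Zs K}) {t : Kˣ} (e : sc t • P = P) (ht : t ≠ 1) : TS E P := by
  obtain ⟨h1, h3⟩ := mem_sig.1 hP.1
  have h0 : (t : K) - 1 ≠ 0 := fun e => ht (Units.ext (sub_eq_zero.1 e))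
  have h4 : Aa P ⊆ Prod.fst '' P := fun c hc => ⟨_, hc, rfl⟩
  have h5 : Aa P = Prod.fst '' P := Set.eq_of_subset_of_ncard_le h4 (by
    rw [← Set.ncard_image_of_injective _ (mul_right_injective₀ h0)]
    refine Set.ncard_le_ncard ?_
    rintro _ ⟨_, ⟨⟨c, y, w⟩, hx, rfl⟩, rfl⟩
    simpa [Aa, sc_apply, sub_mul, Prod.mk_zero_zero] using h1.sub (e.le ⟨_, hx, rfl⟩) hx)
  rintro ⟨c, y, w⟩ hx
  obtain ⟨e, he, h6⟩ := B1 D h2 h1 hP.2 (h1.sub hx (h5.ge ⟨_, hx, rfl⟩)) (by simp)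
  simp only [Prod.mk_sub_mk, sub_zero, Prod.mk.injEq] at h6
  exact h6.2.2 ▸ he

omit h2 [Fact p.Prime] in
theorem card_Aa (hP : P ∈ Sig Γ) (hS : TS E P) : (Aa P).ncard = E.index := by
  obtain ⟨h1, h3⟩ := mem_sig.1 hP
  have h4 : P = (fun z : K × K => (z.1, (0 : K), z.2)) '' Aa P ×ˢ (E : Set K) := by
    ext ⟨c, y, w⟩
    refine ⟨fun hx => ?_, ?_⟩
    · obtain rfl : y = 0 := h3 _ hx
      exact ⟨(c, w), ⟨by simpa [Aa, Prod.mk_zero_zero] using h1.sub hx (E_mem D h1 ⟨w, hS _ hx, rfl⟩), hS _ hx⟩, rfl⟩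
    · rintro ⟨⟨c, w⟩, ⟨hc, hw⟩, e⟩
      simpa [← e] using h1.add hc (E_mem D h1 ⟨w, hw, rfl⟩)
  have h5 := h1.ncard
  rw [h4, Set.ncard_image_of_injective _ fun _ _ e => by simpa [Prod.ext_iff] using e, Set.ncard_prod,
    ← E.index_mul_card, ← Nat.card_coe_set_eq (E : Set K)] at h5
  exact Nat.eq_of_mul_eq_mul_right Nat.card_pos h5

omit D h2 in
theorem jobNum : JobNum.{v} := by
  intro p _ K _ _ _ Γ U E hp D hd hk
  classical
  have h2 : (2 : K) ≠ 0 := two_ne hp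
  have := Fintype.ofFinite K
  have hq : Nat.card K % 2 = 1 := Nat.card_eq_fintype_card (α := K) ▸
    FiniteField.odd_card_of_char_ne_two (by rw [ringChar.eq K p]; exact hp)
  let H := (powMonoidHom 2 : Kˣ →* Kˣ).range
  have hH : Nat.card K = 2 * Nat.card H + 1 := by
    rw [IsCyclic.card_powMonoidHom_range, Nat.card_units,
      Nat.gcd_eq_right (show 2 ∣ Nat.card K - 1 by omega)]
    omega
  have hE := E.index_mul_card
  have ho : Odd (E.index * Nat.card E) := hE ▸ Nat.odd_iff.2 hq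
  have hR : 3 ≤ E.index := by
    have h1 := Nat.odd_iff.1 (Nat.odd_mul.1 ho).1
    have h3 : E.index ≠ 1 := fun e => by
      obtain ⟨_, ⟨w, rfl⟩, h⟩ := exists_nE D pt_Z
      exact h ⟨w, AddSubgroup.index_eq_one.1 e ▸ AddSubgroup.mem_top w, rfl⟩
    omega
  have hn : 3 ≤ Nat.card E := by
    have h1 := Nat.odd_iff.1 (Nat.odd_mul.1 ho).2
    have h3 : Nat.card E ≠ 1 := mt AddSubgroup.card_eq_one.1 D.ne
    omega
  have z0 : ∀ P, Pt Γ P → (0 : K) ∈ Aa P := fun P hP => E_mem D hP ⟨0, zero_mem _, rfl⟩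
  obtain ⟨S, hS⟩ : ∃ S, S = {P ∈ Sig Γ \ {Zs K} | TS E P} := ⟨_, rfl⟩
  obtain ⟨N, hN⟩ : ∃ N, N = {P ∈ Sig Γ \ {Zs K} | ¬ TS E P} := ⟨_, rfl⟩
  obtain ⟨W, hW⟩ : ∃ W, W = {c | ∃ P ∈ S, c ∈ Aa P \ {0}} := ⟨_, rfl⟩
  have e1 : (Sig Γ).ncard = S.ncard + N.ncard + 1 := by
    rw [← Set.ncard_sdiff_singleton_add_one (Z_sig (Γ := Γ)), ← Set.ncard_union_eq, hS, hN,
      ← Set.sep_or]
    · simp only [em, and_true, Set.ofPred_mem_eq]
    · rw [hS, hN]; exact Set.disjoint_left.2 fun _ h h' => h'.2 h.2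
  have e2 : W.ncard = S.ncard * (E.index - 1) := by
    refine ncard_part W S (fun P => Aa P \ {0}) _ (hW ▸ fun _ h => h)
      (fun P hP c hc => hW ▸ ⟨P, hP, hc⟩) (fun P hP Q hQ c hc hc' => ?_) fun P hP => ?_ <;>
      rw [hS] at hP
    · rw [hS] at hQ
      exact pt_eq D (mem_sig.1 hP.1.1).1 (mem_sig.1 hQ.1.1).1 hc.1 hc'.1
        fun ⟨_, _, e⟩ => hc.2 (congrArg Prod.fst e)
    · rw [Set.ncard_sdiff_singleton_of_mem (z0 P (mem_sig.1 hP.1.1).1), card_Aa D hP.1.1 hP.2]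
  have e3 : Nat.card H ∣ W.ncard := by
    refine dvd_of_free H.subtype W ?_ fun t c hc e => ?_ <;> subst hW hS
    · rintro ⟨_, s, rfl⟩ c ⟨P, hP, hc⟩
      exact ⟨sc (s ^ 2) • P, ⟨sc_sig D h2 s hP.1, (ts_sc _).2 hP.2⟩, ⟨_, hc.1, sc_apply _ _ _ _⟩,
        mul_ne_zero (Units.ne_zero _) hc.2⟩
    · obtain ⟨_, -, -, hc⟩ := hc
      exact Subtype.ext (Units.ext (mul_right_cancel₀ hc (e.trans (one_mul c).symm)))
  have e4 : Nat.card H ∣ N.ncard := by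
    refine dvd_of_free (sc.comp H.subtype) N ?_ fun t P hP e => ?_ <;> subst hN
    · rintro ⟨_, s, rfl⟩ P hP
      exact ⟨sc_sig D h2 s hP.1, mt (ts_sc _).1 hP.2⟩
    · exact Subtype.ext (by_contra fun h => hP.2 (ts_of D h2 hP.1 e h))
  have e5 : W.ncard ≤ 2 * Nat.card H := by
    have := Set.ncard_le_ncard (s := W) (t := {0}ᶜ) (hW ▸ fun c ⟨_, _, h⟩ => h.2)
    rw [Set.ncard_compl, Set.ncard_singleton] at this
    omega
  rw [e1, hH, Nat.add_sub_cancel] at hd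
  by_cases h0 : N.ncard = 0
  swap
  · exact num1 (by nlinarith) (by omega) h0 e4 hd (e2 ▸ e3) (e2 ▸ e5)
  have all : ∀ P ∈ Sig Γ \ {Zs K}, TS E P := fun P hP => by_contra fun h =>
    ((Set.ncard_eq_zero).1 h0).le (hN ▸ ⟨hP, h⟩ : P ∈ N)
  obtain ⟨P₁, h1, hZ⟩ := exists_sig D h2
  obtain ⟨g, hg, rfl, h3⟩ := B5 D h2 h1
  have p1 := (mem_sig.1 h1).1
  let D₁ : Set K := {c | (g⁻¹ (c, 0, 0)).2.2 ∈ E}
  have c1 := card_Aa D h1 (all _ ⟨h1, hZ⟩)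
  have e6 : E.index * D₁.ncard ≤ E.index * Nat.card E := by
    rw [hE, ← c1, ← Set.ncard_prod, ← Set.ncard_univ]
    refine Set.ncard_le_ncard_of_injOn (fun z => z.1 + z.2) (by simp) ?_
    rintro ⟨a, d⟩ ⟨ha, hd⟩ ⟨a', d'⟩ ⟨ha', hd'⟩ e
    obtain ⟨_, ⟨w, rfl⟩, (h4 : g (0, 0, w) = (a, 0, 0) - (a', 0, 0))⟩ := p1.sub ha ha'
    have h5 : ((a, 0, 0) - (a', 0, 0) : K × K × K) = (d', 0, 0) - (d, 0, 0) := by
      simp only [Prod.mk_sub_mk, Prod.mk.injEq, and_true]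
      linear_combination e
    have h6 : w ∈ E := by
      have : (g⁻¹ (d', 0, 0)).2.2 - (g⁻¹ (d, 0, 0)).2.2 ∈ E := E.sub_mem hd' hd
      rwa [← Prod.snd_sub, ← Prod.snd_sub, ← map_sub, ← h5, ← h4, A.inv_self] at this
    rw [D.fix g hg w h6] at h4
    obtain rfl : a = a' := (sub_eq_zero.1 (congrArg Prod.fst h4).symm)
    exact Prod.ext rfl (add_left_cancel e)
  have e7 : W.ncard ≤ E.index - 1 + (D₁.ncard - 1) := by
    rw [← c1, ← Set.ncard_sdiff_singleton_of_mem (z0 _ p1),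
      ← Set.ncard_sdiff_singleton_of_mem (show (0 : K) ∈ D₁ by simp [D₁, Prod.mk_zero_zero])]
    refine (Set.ncard_le_ncard ?_).trans (Set.ncard_union_le _ _)
    subst hW hS
    rintro c ⟨P, hP, hc⟩
    by_cases h4 : P = g • Zs K
    · exact .inl (h4 ▸ hc)
    · exact .inr ⟨all (g⁻¹ • P) ⟨sig_smul h2 (inv_mem hg) (Commute.inv_left h3) hP.1.1,
        fun e => h4 (inv_smul_eq_iff.1 e)⟩ _ ⟨_, hc.1, rfl⟩, hc.2⟩
  have e8 := Nat.le_of_mul_le_mul_left e6 (by omega)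
  rw [h0] at hd e1
  exact num2 hR hn (hE.trans hH) (by omega) hd (e2 ▸ e3) (by omega)

end H38.S4
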