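import Cfsg.Agent.H86.SPIKit

/-! STD-SP chapter I, slot A3: the square parameter is `0` or `k`. -/

set_option autoImplicit false
set_option linter.unusedSectionVars false

namespace H38.SPIA3

open H67.UA hiding Par
open H67.SP H86.SPI

universe u

variable {n : ℕ} {F : Type} [Field F] [StarRing F] [TrivialStar F] [CharP F 2] [Finite F] [Par n F]

/-- the elements attached to the line -/
noncomputable def mm (x x' : Vn n F) (a b c : F) : XU n F := TT (a • x + b • x') * qq (c • x') x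

variable {x x' : Vn n F}

theorem mm_mul (h : hf x x' = 0) (a b c a' b' c' : F) :
    ∃ d, mm x x' a b c * mm x x' a' b' c' = mm x x' (a + a') (b + b') d := by
  refine ⟨a * b' + b * a' + c + c', ?_⟩
  rw [mm, mm, mm, mul_assoc, ← mul_assoc (qq _ _), ← TT_comm_qq h, ← mul_assoc, ← mul_assoc,
    TT_mul (hf_comb h _ _ _ _), qq_comb h, mul_assoc, mul_assoc, ← mul_assoc (qq _ _), qq_add_smul h,
    qq_add_smul h, add_add_add_comm, ← add_smul, ← add_smul]

variable {G : Type u} [Group G] {e : XU n F →* G} {t : G} {k : F} {y : Vn n F → G}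

variable (e y x x') in
/-- conjugation by `g` multiplies `y x` by `TT (a x + b x')` modulo the short root subgroup -/
def Cj (g : G) (a b : F) : Prop := ∃ c, g * y x * g⁻¹ = y x * e (mm x x' a b c)

variable (e x x') in
/-- `g` acts trivially modulo the short root subgroup -/
def Nm (g : G) : Prop := ∀ a b c, ∃ d, g * e (mm x x' a b c) * g⁻¹ = e (mm x x' a b d)

theorem Cj.mul (h : hf x x' = 0) {g g' : G} {a b a' b' : F} (h1 : Cj x x' e y g a b) (N : Nm x x' e g)
    (h2 : Cj x x' e y g' a' b') : Cj x x' e y (g * g') (a + a') (b + b') := by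
  obtain ⟨c, h1⟩ := h1
  obtain ⟨c', h2⟩ := h2
  obtain ⟨d, h3⟩ := N a' b' c'
  obtain ⟨r, h4⟩ := mm_mul h a b c a' b' d
  refine ⟨r, ?_⟩
  rw [← h4, map_mul, ← mul_assoc, ← h1, ← h3,
    show g * g' * y x * (g * g')⁻¹ = g * (g' * y x * g'⁻¹) * g⁻¹ by group, h2]
  group

theorem Nm.mul {g g' : G} (h1 : Nm x x' e g) (h2 : Nm x x' e g') : Nm x x' e (g * g') := fun a b c => by
  obtain ⟨d, h2⟩ := h2 a b c
  obtain ⟨r, h1⟩ := h1 a b d
  exact ⟨r, by rw [← h1, ← h2]; group⟩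

theorem nm_y (hT : MT n F) (hW : MW n F) (h : Fam e t k y) (hx : Ts x x') (r s : F) :
    Nm x x' e (y (r • x + s • x')) := fun a b c => by
  refine ⟨r * b + s * a + c, ?_⟩
  rw [mm, mm, map_mul, ← mul_assoc, ← inv_mul_cancel_right (y _ * e (TT _)) (y (r • x + s • x')),
    mul_assoc (y _ * e (TT _) * _), mul_assoc (y _ * e (TT _) * _),
    h.act_TT hT (hx.q0 r s) (hx.q0 a b) (hf_comb hx.p _ _ _ _), h.comm_qq hW hx.l hx.r hx.p,
    mul_inv_cancel_right, qq_comb hx.p, ← map_mul, mul_assoc, qq_add_smul hx.p]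

theorem cj_y {ρ : F} (hR : Rho e y ρ) (hx : Ts x x') {s : F} (hs : s ≠ 0) :
    Cj x x' e y (y (s • x')) ρ (ρ * s) := by
  have h : Ts x (s • x') := by simpa using hx.comb (a := 1) (b := 0) (c := 0) (d := s) (by simpa using hs)
  obtain ⟨c, h⟩ := hR.2 _ _ h
  exact ⟨c * s, by rw [h, smul_add, smul_smul, smul_smul, mm]⟩

theorem jobA3 : JobA3.{u} := by
  intro n F _ _ _ _ _ _ G _ _ e t _ hT hW hF A k y ρ k0 h D hR
  by_cases hc : ∀ c : F, c ≠ 0 → c = 1
  · exact (eq_or_ne ρ 0).imp_right fun r => (hc ρ r).trans (hc k k0).symm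
  push Not at hc
  obtain ⟨c, c0, c1⟩ := hc
  obtain ⟨x', hx⟩ := hW.ex1 (ev 0) (q0_ev 0) (ev_ne 0)
  generalize (ev 0 : Vn n F) = x at hx
  have c2 : 1 + c ≠ 0 := fun z => c1 (by linear_combination z - two0 F)
  have ny : ∀ s : F, Nm x x' e (y (s • x')) := fun s => by simpa using nm_y hT hW h hx 0 s
  have z1 := ((cj_y hR hx c2).mul hx.p (ny _) (cj_y hR hx one_ne_zero)).mul hx.p ((ny _).mul (ny _))
    (cj_y hR hx c0)
  rw [add_smul, one_smul, ← dd] at z1
  obtain ⟨d1, d2⟩ := D x' (c • x') hx.r (by rw [q0_smul, hx.r, mul_zero])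
    (by rw [hf_smul_right', hf_self, mul_zero])
  rw [smul_smul, qq_dep, map_one, mul_one, mul_inv_eq_iff_eq_mul] at d2
  obtain ⟨a, ha⟩ := A.v1 _ x' d2 hx.symm.ne fun p hp => d1 p hp (by rw [ac_smul, hp])
  have hq : ∀ s : F, y x * e (qq (s • x') x) = e (qq (s • x') x) * y x := fun s => by
    simpa using h.comm_qq hW hx.l hx.r hx.p 1 0 s
  have cT : Cj x x' e y (e (TT (a • x'))) 0 0 := by
    have h1 := h.act_TT hT (x' := a • x') hx.l (by rw [q0_smul, hx.r, mul_zero])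
      (by rw [hf_smul_right', hx.p, mul_zero])
    have h2 : e (TT (a • x')) * e (TT (a • x')) = 1 := by rw [← map_mul, TT_sq, map_one]
    refine ⟨a, ?_⟩
    rw [inv_eq_of_mul_eq_one_right h2, mul_assoc, mul_inv_eq_iff_eq_mul.1 h1, map_mul, ← mul_assoc,
      ← mul_assoc, h2, one_mul, ← hq, mm]
    simp
  have ct : Cj x x' e y t k 0 := by
    have h1 := h.act_TT hT (x' := k • x) hx.l (by rw [q0_smul, hx.l, mul_zero])
      (by rw [hf_smul_right', hf_self, mul_zero])
    rw [qq_dep, mul_one, mul_inv_eq_iff_eq_mul] at h1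
    refine ⟨0, ?_⟩
    rw [inv_eq_of_mul_eq_one_right A.tt, mul_assoc, mul_inv_eq_iff_eq_mul.1 (h.tr x hx.l), ← mul_assoc,
      ← mul_assoc, A.tt, one_mul, ← h1, mm]
    simp
  have nt : Nm x x' e t := fun a b c => ⟨c, by rw [A.cen, mul_inv_cancel_right]⟩
  have uq : ∀ {g : G} {a b a' b' : F}, Cj x x' e y g a b → Cj x x' e y g a' b' → a = a' :=
    fun ⟨c, p⟩ ⟨c', p'⟩ => (hF.uq x x' hx.p hx.li _ _ _ _ _ _ (A.inj (mul_left_cancel (p.symm.trans p')))).1
  rcases ha with ha | ha <;> rw [ha] at z1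
  · exact .inl (by linear_combination uq z1 cT - ρ * two0 F)
  · exact .inr (by linear_combination uq z1 (ct.mul hx.p nt cT) - ρ * two0 F)

end H38.SPIA3
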