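/- T3 (S3253): weak closure (`JobSC`) and the commuting graph (`JobGr`). -/
import Cfsg.Agent.H48.T3Lem
import Cfsg.Agent.H86.Small
import Cfsg.Agent.H96.GTri
import Cfsg.Agent.H78.Basic
import Cfsg.Agent.S3224

set_option autoImplicit false
set_option linter.unusedSectionVars false

namespace H38.T3

open Subgroup Cfsg H98 H96.CG H48.T3
open scoped commutatorElement

universe u

variable {G : Type u} [Group G] [Finite G]

theorem le_nor {D R : Subgroup G} (h : ∀ g, cj g D ≤ nor D → cj g D = D) (hR : IsPGroup 2 R)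
    (le : D ≤ R) : R ≤ nor D := by
  by_contra hn
  obtain ⟨r, ⟨r1, r2⟩, r3⟩ := SetLike.exists_of_lt (lt_inf_normalizer hR (inf_lt_left.2 hn))
  exact r3 ⟨r1, cj_eq_self_iff.1 (h r ((cj_le_of_le (le_inf le le_normalizer) r2).trans
    inf_le_right))⟩

theorem wc_cj {D : Subgroup G} (h : ∀ g, cj g D ≤ nor D → cj g D = D) (k g : G)
    (e : cj g (cj k D) ≤ nor (cj k D)) : cj g (cj k D) = cj k D := by
  rw [nor, ← cj_normalizer, le_cj_iff, cj_cj, cj_cj] at e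
  rw [cj_cj, show g * k = k * (k⁻¹ * g * k) by group, ← cj_cj, h _ e]

theorem jobSC : JobSC.{u} := by
  intro G _ _ D hD h
  refine ⟨fun R hR le g hg => h g (hg.trans (le_nor h hR le)), fun hyp a an aD ⟨g, ag⟩ => ?_⟩
  have eg : ∀ g, IsElementaryAbelian 2 (cj g D) := fun g => H12.ea_map hD _
  have aa := ea_sq (eg g) ag
  obtain ⟨T, hT, l1⟩ := exists_isSyl_le ((H12.ea_isPGroup hD).to_le
    (inf_le_left (b := cen1 a))) inf_le_right
  obtain ⟨k, hk, l2⟩ := hT.exists_cj_le (H12.ea_isPGroup (eg g)) fun c hc =>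
    mem_cen1.2 (ea_com (eg g) hc ag)
  have ag' : a ∈ cj k (cj g D) := by
    simpa [(mem_cen1.1 hk).eq] using conj_mem_cj (g := k) ag
  rw [cj_cj] at l2 ag'
  generalize k * g = g at l2 ag'
  have l3 := l1.trans (le_nor (wc_cj h g) hT.isPGroup l2)
  obtain ⟨b, ⟨b1, b2⟩, b3⟩ : ∃ b ∈ D ⊓ cen1 a, b ∉ cj g D := by
    by_contra hn
    push Not at hn
    let Y : Subgroup G := cen (D ⊓ cen1 a) ⊓ stab (zpowers a) (D ⊓ cen1 a)
    have key : ∀ y ∈ cen (D ⊓ cen1 a), ⁅a, y⁆ ∈ D ⊓ cen1 a → y ∈ Y := fun y hy e =>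
      ⟨hy, centralizer_le_normalizer _ hy, fun c hc => by
        rcases (H78.mem_zpowers_invol aa c).1 hc with rfl | rfl
        exacts [by simpa using one_mem _, e]⟩
    obtain ⟨S, hS, l4⟩ := exists_isSyl_le (H := Y) (H12.ea_isPGroup hD) fun d hd => by
      have m := conj_mem_of_mem_normalizer an hd
      refine key d (mem_cen.2 fun y hy => ea_com hD hy.1 hd) (mem_inf.2 ⟨mul_mem m (inv_mem hd),
        mem_cen1.2 (mul_inv_eq_iff_eq_mul.1 ?_).symm⟩)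
      have e1 := ea_sq hD (mul_mem m (inv_mem hd))
      rw [commutatorElement_def, ← inv_eq_of_mul_eq_one_right e1]
      calc a * (a * d * a⁻¹ * d⁻¹)⁻¹ * a⁻¹ = a * d * a⁻¹ * (a * a) * d⁻¹ * (a * a)⁻¹ := by group
        _ = _ := by rw [aa, inv_eq_of_mul_eq_one_right e1]; simp
    obtain ⟨c, hc, l5⟩ := hS.exists_cj_le (H12.ea_isPGroup (eg g)) fun d hd =>
      key d (mem_cen.2 fun y hy => ea_com (eg g) (hn y hy) hd) (by
        rw [commutatorElement_eq_one_iff_mul_comm.2 (ea_com (eg g) ag' hd).eq]; exact one_mem _)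
    rw [cj_cj] at l5
    have e := h _ (l5.trans (le_nor h hS.isPGroup l4))
    have m := conj_mem_cj (g := c) ag'
    rw [cj_cj, e] at m
    have := mul_mem (mem_inf.1 (hc.2.2 a (mem_zpowers a))).1 m
    rw [commutatorElement_def, show a * c * a⁻¹ * c⁻¹ * (c * a * c⁻¹) = a by group] at this
    exact aD this
  have ba := (mem_cen1.1 b2).eq
  obtain ⟨d, d1, d2⟩ := hyp a an aD aa b b1 ba
  obtain ⟨d', d3, d4⟩ := hyp (g⁻¹ * b * g) (mem_cj.1 (by rw [cj_normalizer]; exact l3 ⟨b1, b2⟩))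
    (mt mem_cj.2 b3) (by simp [mul_assoc, ← mul_assoc b, ea_sq hD b1]) _ (mem_cj.1 ag')
    (by simpa [mul_assoc] using congrArg (fun x => g⁻¹ * x * g) ba.symm)
  exact ⟨g, b, d, _, ag', l3, b1, b3, ba, d1, d2, conj_mem_cj d3, by
    simpa [mul_assoc] using congrArg (fun x => g * x * g⁻¹) d4⟩

theorem card_le_four {S : Type*} [Group S] [Finite S] {x : S} (h : Nat.card S = 2 * orderOf x)
    (A : Subgroup S) (hA : ∀ a ∈ A, a ^ 2 = 1) : Nat.card A ≤ 4 := by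
  have h1 : (zpowers x).index = 2 := Nat.eq_of_mul_eq_mul_right (orderOf_pos x)
    (by rw [← h, ← Nat.card_zpowers, index_mul_card])
  have := normal_of_index_eq_two h1
  have h2 := Nat.le_of_dvd two_pos (h1 ▸ relIndex_dvd_index_of_normal (zpowers x) A)
  have := isCyclic_of_le (inf_le_left : zpowers x ⊓ A ≤ zpowers x)
  have h3 : Nat.card (zpowers x ⊓ A : Subgroup S) ≤ 2 := Nat.le_of_dvd two_pos
    (IsCyclic.exponent_eq_card (α := (zpowers x ⊓ A : Subgroup S)) ▸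
      Monoid.exponent_dvd_of_forall_pow_eq_one fun g => Subtype.ext (hA g g.2.2))
  rw [← card_mul_index ((zpowers x).subgroupOf A), ← inf_subgroupOf_right,
    Nat.card_congr (subgroupOfEquivOfLe inf_le_right).toEquiv, inf_subgroupOf_right]
  exact Nat.mul_le_mul h3 h2

/-- A four-group that is maximal among the `2`-subgroups of its centralizer. -/
theorem rank_two {E : Subgroup G} (h1 : IsElementaryAbelian 2 E) (h2 : Nat.card E = 4)
    (h3 : ∀ R ≤ cen E, IsPGroup 2 R → R ≤ E) : PRankLE 2 2 G := fun A a1 a2 => by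
  obtain ⟨T, hT, h4⟩ := exists_isSyl_le (H12.ea_isPGroup h1) le_top
  obtain ⟨g, -, h5⟩ := hT.exists_cj_le (H12.ea_isPGroup ⟨a1, a2⟩) le_top
  have h3' : T ⊓ cen E ≤ E := h3 _ inf_le_right (hT.isPGroup.to_le inf_le_left)
  rw [← card_cj g A]
  by_cases h6 : T ≤ cen E
  · exact (card_le_of_le (h5.trans ((le_inf le_rfl h6).trans h3'))).trans h2.le
  have : Nontrivial E := Finite.one_lt_card_iff_nontrivial.1 (by omega)
  have k : IsKleinFour E := ⟨h2, (Monoid.exponent_eq_prime_iff Nat.prime_two).2 fun g hg =>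
    orderOf_eq_prime (Subtype.ext (h1.2 g g.2)) hg⟩
  obtain ⟨v, hv, h7⟩ := SetLike.not_le_iff_exists.1 (mt cen_symm h6)
  obtain ⟨⟨z, hz⟩, h8⟩ := ne_bot_iff_exists_ne_one.1 (oz_ne_bot hT.isPGroup fun e =>
    (nontrivial_iff_ne_bot E).1 this (eq_bot_iff.2 (e ▸ h4)))
  have h9 := (mem_oz.1 hz).2.1
  have v1 : v ≠ 1 := fun e => h7 (e ▸ one_mem _)
  have h10 : centralizer {(⟨v, h4 hv⟩ : T)} = E.subgroupOf T := by
    ext t
    rw [mem_centralizer_singleton_iff, mem_subgroupOf, Subtype.ext_iff]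
    refine ⟨fun e => h3' ⟨t.2, mem_cen.2 fun y hy => ?_⟩, fun e => ea_com h1 e hv⟩
    have c1 : Commute v t := e.symm
    have c2 : Commute z t := (com h9 t.2).symm
    rcases (H86.four_mem_iff k hv (h3' ⟨oz_le T hz, centralizer_le h4 h9⟩) v1
      (fun e => h8 (Subtype.ext e)) (fun e => h7 (e ▸ h9)) y).1 hy with rfl | rfl | rfl | rfl
    exacts [Commute.one_left _, c1, c2, c1.mul_left c2]
  obtain ⟨x, hx⟩ : ∃ x : T, Nat.card T = 2 * orderOf x := by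
    rcases Cfsg.Agent.S3224.result hT.isPGroup ⟨v, h4 hv⟩
      (orderOf_eq_prime (Subtype.ext (h1.2 v hv)) fun e => v1 (congrArg Subtype.val e))
      (by rw [h10, Nat.card_congr (subgroupOfEquivOfLe h4).toEquiv, h2]) with
      ⟨n, ⟨e⟩⟩ | ⟨n, -, h6, x, -, h7, -⟩ | e
    · exact ⟨e.symm (.r 1), by
        rw [e.symm.orderOf_eq, DihedralGroup.orderOf_r_one, Nat.card_congr e.toEquiv,
          DihedralGroup.nat_card]⟩
    · exact ⟨x, by rw [h6, h7, pow_succ']⟩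
    · exact (h6 ((eq_of_le_of_card_ge h4 (by rw [e, h2])).ge.trans
        fun x hx => mem_cen.2 fun y hy => ea_com h1 hy hx)).elim
  rw [← Nat.card_congr (subgroupOfEquivOfLe h5).toEquiv]
  exact card_le_four hx _ fun a ha => Subtype.ext ((H12.ea_map ⟨a1, a2⟩ _).2 a.1 ha)

variable (B : Bs G) {x y u e s : G} {K : Subgroup G}
include B

theorem le_N (hs : orderOf s = 3) (hv : V s ≠ ⊥) (hx : orderOf x = 3) (c : Cm (V s) (V x)) :
    V x ≤ N s := B.Ntwo s hs hv _ c.symm.le_cen (B.toHy.isP hx)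

/-- `N s` is generated by the neighbours. -/
theorem N_le (h : Pu x y u) (k1 : V x ≤ K) (k2 : Cm (V x) (V y) → V y ≤ K)
    (k3 : Cm (V x) (V (x * y)) → V (x * y) ≤ K)
    (k4 : Cm (V x) (V (x * y⁻¹)) → V (x * y⁻¹) ≤ K) : N x ≤ K := by
  have n := h.le_nor_N (left_mem_Pl x y)
  refine (B.gen x y u h _ (fun e => ?_) (n (left_mem_Pl x y)) (n (right_mem_Pl x y))).2 K
    fun s hs s1 le => ?_
  · obtain ⟨k, hk⟩ := (B.Np x).exists_card_eq
    exact absurd (Nat.prime_three.dvd_of_dvd_pow (hk ▸ e)) (by decide)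
  · have c := (cm_of_le_cen (le.trans (B.Nc x))).symm
    rcases h.V_cases hs s1 with e | e | e | e <;> rw [e] at c ⊢
    exacts [k1, k2 c, k3 c, k4 c]

theorem nb (r : ¬ PRankLE 2 2 G) (h : Pu x y u) (v : V x ≠ ⊥)
    (k2 : Cm (V x) (V y) → V y = ⊥) (k3 : Cm (V x) (V (x * y)) → V (x * y) = ⊥)
    (k4 : Cm (V x) (V (x * y⁻¹)) → V (x * y⁻¹) = ⊥) : False :=
  r (rank_two ⟨⟨⟨fun a b => Subtype.ext (B.toHy.cm h.ox a a.2 b b.2)⟩⟩,
    fun a ha => (sq a).trans (B.toHy.sq h.ox ha)⟩ (B.toHy.card4 h.ox v) fun R h1 h2 =>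
    (B.Ntwo x h.ox v R h1 h2).trans (N_le B h le_rfl (fun c => k2 c ▸ bot_le)
      (fun c => k3 c ▸ bot_le) fun c => k4 c ▸ bot_le))

theorem edge (h : Pu x y u) (v1 : V x ≠ ⊥) (v2 : V y ≠ ⊥) (c : Cm (V x) (V y))
    (k3 : Cm (V x) (V (x * y)) ∨ Cm (V y) (V (x * y)) → V (x * y) = ⊥)
    (k4 : Cm (V x) (V (x * y⁻¹)) ∨ Cm (V y) (V (x * y⁻¹)) → V (x * y⁻¹) = ⊥) : Edge x y u := by
  have e4 : V (y * x⁻¹) = V (x * y⁻¹) := by rw [← V_inv, mul_inv_rev, inv_inv]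
  exact ⟨h, v1, v2, le_antisymm (N_le B h le_sup_left (fun _ => le_sup_right)
      (fun c => k3 (Or.inl c) ▸ bot_le) fun c => k4 (Or.inl c) ▸ bot_le)
      (sup_le (B.VN x h.ox) (le_N B h.ox v1 h.oy c)),
    le_antisymm (N_le B h.symm le_sup_right (fun _ => le_sup_left)
      (by rw [← h.xy]; exact fun c => k3 (Or.inr c) ▸ bot_le)
      (by rw [e4]; exact fun c => k4 (Or.inr c) ▸ bot_le))
      (sup_le (le_N B h.oy v2 h.ox c.symm) (B.VN y h.oy))⟩

/-- A vertex with two neighbours. -/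
theorem two_nb (h : Pu x y u) (v1 : V x ≠ ⊥) (v3 : V (x * y) ≠ ⊥) (c2 : ¬ Cm (V x) (V y))
    (c3 : Cm (V x) (V (x * y))) (c4 : Cm (V x) (V (x * y⁻¹))) :
    ⁅V (x * y), V (x * y⁻¹)⁆ ≤ V x := by
  have n := h.le_nor_N (left_mem_Pl x y)
  have n' := h.le_nor_V (left_mem_Pl x y)
  have l3 := le_N B h.ox v1 h.omul c3
  have l4 := le_N B h.ox v1 h.invr.omul c4
  obtain ⟨s, hs, s1, -, le, hi, hc⟩ := B.cenq x y u h (N x) (V x) (B.Np x) (n (left_mem_Pl x y))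
    (n (right_mem_Pl x y)) (n' (left_mem_Pl x y)) (n' (right_mem_Pl x y)) (B.VN x h.ox)
    ((B.Nc x).trans (centralizer_le_normalizer _)) fun e =>
      v3 (by rw [← B.toHy.inf_bot h.p13.1, inf_eq_right.2 (e ▸ l3)])
  rcases h.V_cases hs s1 with e | e | e | e <;> rw [e] at le hi hc
  · exact absurd (by simpa using hi) v1
  · exact absurd (cm_of_le_cen (le.trans (B.Nc x))).symm c2
  · exact (commutator_mono le_rfl l4).trans hc
  · rw [commutator_comm]; exact (commutator_mono le_rfl l3).trans hc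

/-- No quadrangle without diagonals. -/
theorem quad (h : Pu x y u) (v1 : V x ≠ ⊥) (v2 : V y ≠ ⊥) (v3 : V (x * y) ≠ ⊥)
    (c : ¬ Cm (V x) (V y)) (c13 : Cm (V x) (V (x * y))) (c14 : Cm (V x) (V (x * y⁻¹)))
    (c23 : Cm (V y) (V (x * y))) (c24 : Cm (V y) (V (x * y⁻¹))) :
    Cm (V (x * y)) (V (x * y⁻¹)) := by
  have e4 : V (y * x⁻¹) = V (x * y⁻¹) := by rw [← V_inv, mul_inv_rev, inv_inv]
  have h2 := two_nb B h.symm v2 (h.xy ▸ v3) (mt Cm.symm c) (h.xy ▸ c23) (e4 ▸ c24)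
  rw [← h.xy, e4] at h2
  exact cm_of_le_cen (commutator_eq_bot_iff_le_centralizer.1 (eq_bot_iff.2
    (B.toHy.inf_bot h ▸ le_inf (two_nb B h v1 v3 c c13 c14) h2)))

omit B in
/-- The last alternative. -/
def Fu (G : Type u) [Group G] : Prop := ∃ x y e : G, Full x y e ∧
  (¬ Cm (V x) (V (x * y⁻¹)) → ¬ Cm (V (x * y)) (V (x * y⁻¹)))

theorem full (h : Cf x y e) (v1 : V x ≠ ⊥) (v3 : V (x * y) ≠ ⊥) (c12 : Cm (V x) (V y))
    (c13 : Cm (V x) (V (x * y))) : Fu G := by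
  refine ⟨x, y, e, ⟨h, v1, v3, c12, c13⟩, fun c14 c34 => c14 ?_⟩
  have c24 := c13.cj e
  rw [h.e1, h.e3] at c24
  have v4 : V (x * y⁻¹) ≠ ⊥ := by rwa [← h.e3, Ne, cj_eq_bot_iff]
  have e1 : V (x * (x * y⁻¹)) = V (x * y) := by
    rw [← mul_assoc, cube_of h.ox, ← mul_inv_rev, V_inv, h.xy]
  have e2 : V (x * (x * y⁻¹)⁻¹) = V y := by rw [mul_inv_rev, inv_inv, ← mul_assoc, h.xy]; simp
  have := (quad B h.toPu.p14.1 v1 v4 (e1 ▸ v3) c14 (e1 ▸ c13) (e2 ▸ c12) (e1 ▸ c34.symm)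
    (e2 ▸ c24.symm)).cj e
  rw [e1, e2, h.e3, h.e2] at this
  exact this.symm

theorem case13 (h : Cf x y e) (v1 : V x ≠ ⊥) (v3 : V (x * y) ≠ ⊥) (c13 : Cm (V x) (V (x * y))) :
    (∃ s u, Edge x s u) ∨ Fu G := by
  by_cases c12 : Cm (V x) (V y)
  · exact Or.inr (full B h v1 v3 c12 c13)
  have e1 : V (x * (x * y)) = V (x * y⁻¹) := by
    rw [← mul_assoc, cube_of h.ox, ← V_inv, mul_inv_rev, inv_inv, h.toPu.invr.xy]
  have e2 : V (x * (x * y)⁻¹) = V y := by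
    rw [h.xy, mul_inv_rev, mul_inv_cancel_left, V_inv]
  by_cases c34 : Cm (V (x * y)) (V (x * y⁻¹))
  · have e3 : V (x * y * (x⁻¹ * y)⁻¹) = V x := by
      rw [mul_inv_rev, inv_inv, mul_assoc, mul_inv_cancel_left, cube_of h.ox, V_inv]
    refine Or.inr (full B h.s3.s2 v3 (e3 ▸ v1) ?_ (e3 ▸ c13.symm))
    rwa [mul_inv_rev, inv_inv, ← h.toPu.invr.xy]
  have c24 := c13.cj e
  rw [h.e1, h.e3] at c24
  have v2 : V y ≠ ⊥ := by rwa [← h.e1, Ne, cj_eq_bot_iff]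
  have c14 : ¬ Cm (V x) (V (x * y⁻¹)) := fun c14 => c34 (quad B h.toPu v1 v2 v3 c12 c13 c14 (by
    simpa only [h.e1, h.e4] using c14.cj e) c24)
  exact Or.inl ⟨_, _, edge B h.toPu.p13.1 v1 v3 c13 (by rw [e1]; exact fun c => (c.elim c14 c34).elim)
    (by
      rw [e2]
      exact fun c => (c.elim c12 fun c => c14 (by
        simpa only [h.e2, h.e3] using c.symm.cj e)).elim)⟩

omit B in
theorem jobGr : JobGr.{u} := by
  intro G _ _ B
  by_cases h1 : ∀ s : G, orderOf s = 3 → V s = ⊥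
  · exact Or.inl h1
  refine Or.inr (or_iff_not_imp_left.2 fun r => or_iff_not_imp_right.2 fun nf => ?_)
  have A : CaseA G := fun x hx v1 => by
    obtain ⟨y, h1, h2, h3⟩ := B.exy x hx
    obtain ⟨u, h⟩ := B.exu x y hx h1 h2 h3
    obtain ⟨y, e, h, -⟩ := B.exe x y u h
    have k3 : Cm (V x) (V (x * y)) → V (x * y) ≠ ⊥ → ∃ s u, Edge x s u := fun c v =>
      (case13 B h v1 v c).resolve_right nf
    have k4 : Cm (V x) (V (x * y⁻¹)) → V (x * y⁻¹) ≠ ⊥ → ∃ s u, Edge x s u := fun c v =>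
      (case13 B h.s2 v1 v c).resolve_right nf
    by_contra hn
    have n3 := fun c => by_contra fun v => hn (k3 c v)
    have n4 := fun c => by_contra fun v => hn (k4 c v)
    have v2 : V y ≠ ⊥ := by rwa [← h.e1, Ne, cj_eq_bot_iff]
    refine hn ⟨y, _, edge B h.toPu v1 v2 (by_contra fun c =>
      nb B r h.toPu v1 (fun c' => absurd c' c) n3 n4) (fun c => c.elim n3 fun c => ?_)
      fun c => c.elim n4 fun c => ?_⟩
    · rw [← cj_eq_bot_iff (g := e), h.e3]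
      exact n4 (by simpa only [h.e2, h.e3] using c.cj e)
    · rw [← cj_eq_bot_iff (g := e), h.e4]
      exact n3 (by simpa only [h.e2, h.e4] using c.cj e)
  push Not at h1
  obtain ⟨s, hs, v⟩ := h1
  obtain ⟨y, u, h⟩ := A s hs v
  exact ⟨A, s, y, u, h⟩

end H38.T3
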