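import Cfsg.Agent.H86.TP.Spec

/-! Job CQ of the chapter TP (S1308): 2-elements in a coset of the centraliser have one square. -/

set_option autoImplicit false

namespace H38.TpCQ

open Cfsg Subgroup MulAction H14 H98 H1.Gold H31.S2 H14.GC H14.FE H14.NF H86.TP
open scoped commutatorElement

universe u

theorem jCQ : JobCQ.{u} := by
  rintro G _ _ Q Q' T R E P L y hy - w hw ⟨n, hn⟩ hc
  have : Fact (Nat.Prime 2) := ⟨Nat.prime_two⟩
  have PR : P ≤ R := fun a ha => ((L.mem a).1 ha).1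
  have RQ : R ≤ Q := L.sylR.le
  have EP : E ≤ P := L.ltP.le
  have yQ : y ∈ Q := RQ (PR hy)
  have yF : y ∈ nor (E ⊔ T) := (L.eqP ▸ hy : y ∈ R ⊓ nor (E ⊔ T)).2
  set C : Subgroup G := Q ⊓ cen (E ⊔ T) with hC
  have yC : zpowers y ≤ nor C := le_normalizer_inf (zpowers_le.2 (le_normalizer yQ))
    (le_normalizer_centralizer (zpowers_le.2 yF))
  have ET : E ≤ cen T := L.eq.le.trans inf_le_right
  have EC : E ≤ C := fun e he => ⟨RQ (PR (EP he)), fun f hf => by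
    obtain ⟨r, hr, t, ht, rfl⟩ := (L.memF f).1 hf
    rw [mul_assoc, ET he t ht, ← mul_assoc, L.cenE (EP he) r hr, mul_assoc]⟩
  have cC : y⁻¹ * w ∈ C := ⟨Q.mul_mem (Q.inv_mem yQ) hw, hc⟩
  obtain ⟨S, hS, hle⟩ := exists_isSyl_le (H := zpowers y ⊔ C)
    (L.sylR.isPGroup.to_le (sup_le (zpowers_le.2 (PR hy)) (EP.trans PR) : zpowers y ⊔ E ≤ R))
    (sup_le_sup_left EC _)
  have wD : w ∈ zpowers y ⊔ C := by
    simpa using mul_mem_sup (mem_zpowers y) cC
  obtain ⟨d, hd, hdw⟩ := hS.exists_cj_le (isPGroup_zpowers hn) (zpowers_le.2 wD)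
  have wS : d * w * d⁻¹ ∈ S := hdw (conj_mem_cj (mem_zpowers w))
  obtain ⟨a, ha, c, hcC, rfl⟩ := (mem_sup_left_norm yC).1 hd
  have ay : Commute a y := by
    obtain ⟨k, rfl⟩ := mem_zpowers_iff.1 ha
    exact (Commute.refl y).zpow_left k
  have rC : y⁻¹ * (a * c * w * (a * c)⁻¹) ∈ C := by
    have e : y⁻¹ * (a * c * w * (a * c)⁻¹) = a * (y⁻¹ * c * y * (y⁻¹ * w) * c⁻¹) * a⁻¹ := by
      calc y⁻¹ * (a * c * w * (a * c)⁻¹) = y⁻¹ * a * c * w * c⁻¹ * a⁻¹ := by group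
        _ = _ := by rw [← ay.inv_right.eq]; group
    rw [e]
    exact conj_mem_of_mem_normalizer (yC ha) (mul_mem (mul_mem
      (conj_mem_of_mem_normalizer' (yC (mem_zpowers y)) hcC) cC) (inv_mem hcC))
  obtain ⟨t, ht, -, -, ⟨t1, -⟩, -⟩ := L.four
  have SC : S ⊓ C = E := (L.sylC t ht t1).eq_of_le (hS.isPGroup.to_le inf_le_left)
    (le_inf (le_sup_right.trans hle) EC) fun g hg =>
      ⟨hg.2.1, mem_cen1.2 (hg.2.2 t (mem_sup_right ht)).symm⟩
  have rE : y⁻¹ * (a * c * w * (a * c)⁻¹) ∈ E :=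
    SC.le ⟨S.mul_mem (S.inv_mem (hle (mem_sup_left (mem_zpowers y)))) wS, rC⟩
  generalize hr : y⁻¹ * (a * c * w * (a * c)⁻¹) = r at rE
  have e1 : w = (a * c)⁻¹ * (y * r) * (a * c) := by rw [← hr]; group
  have e2 : y * r * (y * r) = y * y := by
    calc y * r * (y * r) = y * (r * y) * r := by group
      _ = y * y * (r * r) := by rw [L.cenE hy r rE]; group
      _ = y * y := by rw [L.elE r rE, mul_one]
  have e3 : Commute (a * c) (y * y) :=
    (ay.mul_right ay).mul_left (hcC.2 _ (mem_sup_left (L.sqE y hy))).symm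
  calc w * w = (a * c)⁻¹ * (y * r * (y * r)) * (a * c) := by rw [e1]; group
    _ = y * y := by rw [e2, mul_assoc, ← e3.eq, inv_mul_cancel_left]

end H38.TpCQ
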