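import Cfsg.Agent.H54.YSSpec
import Cfsg.Agent.H59.S2FX

/-! STD-SP (row S3129), endgame: the good subgroups of the symplectic model. -/

set_option autoImplicit false
set_option linter.unusedSectionVars false

namespace H38.YS

open H64.SG (O2 Syl Cz Cs Ns cjs Is2 Inv2 IsO2 fx)
open Subgroup H67.SP H64.YE H54.YS
open H67.UA hiding Par Base FV FW
open H67.SA (cm St la mem_St_of_finite)
open H59.S2FX (memQ M_fix pl_wk w0 w1 pl_iff v1)

theorem co_of {G : Type*} [Group G] {R M : Subgroup G} (h2 : ∀ z ∈ M, z * z = 1)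
    (h : ∀ α : MulAut G, (∀ u ∈ R, α u = u) → ∃ ζ ∈ M, α = MulAut.conj ζ) : Co R := fun α h1 o => by
  obtain ⟨ζ, hz, rfl⟩ := h α h1
  rw [← orderOf_eq_one_iff]
  refine ((Nat.dvd_prime Nat.prime_two).1 (orderOf_dvd_of_pow_eq_one (by
    rw [sq, ← map_mul, h2 ζ hz, map_one]))).resolve_right fun e => ?_
  rw [e] at o
  exact absurd o (by decide)

variable {n : ℕ} {K : Type} [Field K] [StarRing K] [TrivialStar K] [CharP K 2] [Finite K]
  [p : Par n K] [Base n K] [FC n K] [KT n K]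

theorem map_ev (σ : RingAut K) (i : Fin (n + 1)) : (fun j => σ ((ev i : Vn n K) j)) = ev i :=
  funext fun j => by simp only [ev_apply]; split_ifs <;> simp

theorem wk_map (σ : RingAut K) {j : ℕ} {v : Vn n K} : Wk j (fun i => σ (v i)) ↔ Wk j v :=
  forall₂_congr fun _ _ => map_eq_zero_iff σ σ.injective

theorem good1 (σ : RingAut K) : Good (fs n K σ) (UU n K) (QQ n K) := by
  refine ⟨KT.qu, KT.up.trans KT.nq, mem_St_of_finite fun g hg => ?_,
    inf_le_left.trans (FR.cq _ (ev_ne 0)).le, co_of (fun g hg => ?_) FC.cQ⟩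
  · obtain ⟨y, c, h, rfl⟩ := (FV.mem_Qv _ g).1 hg
    have h1 := H54.SPF.hf_map σ y (ev 0)
    rw [h, map_zero, map_ev] at h1
    rw [FA.fs_EE σ _ _ _ h, map_ev]
    exact (FV.mem_Qv _ _).2 ⟨_, _, h1, rfl⟩
  · obtain ⟨y, c, h, rfl⟩ := (FV.mem_Qv _ g).1 hg
    exact H86.SPI.EE_sq h c

theorem good2 (σ : RingAut K) : Good (fs n K σ) (UU n K) (Qk n K 2) := by
  have := p.five
  refine ⟨fun g hg => (FV.mem_U g).2 fun j v hv => ?_, fun g hg => ?_,
    mem_St_of_finite fun g hg => memQ.2 ⟨fun v hv => ?_, fun v hv => ?_⟩,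
    inf_le_left.trans (FC.cq.le.trans fun m hm =>
      memQ.2 ⟨fun v hv => M_fix hm (pl_wk hv), fun v _ => (FV.mem_M 2 m).1 hm v⟩),
    co_of (fun g hg => ac_ext fun v => ?_) FC.cQ2⟩
  · obtain ⟨h1, h2⟩ := memQ.1 hg
    by_cases a : j + 1 ≤ 2
    · rw [h1 v (hv.mono a), v_add_self]
      exact fun _ _ => rfl
    by_cases b : j + 1 ≤ n + 1 - 2
    · exact (h2 v (pl_iff.2 (hv.mono b))).mono (by omega)
    · exact (pl_iff.1 ⟨H54.SPI.hf_move (h1 _ w0) v, H54.SPI.hf_move (h1 _ w1) v⟩).mono (by omega)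
  · have k : ∀ v, Wk 2 v → Wk 2 (ac g v) := fun v hv => by
      simpa [add_assoc] using (((FV.mem_U g).1 hg 1 v hv).mono one_le_two).add hv
    exact (H59.S2FX.nrm g (k _ w0) (k _ w1)).1
  · obtain ⟨w, rfl⟩ := H54.SPF.map_surj σ v
    rw [FA.fs_ac, (memQ.1 hg).1 w ((wk_map σ).1 hv)]
  · obtain ⟨w, rfl⟩ := H54.SPF.map_surj σ v
    have h := (wk_map σ).2 ((memQ.1 hg).2 w (pl_iff.2 ((wk_map σ).1 (pl_iff.1 hv))))
    rw [FA.fs_ac]
    exact fun i hi => (map_add σ _ _).symm.trans (h i hi)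
  · have h := M_fix hg (pl_wk ((FV.mem_M 2 g).1 hg v))
    rw [ac_add] at h
    rw [ac_mul, ac_one, ← add_left_inj (ac g v), h, add_comm]

theorem jobMC : JobMC := by
  intro n F _ _ _ _ _ _ _ _ _ _ K _ _ _ _ _ p _ _ _ _ x e
  have := p.five
  have h1 := e _ (KT.nq (n := n) (K := K))
  refine ⟨good1 _, (KT.up.trans h1).trans le_sup_left, _, good2 _, ?_⟩
  have a : ∀ (L : Type) [Field L] [StarRing L] [TrivialStar L] [CharP L 2] [Finite L] [Par n L],
      hf (ev 1 : Vn n L) (ev (Fin.rev 0)) = 0 := fun L _ _ _ _ _ _ => by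
    rw [hf_ev, if_neg fun h => H59.S2FX.ne01 (F := L) (Fin.rev_injective h)]
  have b : iT n x (qq (ev 1) (ev (Fin.rev 0))) = qq (ev 1) (ev (Fin.rev 0)) := by
    rw [iT_EE n x (a F), vx_ev, vx_ev, map_zero]
  have c0 : ac (qq (ev 1) (ev (Fin.rev 0)) : XU n K) (ev 0) = ev 0 + ev 1 := by
    rw [H78.S2.ac_qq' (a K), H59.S2FX.h01, zero_smul, add_zero, hf_ev, if_pos rfl, one_smul]
  have c1 : ac (qq (ev 1) (ev (Fin.rev 0)) : XU n K) (ev 1) = ev 1 := by
    rw [H78.S2.ac_qq' (a K), H86.SPI.hf_self, a, zero_smul, zero_smul, add_zero, add_zero]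
  refine KT.gP2 _ (h1.trans (le_sup_left.trans le_sup_left)) (qq (ev 1) (ev (Fin.rev 0)))
    (mem_sup_left (mem_sup_right (subset_closure ⟨1, one_mem _, _, H86.SPI.qq_sq (a F), trivial,
      ?_, by rw [b]; simp⟩))) ?_ fun r s h => ?_
  · rw [b]
    exact (H59.S2FX.nrm _ (by rw [c0]; exact H59.S2FX.w0.add H59.S2FX.w1)
      (by rw [c1]; exact H59.S2FX.w1)).1
  · rw [c0]
    exact (pl_wk (w0.add w1)).1
  · rw [c0, smul_add, ← add_assoc, ← add_smul] at h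
    obtain ⟨h2, rfl⟩ := H59.S2FX.li01 _ _ h
    exact ⟨by simpa using h2, rfl⟩

end H38.YS
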